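import Mathlib

/-!
Recognising `PGL(2, K)` from a Möbius-type action.

`iso_PGL`: if a group `G` acts on a set `Ω` identified with `OnePoint K` (`K` a field) such that
only the identity fixes the three points `∞, 0, 1`, and `G` contains elements acting as the
translations `x ↦ x + t`, the dilations `x ↦ s x` and the inversion `x ↦ x⁻¹`, then
`G ≃* PGL(2, K)`.
-/

set_option autoImplicit false

namespace Cfsg.Agent.Lib.Helper52.PGLIso

open OnePoint Matrix

universe u v w

variable {K : Type w} [Field K] [DecidableEq K]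

/-- the translation `x ↦ x + t` -/
noncomputable def T (t : K) : GL (Fin 2) K :=
  Matrix.GeneralLinearGroup.mkOfDetNeZero !![1, t; 0, 1] (by simp [Matrix.det_fin_two])

/-- the dilation `x ↦ s x` -/
noncomputable def D (s : K) (hs : s ≠ 0) : GL (Fin 2) K :=
  Matrix.GeneralLinearGroup.mkOfDetNeZero !![s, 0; 0, 1] (by simp [Matrix.det_fin_two, hs])

/-- the inversion `x ↦ x⁻¹` -/
noncomputable def W : GL (Fin 2) K :=
  Matrix.GeneralLinearGroup.mkOfDetNeZero !![0, 1; 1, 0] (by simp [Matrix.det_fin_two])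

theorem T_infty (t : K) : T t • (∞ : OnePoint K) = ∞ := by
  rw [OnePoint.smul_infty_eq_self_iff]
  simp [T]

theorem T_some (t x : K) : T t • (x : OnePoint K) = ((x + t : K) : OnePoint K) := by
  rw [OnePoint.smul_some_eq_ite]
  simp [T]

theorem D_infty (s : K) (hs : s ≠ 0) : D s hs • (∞ : OnePoint K) = ∞ := by
  rw [OnePoint.smul_infty_eq_self_iff]
  simp [D]

theorem D_some (s : K) (hs : s ≠ 0) (x : K) :
    D s hs • (x : OnePoint K) = ((s * x : K) : OnePoint K) := by
  rw [OnePoint.smul_some_eq_ite]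
  simp [D]

theorem W_infty : (W : GL (Fin 2) K) • (∞ : OnePoint K) = ((0 : K) : OnePoint K) := by
  rw [OnePoint.smul_infty_eq_ite]
  simp [W]

theorem W_zero : (W : GL (Fin 2) K) • ((0 : K) : OnePoint K) = ∞ := by
  rw [OnePoint.smul_some_eq_ite]
  simp [W]

theorem W_some (x : K) (hx : x ≠ 0) :
    (W : GL (Fin 2) K) • (x : OnePoint K) = ((x⁻¹ : K) : OnePoint K) := by
  rw [OnePoint.smul_some_eq_ite]
  simp [W, hx]

/-- A matrix fixing `∞, 0, 1` is central (scalar). -/
theorem mem_center_of_fix (m : GL (Fin 2) K) (h1 : m • (∞ : OnePoint K) = ∞)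
    (h2 : m • ((0 : K) : OnePoint K) = ((0 : K) : OnePoint K))
    (h3 : m • ((1 : K) : OnePoint K) = ((1 : K) : OnePoint K)) :
    m ∈ Subgroup.center (GL (Fin 2) K) := by
  rw [OnePoint.smul_infty_eq_self_iff] at h1
  rw [OnePoint.smul_some_eq_ite] at h2 h3
  simp only [mul_zero, zero_add, mul_one, h1] at h2 h3
  have h11 : m 1 1 ≠ 0 := by
    intro h
    rw [if_pos h] at h2
    exact OnePoint.infty_ne_coe _ h2
  rw [if_neg h11] at h2 h3
  have h01 : m 0 1 = 0 := by
    have := OnePoint.coe_injective h2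
    rcases div_eq_zero_iff.1 this with h | h
    · exact h
    · exact absurd h h11
  have h00 : m 0 0 = m 1 1 := by
    have := OnePoint.coe_injective h3
    rw [h01, add_zero, div_eq_one_iff_eq h11] at this
    exact this
  rw [Matrix.GeneralLinearGroup.center_eq_range_scalar]
  refine ⟨Units.mk0 (m 1 1) h11, ?_⟩
  apply Matrix.GeneralLinearGroup.ext
  intro i j
  fin_cases i <;> fin_cases j <;> simp [h1, h01, h00]

/-- Central matrices act trivially. -/
theorem center_smul (m : GL (Fin 2) K) (hm : m ∈ Subgroup.center (GL (Fin 2) K))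
    (x : OnePoint K) : m • x = x := by
  rw [Matrix.GeneralLinearGroup.center_eq_range_scalar] at hm
  obtain ⟨u, rfl⟩ := hm
  induction x using OnePoint.rec with
  | infty =>
    rw [OnePoint.smul_infty_eq_self_iff]
    simp
  | coe x =>
    rw [OnePoint.smul_some_eq_ite]
    simp

theorem iso_PGL {G : Type u} [Group G] {Ω : Type v} [MulAction G Ω] (ι : OnePoint K ≃ Ω)
    (hfix3 : ∀ g : G, g • ι ∞ = ι ∞ → g • ι ((0 : K) : OnePoint K) = ι ((0 : K) : OnePoint K) →
      g • ι ((1 : K) : OnePoint K) = ι ((1 : K) : OnePoint K) → g = 1)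
    (htr : ∀ t : K, ∃ g : G, g • ι ∞ = ι ∞ ∧
      ∀ x : K, g • ι (x : OnePoint K) = ι ((x + t : K) : OnePoint K))
    (hdil : ∀ s : K, s ≠ 0 → ∃ g : G, g • ι ∞ = ι ∞ ∧
      ∀ x : K, g • ι (x : OnePoint K) = ι ((s * x : K) : OnePoint K))
    (hinv : ∃ g : G, g • ι ∞ = ι ((0 : K) : OnePoint K) ∧ g • ι ((0 : K) : OnePoint K) = ι ∞ ∧
      ∀ x : K, x ≠ 0 → g • ι (x : OnePoint K) = ι ((x⁻¹ : K) : OnePoint K)) :
    Nonempty (G ≃* Matrix.ProjGenLinGroup (Fin 2) K) := by
  let R : G → GL (Fin 2) K → Prop := fun g m => ∀ x : OnePoint K, g • ι x = ι (m • x)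
  have R_mul : ∀ g g' m m', R g m → R g' m' → R (g * g') (m * m') := by
    intro g g' m m' h h' x
    rw [mul_smul, h' x, h (m' • x), mul_smul]
  have R_T : ∀ t : K, ∃ g, R g (T t) := by
    intro t
    obtain ⟨g, h1, h2⟩ := htr t
    refine ⟨g, fun x => ?_⟩
    induction x using OnePoint.rec with
    | infty => rw [T_infty, h1]
    | coe x => rw [T_some, h2]
  have R_D : ∀ (s : K) (hs : s ≠ 0), ∃ g, R g (D s hs) := by
    intro s hs
    obtain ⟨g, h1, h2⟩ := hdil s hs
    refine ⟨g, fun x => ?_⟩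
    induction x using OnePoint.rec with
    | infty => rw [D_infty, h1]
    | coe x => rw [D_some, h2]
  have R_W : ∃ g, R g (W : GL (Fin 2) K) := by
    obtain ⟨g, h1, h2, h3⟩ := hinv
    refine ⟨g, fun x => ?_⟩
    induction x using OnePoint.rec with
    | infty => rw [W_infty, h1]
    | coe x =>
      by_cases hx : x = 0
      · subst hx
        rw [W_zero, h2]
      · rw [W_some x hx, h3 x hx]
  have R_uniq : ∀ g g' m, R g m → R g' m → g = g' := by
    intro g g' m h h'
    have e : ∀ x : OnePoint K, (g'⁻¹ * g) • ι x = ι x := by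
      intro x
      rw [mul_smul, h x, ← h' x, inv_smul_smul]
    have := hfix3 _ (e _) (e _) (e _)
    calc g = g' * (g'⁻¹ * g) := by group
      _ = g' := by rw [this, mul_one]
  have key1 : ∀ q r : K, q ≠ r → ∃ g m, R g m ∧ m • (∞ : OnePoint K) = ∞ ∧
      m • ((0 : K) : OnePoint K) = (q : OnePoint K) ∧
      m • ((1 : K) : OnePoint K) = (r : OnePoint K) := by
    intro q r hqr
    obtain ⟨g₁, h₁⟩ := R_T q
    obtain ⟨g₂, h₂⟩ := R_D (r - q) (sub_ne_zero.2 (Ne.symm hqr))
    refine ⟨g₁ * g₂, T q * D (r - q) (sub_ne_zero.2 (Ne.symm hqr)), R_mul _ _ _ _ h₁ h₂,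
      ?_, ?_, ?_⟩
    · rw [mul_smul, D_infty, T_infty]
    · rw [mul_smul, D_some, T_some]
      simp
    · rw [mul_smul, D_some, T_some]
      simp
  have key : ∀ p q r : OnePoint K, p ≠ q → p ≠ r → q ≠ r → ∃ g m, R g m ∧
      m • (∞ : OnePoint K) = p ∧ m • ((0 : K) : OnePoint K) = q ∧
      m • ((1 : K) : OnePoint K) = r := by
    intro p q r hpq hpr hqr
    induction p using OnePoint.rec with
    | infty =>
      obtain ⟨q, rfl⟩ := OnePoint.ne_infty_iff_exists.1 (Ne.symm hpq)
      obtain ⟨r, rfl⟩ := OnePoint.ne_infty_iff_exists.1 (Ne.symm hpr)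
      exact key1 q r (fun h => hqr (by rw [h]))
    | coe p =>
      obtain ⟨g₁, h₁⟩ := R_T p
      obtain ⟨g₂, h₂⟩ := R_W
      have hn : (T p * W) • (∞ : OnePoint K) = (p : OnePoint K) := by
        rw [mul_smul, W_infty, T_some, zero_add]
      have hq' : (T p * W)⁻¹ • q ≠ ∞ := by
        intro h
        rw [inv_smul_eq_iff, hn] at h
        exact hpq h.symm
      have hr' : (T p * W)⁻¹ • r ≠ ∞ := by
        intro h
        rw [inv_smul_eq_iff, hn] at h
        exact hpr h.symm
      obtain ⟨q', hq'e⟩ := OnePoint.ne_infty_iff_exists.1 hq'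
      obtain ⟨r', hr'e⟩ := OnePoint.ne_infty_iff_exists.1 hr'
      have hqr' : q' ≠ r' := by
        intro h
        apply hqr
        have e : (T p * W)⁻¹ • q = (T p * W)⁻¹ • r := by rw [← hq'e, ← hr'e, h]
        exact smul_left_cancel _ e
      obtain ⟨g₃, m₃, h₃, e1, e2, e3⟩ := key1 q' r' hqr'
      refine ⟨g₁ * g₂ * g₃, T p * W * m₃, R_mul _ _ _ _ (R_mul _ _ _ _ h₁ h₂) h₃, ?_, ?_, ?_⟩
      · rw [mul_smul, e1, hn]
      · rw [mul_smul, e2, hq'e, smul_inv_smul]
      · rw [mul_smul, e3, hr'e, smul_inv_smul]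
  have h01 : ((0 : K) : OnePoint K) ≠ ((1 : K) : OnePoint K) := by
    intro h
    exact zero_ne_one (OnePoint.coe_injective h)
  have all_m : ∀ m : GL (Fin 2) K, ∃ g, R g m := by
    intro m
    obtain ⟨g, m', h, e1, e2, e3⟩ := key (m • ∞) (m • ((0 : K) : OnePoint K))
      (m • ((1 : K) : OnePoint K))
      (fun h => OnePoint.infty_ne_coe _ (smul_left_cancel _ h))
      (fun h => OnePoint.infty_ne_coe _ (smul_left_cancel _ h))
      (fun h => h01 (smul_left_cancel _ h))
    have hc : m'⁻¹ * m ∈ Subgroup.center (GL (Fin 2) K) :=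
      mem_center_of_fix _ (by rw [mul_smul, ← e1, inv_smul_smul])
        (by rw [mul_smul, ← e2, inv_smul_smul]) (by rw [mul_smul, ← e3, inv_smul_smul])
    refine ⟨g, fun x => ?_⟩
    rw [h x]
    congr 1
    have := center_smul _ hc x
    rw [mul_smul, inv_smul_eq_iff] at this
    exact this.symm
  have all_g : ∀ g : G, ∃ m, R g m := by
    intro g
    obtain ⟨g', m', h, e1, e2, e3⟩ := key (ι.symm (g • ι ∞))
      (ι.symm (g • ι ((0 : K) : OnePoint K))) (ι.symm (g • ι ((1 : K) : OnePoint K)))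
      (fun h => OnePoint.infty_ne_coe _
        (ι.injective (smul_left_cancel _ (ι.symm.injective h))))
      (fun h => OnePoint.infty_ne_coe _
        (ι.injective (smul_left_cancel _ (ι.symm.injective h))))
      (fun h => h01 (ι.injective (smul_left_cancel _ (ι.symm.injective h))))
    have hgg : g'⁻¹ * g = 1 := by
      apply hfix3
      · rw [mul_smul, inv_smul_eq_iff, h, e1, Equiv.apply_symm_apply]
      · rw [mul_smul, inv_smul_eq_iff, h, e2, Equiv.apply_symm_apply]
      · rw [mul_smul, inv_smul_eq_iff, h, e3, Equiv.apply_symm_apply]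
    have hge : g = g' := by
      calc g = g' * (g'⁻¹ * g) := by group
        _ = g' := by rw [hgg, mul_one]
    exact ⟨m', hge ▸ h⟩
  choose φ hφ using all_m
  let Φ : GL (Fin 2) K →* G := MonoidHom.mk' φ
    (fun m m' => R_uniq _ _ _ (hφ (m * m')) (R_mul _ _ _ _ (hφ m) (hφ m')))
  have hsurj : Function.Surjective Φ := by
    intro g
    obtain ⟨m, hm⟩ := all_g g
    exact ⟨m, R_uniq _ _ _ (hφ m) hm⟩
  have hker : Φ.ker = Subgroup.center (GL (Fin 2) K) := by
    ext m
    rw [MonoidHom.mem_ker]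
    constructor
    · intro h
      have hR := hφ m
      have h' : φ m = 1 := h
      rw [h'] at hR
      have e : ∀ x : OnePoint K, m • x = x := by
        intro x
        have := hR x
        rw [one_smul] at this
        exact (ι.injective this).symm
      exact mem_center_of_fix m (e _) (e _) (e _)
    · intro h
      have h1 : R 1 m := by
        intro x
        rw [one_smul, center_smul m h x]
      exact R_uniq _ _ m (hφ m) h1
  exact ⟨((QuotientGroup.quotientMulEquivOfEq hker).symm.trans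
    (QuotientGroup.quotientKerEquivOfSurjective Φ hsurj)).symm⟩

end Cfsg.Agent.Lib.Helper52.PGLIso
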