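import Mathlib
import Cfsg.Agent.Lib.Helper52.PGLIso

/-!
The field of a sharply triply transitive group in characteristic 2.

`Config G Ω`: `G` acts triply transitively on `Ω`, only the identity fixes three points, and `U` is
a subgroup of exponent 2 fixing the point `a` and regular on the other points.
`Config.exists_field`: then `G ≃* PGL(2, F)` for a finite field `F` with `|F| = |U|`
(`F` in the universe of `G`); `exists_field_type0` gives `F : Type`.
-/

set_option autoImplicit false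

namespace Cfsg.Agent.Lib.Helper52.S3TField

open OnePoint

universe u v

section general

variable {G : Type*} [Group G]

/-- An involution acting without fixed points on a finite group inverts it. -/
theorem inverts_of_fpf [Finite G] (K : Subgroup G) (w : G) (hw : w * w = 1)
    (hK : ∀ c ∈ K, w * c * w⁻¹ ∈ K) (fpf : ∀ c ∈ K, w * c = c * w → c = 1) :
    ∀ c ∈ K, w * c * w⁻¹ = c⁻¹ := by
  let φ : K → K := fun c => ⟨(c : G)⁻¹ * (w * c * w⁻¹), K.mul_mem (K.inv_mem c.2) (hK c c.2)⟩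
  have hinj : Function.Injective φ := by
    intro c e hce
    have h' : (c : G)⁻¹ * (w * c * w⁻¹) = (e : G)⁻¹ * (w * e * w⁻¹) := congrArg Subtype.val hce
    have hcomm : w * ((e : G) * (c : G)⁻¹) = ((e : G) * (c : G)⁻¹) * w := by
      have : (e : G) * (c : G)⁻¹ = w * ((e : G) * (c : G)⁻¹) * w⁻¹ := by
        calc (e : G) * (c : G)⁻¹
            = (e : G) * ((c : G)⁻¹ * (w * c * w⁻¹)) * (w * c * w⁻¹)⁻¹ := by group
          _ = (e : G) * ((e : G)⁻¹ * (w * e * w⁻¹)) * (w * c * w⁻¹)⁻¹ := by rw [h']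
          _ = w * ((e : G) * (c : G)⁻¹) * w⁻¹ := by group
      calc w * ((e : G) * (c : G)⁻¹) = (w * ((e : G) * (c : G)⁻¹) * w⁻¹) * w := by group
        _ = ((e : G) * (c : G)⁻¹) * w := by rw [← this]
    have := fpf _ (K.mul_mem e.2 (K.inv_mem c.2)) hcomm
    exact Subtype.ext (mul_inv_eq_one.1 this).symm
  have hsurj := Finite.surjective_of_injective hinj
  intro c hc
  obtain ⟨e, he⟩ := hsurj ⟨c, hc⟩
  have he' : (e : G)⁻¹ * (w * e * w⁻¹) = c := congrArg Subtype.val he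
  rw [← he']
  calc w * ((e : G)⁻¹ * (w * e * w⁻¹)) * w⁻¹
      = w * (e : G)⁻¹ * w⁻¹ * ((w * w) * e * (w * w)⁻¹) := by group
    _ = ((e : G)⁻¹ * (w * e * w⁻¹))⁻¹ := by rw [hw]; group

theorem comm_of_inverted (w x y : G) (i1 : w * x * w⁻¹ = x⁻¹) (i2 : w * y * w⁻¹ = y⁻¹)
    (i3 : w * (x * y) * w⁻¹ = (x * y)⁻¹) : x * y = y * x := by
  have : x⁻¹ * y⁻¹ = y⁻¹ * x⁻¹ := by
    calc x⁻¹ * y⁻¹ = (w * x * w⁻¹) * (w * y * w⁻¹) := by rw [i1, i2]
      _ = w * (x * y) * w⁻¹ := by group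
      _ = y⁻¹ * x⁻¹ := by rw [i3, mul_inv_rev]
  calc x * y = (y⁻¹ * x⁻¹)⁻¹ := by group
    _ = (x⁻¹ * y⁻¹)⁻¹ := by rw [this]
    _ = y * x := by group

end general

/-- A sharply triply transitive group with a subgroup `U` of exponent 2 fixing `a` and regular
on the other points. -/
structure Config (G : Type u) [Group G] (Ω : Type v) [MulAction G Ω] where
  a : Ω
  b : Ω
  c : Ω
  hab : a ≠ b
  hac : a ≠ c
  hbc : b ≠ c
  U : Subgroup G
  h3 : ∀ x y z x' y' z' : Ω, x ≠ y → x ≠ z → y ≠ z → x' ≠ y' → x' ≠ z' → y' ≠ z' →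
    ∃ g : G, g • x = x' ∧ g • y = y' ∧ g • z = z'
  hfix : ∀ (g : G) (x y z : Ω), x ≠ y → x ≠ z → y ≠ z → g • x = x → g • y = y → g • z = z → g = 1
  hUa : ∀ u ∈ U, u • a = a
  hUtr : ∀ x y : Ω, x ≠ a → y ≠ a → ∃ u ∈ U, u • x = y
  hUfree : ∀ u ∈ U, ∀ x : Ω, x ≠ a → u • x = x → u = 1
  hU2 : ∀ u ∈ U, u * u = 1

namespace Config

variable {G : Type u} [Group G] {Ω : Type v} [MulAction G Ω] (C : Config G Ω)

theorem finite_group (C : Config G Ω) [Finite Ω] : Finite G := by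
  apply Finite.of_injective (fun g : G => (g • C.a, g • C.b, g • C.c))
  intro g g' h
  simp only [Prod.mk.injEq] at h
  obtain ⟨h1, h2, h3⟩ := h
  have : g'⁻¹ * g = 1 := C.hfix _ C.a C.b C.c C.hab C.hac C.hbc
    (by rw [mul_smul, h1, inv_smul_smul]) (by rw [mul_smul, h2, inv_smul_smul])
    (by rw [mul_smul, h3, inv_smul_smul])
  calc g = g' * (g'⁻¹ * g) := by group
    _ = g' := by rw [this, mul_one]

theorem mem_U_of_sq {t : G} (ha : t • C.a = C.a) (ht : t * t = 1) : t ∈ C.U := by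
  by_cases h1 : t = 1
  · rw [h1]; exact C.U.one_mem
  · have hex : ∃ x : Ω, t • x ≠ x := by
      by_contra hcon
      push Not at hcon
      exact h1 (C.hfix t C.a C.b C.c C.hab C.hac C.hbc (hcon _) (hcon _) (hcon _))
    obtain ⟨x, hx⟩ := hex
    have hxa : x ≠ C.a := by rintro rfl; exact hx ha
    have hya : t • x ≠ C.a := by
      intro h
      have h' : t • x = t • C.a := by rw [ha]; exact h
      exact hxa (smul_left_cancel _ h')
    obtain ⟨u, hu, hux⟩ := C.hUtr x (t • x) hxa hya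
    have huy : u • (t • x) = x := by rw [← hux, smul_smul, C.hU2 u hu, one_smul]
    have hty : t • (t • x) = x := by rw [smul_smul, ht, one_smul]
    have hfix1 : (u⁻¹ * t) • C.a = C.a := by rw [mul_smul, ha, inv_smul_eq_iff, C.hUa u hu]
    have hfix2 : (u⁻¹ * t) • x = x := by rw [mul_smul, inv_smul_eq_iff, hux]
    have hfix3 : (u⁻¹ * t) • (t • x) = t • x := by
      rw [mul_smul, hty, inv_smul_eq_iff, huy]
    have := C.hfix _ C.a x (t • x) (Ne.symm hxa) (Ne.symm hya) (Ne.symm hx) hfix1 hfix2 hfix3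
    have e : t = u * (u⁻¹ * t) := by group
    rw [e, this, mul_one]; exact hu

theorem conj_mem_U {g u : G} (hg : g • C.a = C.a) (hu : u ∈ C.U) : g * u * g⁻¹ ∈ C.U := by
  apply C.mem_U_of_sq
  · rw [mul_smul, mul_smul, inv_smul_eq_iff.2 hg.symm, C.hUa u hu, hg]
  · have : g * u * g⁻¹ * (g * u * g⁻¹) = g * (u * u) * g⁻¹ := by group
    rw [this, C.hU2 u hu]; group

theorem U_comm {u u' : G} (hu : u ∈ C.U) (hu' : u' ∈ C.U) : u * u' = u' * u := by
  have h1 := C.hU2 u hu
  have h2 := C.hU2 u' hu'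
  have h3 := C.hU2 (u * u') (C.U.mul_mem hu hu')
  calc u * u' = u * (u * u' * (u * u')) * u' := by rw [h3, mul_one]
    _ = (u * u) * (u' * u) * (u' * u') := by group
    _ = u' * u := by rw [h1, h2, one_mul, mul_one]

theorem exists_w : ∃ w : G, w • C.a = C.b ∧ w • C.b = C.a ∧ w • C.c = C.c ∧ w * w = 1 := by
  obtain ⟨w, h1, h2, h3⟩ := C.h3 C.a C.b C.c C.b C.a C.c C.hab C.hac C.hbc (Ne.symm C.hab)
    C.hbc C.hac
  refine ⟨w, h1, h2, h3, ?_⟩
  apply C.hfix _ C.a C.b C.c C.hab C.hac C.hbc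
  · rw [mul_smul, h1, h2]
  · rw [mul_smul, h2, h1]
  · rw [mul_smul, h3, h3]

theorem w_fix_unique {w : G} (h1 : w • C.a = C.b) (h3 : w • C.c = C.c) (hw : w * w = 1)
    {x : Ω} (hx : w • x = x) : x = C.c := by
  by_contra hxc
  obtain ⟨g, hg1, -, -⟩ := C.h3 C.a C.b C.c C.c C.a C.b C.hab C.hac C.hbc (Ne.symm C.hac)
    (Ne.symm C.hbc) C.hab
  have hgi : g⁻¹ • C.c = C.a := by rw [inv_smul_eq_iff, hg1]
  have hta : (g⁻¹ * w * g) • C.a = C.a := by rw [mul_smul, mul_smul, hg1, h3, hgi]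
  have htt : (g⁻¹ * w * g) * (g⁻¹ * w * g) = 1 := by
    have : (g⁻¹ * w * g) * (g⁻¹ * w * g) = g⁻¹ * (w * w) * g := by group
    rw [this, hw]; group
  have htU := C.mem_U_of_sq hta htt
  have hne : g⁻¹ • x ≠ C.a := by
    intro h
    rw [inv_smul_eq_iff, hg1] at h
    exact hxc h
  have hfx : (g⁻¹ * w * g) • (g⁻¹ • x) = g⁻¹ • x := by
    rw [mul_smul, mul_smul, smul_inv_smul, hx]
  have h1' := C.hUfree _ htU _ hne hfx
  have hw1 : w = 1 := by
    have : w = g * (g⁻¹ * w * g) * g⁻¹ := by group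
    rw [this, h1']; group
  rw [hw1, one_smul] at h1
  exact C.hab h1

theorem w_inverts [Finite Ω] {w : G} (h1 : w • C.a = C.b) (h2 : w • C.b = C.a)
    (h3 : w • C.c = C.c) (hw : w * w = 1) {h : G} (ha : h • C.a = C.a) (hb : h • C.b = C.b) :
    w * h * w⁻¹ = h⁻¹ := by
  have := C.finite_group
  have hwi : w⁻¹ = w := by rw [inv_eq_iff_mul_eq_one]; exact hw
  apply inverts_of_fpf (MulAction.stabilizer G C.a ⊓ MulAction.stabilizer G C.b) w hw
  · intro k hk
    rw [Subgroup.mem_inf] at hk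
    have k1 : k • C.a = C.a := hk.1
    have k2 : k • C.b = C.b := hk.2
    refine Subgroup.mem_inf.2 ⟨?_, ?_⟩
    · show (w * k * w⁻¹) • C.a = C.a
      rw [hwi, mul_smul, mul_smul, h1, k2, h2]
    · show (w * k * w⁻¹) • C.b = C.b
      rw [hwi, mul_smul, mul_smul, h2, k1, h1]
  · intro k hk hc
    rw [Subgroup.mem_inf] at hk
    have k1 : k • C.a = C.a := hk.1
    have k2 : k • C.b = C.b := hk.2
    have k3 : k • C.c = C.c := C.w_fix_unique h1 h3 hw (by rw [smul_smul, hc, mul_smul, h3])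
    exact C.hfix k _ _ _ C.hab C.hac C.hbc k1 k2 k3
  · exact Subgroup.mem_inf.2 ⟨ha, hb⟩

theorem H_comm [Finite Ω] {h k : G} (ha : h • C.a = C.a) (hb : h • C.b = C.b)
    (ka : k • C.a = C.a) (kb : k • C.b = C.b) : h * k = k * h := by
  obtain ⟨w, h1, h2, h3, hw⟩ := C.exists_w
  exact comm_of_inverted w h k (C.w_inverts h1 h2 h3 hw ha hb) (C.w_inverts h1 h2 h3 hw ka kb)
    (C.w_inverts h1 h2 h3 hw (by rw [mul_smul, ka, ha]) (by rw [mul_smul, kb, hb]))

theorem smul_b_ne_a {u : G} (hu : u ∈ C.U) : u • C.b ≠ C.a := by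
  intro h
  have h' : u • C.b = u • C.a := by rw [C.hUa u hu]; exact h
  exact C.hab (smul_left_cancel _ h').symm

theorem H_trans {u u' : G} (hu : u ∈ C.U) (hu1 : u ≠ 1) (hu' : u' ∈ C.U) (hu'1 : u' ≠ 1) :
    ∃ h : G, h • C.a = C.a ∧ h • C.b = C.b ∧ h * u * h⁻¹ = u' := by
  have hb1 : u • C.b ≠ C.b := fun h => hu1 (C.hUfree u hu _ (Ne.symm C.hab) h)
  have hb1' : u' • C.b ≠ C.b := fun h => hu'1 (C.hUfree u' hu' _ (Ne.symm C.hab) h)
  obtain ⟨h, e1, e2, e3⟩ := C.h3 C.a C.b (u • C.b) C.a C.b (u' • C.b) C.hab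
    (Ne.symm (C.smul_b_ne_a hu)) (Ne.symm hb1) C.hab (Ne.symm (C.smul_b_ne_a hu')) (Ne.symm hb1')
  refine ⟨h, e1, e2, ?_⟩
  have hmem : u'⁻¹ * (h * u * h⁻¹) ∈ C.U :=
    C.U.mul_mem (C.U.inv_mem hu') (C.conj_mem_U e1 hu)
  have hfix : (u'⁻¹ * (h * u * h⁻¹)) • C.b = C.b := by
    rw [mul_smul, mul_smul, mul_smul, inv_smul_eq_iff.2 e2.symm, e3, inv_smul_smul]
  have := C.hUfree _ hmem _ (Ne.symm C.hab) hfix
  calc h * u * h⁻¹ = u' * (u'⁻¹ * (h * u * h⁻¹)) := by group
    _ = u' := by rw [this, mul_one]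

/-- the commutative group structure on `U` -/
@[reducible] def commGroupU : CommGroup ↥C.U :=
  { (inferInstance : Group ↥C.U) with
    mul_comm := fun x y => Subtype.ext (C.U_comm x.2 y.2) }

attribute [local instance] commGroupU

/-- conjugation by an element of the stabiliser of `a`, on `U` -/
def conjHom (h : G) (hh : h • C.a = C.a) : ↥C.U →* ↥C.U where
  toFun x := ⟨h * x * h⁻¹, C.conj_mem_U hh x.2⟩
  map_one' := by
    apply Subtype.ext
    simp
  map_mul' := by
    intro x y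
    apply Subtype.ext
    simp

/-- conjugation as an additive endomorphism -/
def conjEnd (h : G) (hh : h • C.a = C.a) : AddMonoid.End (Additive ↥C.U) :=
  MonoidHom.toAdditive (C.conjHom h hh)

theorem End_add_apply (ψ₁ ψ₂ : AddMonoid.End (Additive ↥C.U)) (x : Additive ↥C.U) :
    (ψ₁ + ψ₂) x = ψ₁ x + ψ₂ x := rfl

theorem End_neg_apply (ψ : AddMonoid.End (Additive ↥C.U)) (x : Additive ↥C.U) :
    (-ψ) x = -(ψ x) := rfl

theorem End_mul_apply (ψ₁ ψ₂ : AddMonoid.End (Additive ↥C.U)) (x : Additive ↥C.U) :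
    (ψ₁ * ψ₂) x = ψ₁ (ψ₂ x) := rfl

theorem conjEnd_apply (h : G) (hh : h • C.a = C.a) (x : Additive ↥C.U) :
    C.conjEnd h hh x = Additive.ofMul (C.conjHom h hh (Additive.toMul x)) := rfl

theorem conjHom_coe (h : G) (hh : h • C.a = C.a) (x : ↥C.U) :
    ((C.conjHom h hh x : ↥C.U) : G) = h * x * h⁻¹ := rfl

theorem conjEnd_congr {h h' : G} (e : h = h') (hh : h • C.a = C.a) (hh' : h' • C.a = C.a) :
    C.conjEnd h hh = C.conjEnd h' hh' := by
  subst e
  rfl

theorem conjEnd_one : C.conjEnd 1 (one_smul G C.a) = 1 := by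
  apply AddMonoid.End.ext
  intro x
  rw [conjEnd_apply]
  show Additive.ofMul (C.conjHom 1 (one_smul G C.a) (Additive.toMul x)) = x
  have : C.conjHom 1 (one_smul G C.a) (Additive.toMul x) = Additive.toMul x := by
    apply Subtype.ext
    rw [conjHom_coe]
    group
  rw [this]
  rfl

theorem conjEnd_mul (h k : G) (hh : h • C.a = C.a) (hk : k • C.a = C.a)
    (hhk : (h * k) • C.a = C.a) :
    C.conjEnd (h * k) hhk = C.conjEnd h hh * C.conjEnd k hk := by
  apply AddMonoid.End.ext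
  intro x
  show C.conjEnd (h * k) hhk x = C.conjEnd h hh (C.conjEnd k hk x)
  rw [conjEnd_apply, conjEnd_apply, conjEnd_apply]
  congr 1
  apply Subtype.ext
  rw [conjHom_coe, conjHom_coe]
  show h * k * ((Additive.toMul x : ↥C.U) : G) * (h * k)⁻¹ =
    h * (k * ((Additive.toMul x : ↥C.U) : G) * k⁻¹) * h⁻¹
  group

theorem conj_comm [Finite Ω] {g m : G} (ga : g • C.a = C.a) (gb : g • C.b = C.b)
    (ma : m • C.a = C.a) (mb : m • C.b = C.b) (x : Additive ↥C.U) :
    C.conjEnd g ga (C.conjEnd m ma x) = C.conjEnd m ma (C.conjEnd g ga x) := by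
  have hgm : (g * m) • C.a = C.a := by rw [mul_smul, ma, ga]
  have hmg : (m * g) • C.a = C.a := by rw [mul_smul, ga, ma]
  have e1 : C.conjEnd g ga (C.conjEnd m ma x) = C.conjEnd (g * m) hgm x := by
    rw [conjEnd_mul C g m ga ma hgm]; rfl
  have e2 : C.conjEnd m ma (C.conjEnd g ga x) = C.conjEnd (m * g) hmg x := by
    rw [conjEnd_mul C m g ma ga hmg]; rfl
  rw [e1, e2, conjEnd_congr C (C.H_comm ga gb ma mb) hgm hmg]

/-- the carrier of the field: `0` and the conjugations by the two-point stabiliser -/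
def Eset : Set (AddMonoid.End (Additive ↥C.U)) :=
  {ψ | ψ = 0 ∨ ∃ (h : G) (hh : h • C.a = C.a), h • C.b = C.b ∧ ψ = C.conjEnd h hh}

/-- the base element of `U`, mapping `b` to `c` -/
noncomputable def u1 : ↥C.U :=
  ⟨Classical.choose (C.hUtr C.b C.c (Ne.symm C.hab) (Ne.symm C.hac)),
    (Classical.choose_spec (C.hUtr C.b C.c (Ne.symm C.hab) (Ne.symm C.hac))).1⟩

theorem u1_smul : (C.u1 : G) • C.b = C.c :=
  (Classical.choose_spec (C.hUtr C.b C.c (Ne.symm C.hab) (Ne.symm C.hac))).2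

theorem u1_ne_one : (C.u1 : G) ≠ 1 := by
  intro h
  have := C.u1_smul
  rw [h, one_smul] at this
  exact C.hbc this

/-- every nonzero element of `U` is an `H`-conjugate of the base element -/
theorem exists_conj {x : Additive ↥C.U} (hx : x ≠ 0) :
    ∃ (g : G) (ga : g • C.a = C.a), g • C.b = C.b ∧
      x = C.conjEnd g ga (Additive.ofMul C.u1) := by
  have hu1 : ((Additive.toMul x : ↥C.U) : G) ≠ 1 := by
    intro h
    apply hx
    have h' : Additive.toMul x = 1 := Subtype.ext h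
    exact h'
  obtain ⟨g, ga, gb, hg⟩ := C.H_trans C.u1.2 C.u1_ne_one (Additive.toMul x).2 hu1
  refine ⟨g, ga, gb, ?_⟩
  rw [conjEnd_apply]
  have : C.conjHom g ga (Additive.toMul (Additive.ofMul C.u1)) = Additive.toMul x :=
    Subtype.ext hg
  rw [this]
  rfl

theorem Eset_comm [Finite Ω] {ψ : AddMonoid.End (Additive ↥C.U)} (hψ : ψ ∈ C.Eset) {g : G}
    (ga : g • C.a = C.a) (gb : g • C.b = C.b) (x : Additive ↥C.U) :
    ψ (C.conjEnd g ga x) = C.conjEnd g ga (ψ x) := by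
  rcases hψ with h0 | ⟨h, ha, hb, he⟩
  · rw [h0]
    simp
  · rw [he]
    exact C.conj_comm ha hb ga gb x

theorem mem_Eset_of_comm [Finite Ω] (ψ : AddMonoid.End (Additive ↥C.U))
    (hψ : ∀ (g : G) (ga : g • C.a = C.a), g • C.b = C.b →
      ∀ x, ψ (C.conjEnd g ga x) = C.conjEnd g ga (ψ x)) : ψ ∈ C.Eset := by
  by_cases hv : ψ (Additive.ofMul C.u1) = 0
  · left
    apply AddMonoid.End.ext
    intro x
    rw [AddMonoid.End.zero_apply]
    by_cases hx : x = 0
    · rw [hx, map_zero]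
    · obtain ⟨g, ga, gb, e⟩ := C.exists_conj hx
      rw [e, hψ g ga gb, hv, map_zero]
  · right
    obtain ⟨m, ma, mb, e2⟩ := C.exists_conj hv
    refine ⟨m, ma, mb, ?_⟩
    apply AddMonoid.End.ext
    intro x
    by_cases hx : x = 0
    · rw [hx, map_zero, map_zero]
    · obtain ⟨g, ga, gb, e⟩ := C.exists_conj hx
      rw [e, hψ g ga gb, e2]
      exact C.conj_comm ga gb ma mb _

theorem Eset_ext [Finite Ω] {ψ ψ' : AddMonoid.End (Additive ↥C.U)} (hψ : ψ ∈ C.Eset)
    (hψ' : ψ' ∈ C.Eset) (h : ψ (Additive.ofMul C.u1) = ψ' (Additive.ofMul C.u1)) : ψ = ψ' := by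
  apply AddMonoid.End.ext
  intro x
  by_cases hx : x = 0
  · rw [hx, map_zero, map_zero]
  · obtain ⟨g, ga, gb, e⟩ := C.exists_conj hx
    rw [e, C.Eset_comm hψ ga gb, C.Eset_comm hψ' ga gb, h]

theorem neg_eq_self (ψ : AddMonoid.End (Additive ↥C.U)) : -ψ = ψ := by
  apply AddMonoid.End.ext
  intro x
  rw [C.End_neg_apply, neg_eq_iff_add_eq_zero]
  show Additive.ofMul (Additive.toMul (ψ x) * Additive.toMul (ψ x)) = Additive.ofMul 1
  congr 1
  exact Subtype.ext (C.hU2 _ (Additive.toMul (ψ x)).2)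

/-- the field, as a subring of the endomorphism ring of `U` -/
def E [Finite Ω] : Subring (AddMonoid.End (Additive ↥C.U)) where
  carrier := C.Eset
  mul_mem' := by
    intro ψ₁ ψ₂ h₁ h₂
    rcases h₁ with h0 | ⟨h, ha, hb, he⟩
    · left; rw [h0, zero_mul]
    · rcases h₂ with h0 | ⟨k, ka, kb, he'⟩
      · left; rw [h0, mul_zero]
      · right
        refine ⟨h * k, by rw [mul_smul, ka, ha], by rw [mul_smul, kb, hb], ?_⟩
        rw [he, he', ← conjEnd_mul]
  one_mem' := Or.inr ⟨1, one_smul _ _, one_smul _ _, (C.conjEnd_one).symm⟩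
  add_mem' := by
    intro ψ₁ ψ₂ h₁ h₂
    apply C.mem_Eset_of_comm
    intro g ga gb x
    rw [C.End_add_apply, C.End_add_apply, map_add, C.Eset_comm h₁ ga gb,
      C.Eset_comm h₂ ga gb]
  zero_mem' := Or.inl rfl
  neg_mem' := by
    intro ψ h
    rw [C.neg_eq_self]
    exact h

theorem zero_ne_one_E [Finite Ω] : (0 : ↥C.E) ≠ 1 := by
  intro h
  have h' : (0 : AddMonoid.End (Additive ↥C.U)) = 1 := congrArg Subtype.val h
  have h'' := DFunLike.congr_fun h' (Additive.ofMul C.u1)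
  apply C.u1_ne_one
  have h3 : (1 : ↥C.U) = C.u1 := h''
  exact (congrArg Subtype.val h3).symm

theorem mem_E_cases [Finite Ω] (x : ↥C.E) :
    (x : AddMonoid.End (Additive ↥C.U)) = 0 ∨
      ∃ (h : G) (hh : h • C.a = C.a), h • C.b = C.b ∧
        (x : AddMonoid.End (Additive ↥C.U)) = C.conjEnd h hh := x.2

theorem isField [Finite Ω] : IsField ↥C.E where
  exists_pair_ne := ⟨0, 1, C.zero_ne_one_E⟩
  mul_comm := by
    intro x y
    apply Subtype.ext
    show (x : AddMonoid.End (Additive ↥C.U)) * y = y * x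
    apply AddMonoid.End.ext
    intro z
    show (x : AddMonoid.End (Additive ↥C.U)) ((y : AddMonoid.End (Additive ↥C.U)) z) =
      (y : AddMonoid.End (Additive ↥C.U)) ((x : AddMonoid.End (Additive ↥C.U)) z)
    rcases C.mem_E_cases x with h0 | ⟨h, ha, hb, he⟩
    · rw [h0]
      simp
    · rw [he]
      exact (C.Eset_comm y.2 ha hb z).symm
  mul_inv_cancel := by
    intro x hx
    rcases C.mem_E_cases x with h0 | ⟨h, ha, hb, he⟩
    · exact absurd (Subtype.ext h0) hx
    · have hia : h⁻¹ • C.a = C.a := inv_smul_eq_iff.2 ha.symm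
      have hib : h⁻¹ • C.b = C.b := inv_smul_eq_iff.2 hb.symm
      refine ⟨⟨C.conjEnd h⁻¹ hia, Or.inr ⟨h⁻¹, hia, hib, rfl⟩⟩, ?_⟩
      apply Subtype.ext
      show (x : AddMonoid.End (Additive ↥C.U)) * C.conjEnd h⁻¹ hia = 1
      rw [he, ← C.conjEnd_mul h h⁻¹ ha hia (by rw [mul_inv_cancel, one_smul]),
        C.conjEnd_congr (mul_inv_cancel h) _ (one_smul G C.a), C.conjEnd_one]

/-- evaluation at the base element: a bijection from the field onto `U` -/
noncomputable def ev [Finite Ω] (ψ : ↥C.E) : ↥C.U :=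
  Additive.toMul ((ψ : AddMonoid.End (Additive ↥C.U)) (Additive.ofMul C.u1))

theorem ev_zero [Finite Ω] : C.ev 0 = 1 := rfl

theorem ev_one [Finite Ω] : C.ev 1 = C.u1 := rfl

theorem ev_add [Finite Ω] (x y : ↥C.E) : C.ev (x + y) = C.ev x * C.ev y := rfl

theorem ev_conj [Finite Ω] (x : ↥C.E) {h : G} (ha : h • C.a = C.a)
    (he : (x : AddMonoid.End (Additive ↥C.U)) = C.conjEnd h ha) :
    ((C.ev x : ↥C.U) : G) = h * C.u1 * h⁻¹ := by
  unfold ev
  rw [he]
  rfl

theorem ev_mul_conj [Finite Ω] (x y : ↥C.E) {h : G} (ha : h • C.a = C.a)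
    (he : (x : AddMonoid.End (Additive ↥C.U)) = C.conjEnd h ha) :
    ((C.ev (x * y) : ↥C.U) : G) = h * (C.ev y : ↥C.U) * h⁻¹ := by
  unfold ev
  show ((Additive.toMul (((x : AddMonoid.End (Additive ↥C.U)) * y) (Additive.ofMul C.u1)) :
    ↥C.U) : G) = _
  rw [he]
  rfl

theorem ev_injective [Finite Ω] : Function.Injective C.ev := by
  intro ψ ψ' h
  apply Subtype.ext
  apply C.Eset_ext ψ.2 ψ'.2
  exact h

theorem ev_surjective [Finite Ω] : Function.Surjective C.ev := by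
  intro u
  by_cases hu : u = 1
  · exact ⟨0, by rw [hu]; rfl⟩
  · have hx : (Additive.ofMul u : Additive ↥C.U) ≠ 0 := hu
    obtain ⟨g, ga, gb, e⟩ := C.exists_conj hx
    refine ⟨⟨C.conjEnd g ga, Or.inr ⟨g, ga, gb, rfl⟩⟩, ?_⟩
    unfold ev
    show Additive.toMul (C.conjEnd g ga (Additive.ofMul C.u1)) = u
    rw [← e]
    rfl

/-- the identification of the projective line over the field with `Ω` -/
noncomputable def iotaFun [Finite Ω] : OnePoint ↥C.E → Ω :=
  fun p => p.elim C.a (fun ψ => ((C.ev ψ : ↥C.U) : G) • C.b)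

theorem iotaFun_infty [Finite Ω] : C.iotaFun ∞ = C.a := rfl

theorem iotaFun_coe [Finite Ω] (ψ : ↥C.E) :
    C.iotaFun (ψ : OnePoint ↥C.E) = ((C.ev ψ : ↥C.U) : G) • C.b := rfl

theorem iotaFun_bijective [Finite Ω] : Function.Bijective C.iotaFun := by
  constructor
  · intro p q h
    induction p using OnePoint.rec with
    | infty =>
      induction q using OnePoint.rec with
      | infty => rfl
      | coe q =>
        rw [iotaFun_infty, iotaFun_coe] at h
        exact absurd h.symm (C.smul_b_ne_a (C.ev q).2)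
    | coe p =>
      induction q using OnePoint.rec with
      | infty =>
        rw [iotaFun_infty, iotaFun_coe] at h
        exact absurd h (C.smul_b_ne_a (C.ev p).2)
      | coe q =>
        rw [iotaFun_coe, iotaFun_coe] at h
        have hmem : ((C.ev q : ↥C.U) : G)⁻¹ * (C.ev p : ↥C.U) ∈ C.U :=
          C.U.mul_mem (C.U.inv_mem (C.ev q).2) (C.ev p).2
        have hfix : (((C.ev q : ↥C.U) : G)⁻¹ * (C.ev p : ↥C.U)) • C.b = C.b := by
          rw [mul_smul, h, inv_smul_smul]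
        have h1 := C.hUfree _ hmem _ (Ne.symm C.hab) hfix
        have h2 : C.ev p = C.ev q := by
          apply Subtype.ext
          calc ((C.ev p : ↥C.U) : G)
              = (C.ev q : ↥C.U) * (((C.ev q : ↥C.U) : G)⁻¹ * (C.ev p : ↥C.U)) := by group
            _ = (C.ev q : ↥C.U) := by rw [h1, mul_one]
        rw [C.ev_injective h2]
  · intro y
    by_cases hy : y = C.a
    · exact ⟨∞, by rw [hy]; rfl⟩
    · obtain ⟨u, hu, huy⟩ := C.hUtr C.b y (Ne.symm C.hab) hy
      obtain ⟨ψ, hψ⟩ := C.ev_surjective ⟨u, hu⟩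
      refine ⟨(ψ : OnePoint ↥C.E), ?_⟩
      rw [iotaFun_coe, hψ]
      exact huy

/-- the identification as an equivalence -/
noncomputable def iota [Finite Ω] : OnePoint ↥C.E ≃ Ω :=
  Equiv.ofBijective C.iotaFun C.iotaFun_bijective

theorem iota_infty [Finite Ω] : C.iota ∞ = C.a := rfl

theorem iota_coe [Finite Ω] (ψ : ↥C.E) :
    C.iota (ψ : OnePoint ↥C.E) = ((C.ev ψ : ↥C.U) : G) • C.b := rfl

theorem iota_zero [Finite Ω] : C.iota ((0 : ↥C.E) : OnePoint ↥C.E) = C.b := by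
  rw [iota_coe, ev_zero]
  exact one_smul G C.b

theorem iota_one [Finite Ω] : C.iota ((1 : ↥C.E) : OnePoint ↥C.E) = C.c := by
  rw [iota_coe, ev_one]
  exact C.u1_smul

theorem tr_action [Finite Ω] (t x : ↥C.E) :
    ((C.ev t : ↥C.U) : G) • C.iota (x : OnePoint ↥C.E) =
      C.iota ((x + t : ↥C.E) : OnePoint ↥C.E) := by
  rw [iota_coe, iota_coe, ev_add, smul_smul]
  congr 1
  exact C.U_comm (C.ev t).2 (C.ev x).2

theorem dil_action [Finite Ω] (s x : ↥C.E) {h : G} (ha : h • C.a = C.a) (hb : h • C.b = C.b)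
    (he : (s : AddMonoid.End (Additive ↥C.U)) = C.conjEnd h ha) :
    h • C.iota (x : OnePoint ↥C.E) = C.iota ((s * x : ↥C.E) : OnePoint ↥C.E) := by
  rw [iota_coe, iota_coe, C.ev_mul_conj s x ha he, mul_smul, mul_smul,
    inv_smul_eq_iff.2 hb.symm]

theorem inv_action [Finite Ω] {w : G} (h1 : w • C.a = C.b) (h2 : w • C.b = C.a)
    (h3 : w • C.c = C.c) (hw : w * w = 1) (x y : ↥C.E) (hxy : x * y = 1) :
    w • C.iota (x : OnePoint ↥C.E) = C.iota (y : OnePoint ↥C.E) := by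
  have hwi : w⁻¹ = w := by rw [inv_eq_iff_mul_eq_one]; exact hw
  rcases C.mem_E_cases x with h0 | ⟨h, ha, hb, he⟩
  · exfalso
    have hx0 : x = 0 := Subtype.ext h0
    rw [hx0, zero_mul] at hxy
    exact C.zero_ne_one_E hxy
  · have hia : h⁻¹ • C.a = C.a := inv_smul_eq_iff.2 ha.symm
    have hib : h⁻¹ • C.b = C.b := inv_smul_eq_iff.2 hb.symm
    have hy' : (⟨C.conjEnd h⁻¹ hia, Or.inr ⟨h⁻¹, hia, hib, rfl⟩⟩ : ↥C.E) * x = 1 := by
      apply Subtype.ext
      show C.conjEnd h⁻¹ hia * (x : AddMonoid.End (Additive ↥C.U)) = 1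
      rw [he, ← C.conjEnd_mul h⁻¹ h hia ha (by rw [inv_mul_cancel, one_smul]),
        C.conjEnd_congr (inv_mul_cancel h) _ (one_smul G C.a), C.conjEnd_one]
    have hy : y = ⟨C.conjEnd h⁻¹ hia, Or.inr ⟨h⁻¹, hia, hib, rfl⟩⟩ := by
      calc y = 1 * y := (one_mul y).symm
        _ = (⟨C.conjEnd h⁻¹ hia, Or.inr ⟨h⁻¹, hia, hib, rfl⟩⟩ * x) * y := by rw [hy']
        _ = ⟨C.conjEnd h⁻¹ hia, Or.inr ⟨h⁻¹, hia, hib, rfl⟩⟩ * (x * y) := mul_assoc _ _ _
        _ = ⟨C.conjEnd h⁻¹ hia, Or.inr ⟨h⁻¹, hia, hib, rfl⟩⟩ := by rw [hxy, mul_one]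
    have e1 : C.iota (x : OnePoint ↥C.E) = h • C.c := by
      rw [iota_coe, C.ev_conj x ha he, mul_smul, mul_smul, hib, C.u1_smul]
    have e2 : C.iota (y : OnePoint ↥C.E) = h⁻¹ • C.c := by
      rw [iota_coe, hy, C.ev_conj _ hia rfl, mul_smul, mul_smul, inv_inv, hb, C.u1_smul]
    rw [e1, e2]
    have e3 : w * h = h⁻¹ * w := by
      have := C.w_inverts h1 h2 h3 hw ha hb
      calc w * h = (w * h * w⁻¹) * w := by group
        _ = h⁻¹ * w := by rw [this]
    rw [smul_smul, e3, mul_smul, h3]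

theorem card_E [Finite Ω] : Nat.card ↥C.E = Nat.card ↥C.U :=
  Nat.card_eq_of_bijective C.ev ⟨C.ev_injective, C.ev_surjective⟩

theorem finite_E [Finite Ω] : Finite ↥C.E := by
  have := C.finite_group
  exact Finite.of_injective C.ev C.ev_injective

/-- **Main theorem**: the group of a `Config` is `PGL(2, F)` for a finite field `F` of the size of
`U`. -/
theorem exists_field [Finite Ω] : ∃ (F : Type u) (_ : Field F) (_ : Fintype F),
    Nat.card F = Nat.card ↥C.U ∧ Nat.card F + 1 = Nat.card Ω ∧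
      Nonempty (G ≃* Matrix.ProjGenLinGroup (Fin 2) F) := by
  classical
  let _ : Field ↥C.E := C.isField.toField
  have hfin := C.finite_E
  refine ⟨↥C.E, inferInstance, Fintype.ofFinite _, C.card_E, ?_, ?_⟩
  · rw [← Nat.card_congr C.iota]
    have : Nat.card (OnePoint ↥C.E) = Nat.card (Option ↥C.E) := rfl
    rw [this, Finite.card_option]
  · apply PGLIso.iso_PGL C.iota
    · intro g h1 h2 h3
      rw [C.iota_infty] at h1
      rw [C.iota_zero] at h2
      rw [C.iota_one] at h3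
      exact C.hfix g _ _ _ C.hab C.hac C.hbc h1 h2 h3
    · intro t
      refine ⟨((C.ev t : ↥C.U) : G), ?_, fun x => C.tr_action t x⟩
      rw [C.iota_infty]
      exact C.hUa _ (C.ev t).2
    · intro s hs
      rcases C.mem_E_cases s with h0 | ⟨h, ha, hb, he⟩
      · exact absurd (Subtype.ext h0) hs
      · refine ⟨h, ?_, fun x => C.dil_action s x ha hb he⟩
        rw [C.iota_infty]
        exact ha
    · obtain ⟨w, h1, h2, h3, hw⟩ := C.exists_w
      refine ⟨w, ?_, ?_, ?_⟩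
      · rw [C.iota_infty, C.iota_zero]; exact h1
      · rw [C.iota_infty, C.iota_zero]; exact h2
      · intro x hx
        exact C.inv_action h1 h2 h3 hw x x⁻¹ (mul_inv_cancel₀ hx)

end Config

/-- The same with the field in `Type`. -/
theorem exists_field_type0 {G : Type u} [Group G] {Ω : Type v} [MulAction G Ω] [Finite Ω]
    (C : Config G Ω) : ∃ (F : Type) (_ : Field F) (_ : Fintype F),
    Nat.card F = Nat.card ↥C.U ∧ Nat.card F + 1 = Nat.card Ω ∧
      Nonempty (G ≃* Matrix.ProjGenLinGroup (Fin 2) F) := by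
  have hfin := C.finite_group
  obtain ⟨F', _, _, hc1, hc2, -⟩ := C.exists_field
  let e : {i : ℕ // i < Nat.card G} ≃ G := ((Finite.equivFin G).trans Fin.equivSubtype).symm
  let _ : Group {i : ℕ // i < Nat.card G} := e.group
  let me : {i : ℕ // i < Nat.card G} ≃* G := e.mulEquiv
  let _ : MulAction {i : ℕ // i < Nat.card G} Ω := MulAction.compHom Ω me.toMonoidHom
  have hsmul : ∀ (g : {i : ℕ // i < Nat.card G}) (x : Ω), g • x = me g • x := fun _ _ => rfl
  let C₀ : Config {i : ℕ // i < Nat.card G} Ω :=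
    { a := C.a
      b := C.b
      c := C.c
      hab := C.hab
      hac := C.hac
      hbc := C.hbc
      U := C.U.comap me.toMonoidHom
      h3 := by
        intro x y z x' y' z' h1 h2 h3 h4 h5 h6
        obtain ⟨g, e1, e2, e3⟩ := C.h3 x y z x' y' z' h1 h2 h3 h4 h5 h6
        refine ⟨me.symm g, ?_, ?_, ?_⟩
        · rw [hsmul, MulEquiv.apply_symm_apply, e1]
        · rw [hsmul, MulEquiv.apply_symm_apply, e2]
        · rw [hsmul, MulEquiv.apply_symm_apply, e3]
      hfix := by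
        intro g x y z h1 h2 h3 e1 e2 e3
        rw [hsmul] at e1 e2 e3
        have := C.hfix (me g) x y z h1 h2 h3 e1 e2 e3
        apply me.injective
        rw [this, map_one]
      hUa := by
        intro u hu
        rw [hsmul]
        exact C.hUa (me u) hu
      hUtr := by
        intro x y hx hy
        obtain ⟨u, hu, e1⟩ := C.hUtr x y hx hy
        refine ⟨me.symm u, ?_, ?_⟩
        · show me (me.symm u) ∈ C.U
          rw [MulEquiv.apply_symm_apply]
          exact hu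
        · rw [hsmul, MulEquiv.apply_symm_apply, e1]
      hUfree := by
        intro u hu x hx e1
        rw [hsmul] at e1
        have := C.hUfree (me u) hu x hx e1
        apply me.injective
        rw [this, map_one]
      hU2 := by
        intro u hu
        apply me.injective
        rw [map_mul, map_one]
        exact C.hU2 (me u) hu }
  obtain ⟨F, hF1, hF2, -, hc3, ⟨iso⟩⟩ := C₀.exists_field
  refine ⟨F, hF1, hF2, ?_, hc3, ⟨me.symm.trans iso⟩⟩
  omega

end Cfsg.Agent.Lib.Helper52.S3TField
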