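import Mathlib
import Cfsg.Prelude.Def_LieExceptional
import Cfsg.Agent.S0035
import Cfsg.Agent.Lib.Helper71.Frobenius
import Cfsg.Agent.Lib.Helper13.Zass

/-!
Zassenhaus groups via Frobenius' theorem: the point stabiliser `G_a` has a normal subgroup `K_a`
regular on the other points (`exists_kernel`), every nontrivial normal subgroup contains all `K_a`
(`kernel_le_normal`), is doubly transitive (`normal_two_trans`), has nontrivial two-point
stabilisers (`normal_fix_two`) and has no regular normal subgroup (`regular_normal_of_normal`).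
-/

set_option autoImplicit false

namespace Cfsg.Agent.Lib.Helper52.ZassFrob

open scoped Pointwise
open Cfsg.Agent.Lib.Helper71

/-- A finite group acting so that the stabiliser of `p` is a Frobenius complement has a subgroup
consisting of `1` and the elements fixing no point of the orbit of `p`; it is transitive on the
orbit. -/
theorem frob_action {X : Type*} [Group X] [Finite X] {Ω : Type*} [MulAction X Ω] (p : Ω)
    (hTI : ∀ x : X, x ≠ 1 → x • p = p → ∀ g : X, x • (g • p) = g • p → g • p = p)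
    (hbot : ∃ x : X, x ≠ 1 ∧ x • p = p) (htop : ∃ x : X, x • p ≠ p) :
    ∃ M : Subgroup X, (∀ x : X, x ∈ M ↔ (x = 1 ∨ ∀ g : X, x • (g • p) ≠ g • p)) ∧
      ∀ g : X, ∃ m ∈ M, m • p = g • p := by
  classical
  have hH : Cfsg.IsFrobeniusComplement (MulAction.stabilizer X p) := by
    refine ⟨?_, ?_, ?_⟩
    · obtain ⟨x, hx1, hxp⟩ := hbot
      intro h
      have hx : x ∈ MulAction.stabilizer X p := hxp
      rw [h, Subgroup.mem_bot] at hx
      exact hx1 hx
    · obtain ⟨x, hxp⟩ := htop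
      intro h
      have hx : x ∈ MulAction.stabilizer X p := by rw [h]; trivial
      exact hxp hx
    · intro g hg
      rw [eq_bot_iff]
      intro x hx
      rw [Subgroup.mem_inf, Frobenius.mem_conj_iff] at hx
      rw [Subgroup.mem_bot]
      by_contra hx1
      apply hg
      have h1 : x • p = p := hx.1
      have h2 : x • (g • p) = g • p := by
        have h3 := hx.2
        rw [MulAction.mem_stabilizer_iff, mul_smul, mul_smul, inv_smul_eq_iff] at h3
        exact h3
      exact hTI x hx1 h1 g h2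
  obtain ⟨N, hN, -, hc⟩ := Cfsg.Agent.S0035.result (MulAction.stabilizer X p) hH
  refine ⟨N, ?_, ?_⟩
  · intro x
    rw [← SetLike.mem_coe, hN, Frobenius.mem_kernel_iff]
    constructor
    · rintro (h | h)
      · exact Or.inl h
      · right
        intro g hg
        apply h g
        rw [MulAction.mem_stabilizer_iff, mul_smul, mul_smul, inv_smul_eq_iff]
        exact hg
    · rintro (h | h)
      · exact Or.inl h
      · right
        intro g hg
        apply h g
        rw [MulAction.mem_stabilizer_iff, mul_smul, mul_smul, inv_smul_eq_iff] at hg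
        exact hg
  · intro g
    obtain ⟨⟨m, h⟩, hmh⟩ := hc.2 g
    refine ⟨m, m.2, ?_⟩
    have e : (m : X) * (h : X) = g := hmh
    rw [← e, mul_smul]
    congr 1
    exact (h.2).symm

variable {G Ω : Type*} [Group G] [MulAction G Ω]

theorem finite_group [Finite Ω] (hZ : Cfsg.IsZassenhausGroup G Ω) : Finite G := by
  have := hZ.1
  exact Finite.of_injective (MulAction.toPermHom G Ω) MulAction.toPerm_injective

theorem two_trans (hZ : Cfsg.IsZassenhausGroup G Ω) {a b c d : Ω} (hab : a ≠ b) (hcd : c ≠ d) :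
    ∃ g : G, g • a = c ∧ g • b = d := by
  have h2 := hZ.2.1
  rw [MulAction.is_two_pretransitive_iff] at h2
  exact h2 hab hcd

theorem three_fix (hZ : Cfsg.IsZassenhausGroup G Ω) {g : G} {a b c : Ω} (hab : a ≠ b)
    (hbc : b ≠ c) (hac : a ≠ c) (ha : g • a = a) (hb : g • b = b) (hc : g • c = c) : g = 1 :=
  hZ.2.2.1 g a b c hab hbc hac ha hb hc

theorem exists_three (hZ : Cfsg.IsZassenhausGroup G Ω) : ∃ a b c : Ω, a ≠ b ∧ b ≠ c ∧ a ≠ c := by
  obtain ⟨g, hg1, a, b, hab, hga, hgb⟩ := hZ.2.2.2.1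
  obtain ⟨c, hc⟩ := Cfsg.Agent.Lib.Helper13.Zass.exists_moved hZ hg1
  refine ⟨a, b, c, hab, ?_, ?_⟩
  · rintro rfl; exact hc hgb
  · rintro rfl; exact hc hga

theorem exists_third (hZ : Cfsg.IsZassenhausGroup G Ω) (a b : Ω) : ∃ c : Ω, c ≠ a ∧ c ≠ b := by
  obtain ⟨x, y, z, hxy, hyz, hxz⟩ := exists_three hZ
  by_contra h
  push Not at h
  have hx : x = a ∨ x = b := by
    by_cases h1 : x = a
    · exact Or.inl h1
    · exact Or.inr (h x h1)
  have hy : y = a ∨ y = b := by
    by_cases h1 : y = a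
    · exact Or.inl h1
    · exact Or.inr (h y h1)
  have hz : z = a ∨ z = b := by
    by_cases h1 : z = a
    · exact Or.inl h1
    · exact Or.inr (h z h1)
  rcases hx with h1 | h1 <;> rcases hy with h2 | h2 <;> rcases hz with h3 | h3
  · exact hxy (h1.trans h2.symm)
  · exact hxy (h1.trans h2.symm)
  · exact hxz (h1.trans h3.symm)
  · exact hyz (h2.trans h3.symm)
  · exact hyz (h2.trans h3.symm)
  · exact hxz (h1.trans h3.symm)
  · exact hxy (h1.trans h2.symm)
  · exact hxy (h1.trans h2.symm)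

theorem exists_fix_two (hZ : Cfsg.IsZassenhausGroup G Ω) {a b : Ω} (hab : a ≠ b) :
    ∃ g : G, g ≠ 1 ∧ g • a = a ∧ g • b = b := by
  obtain ⟨g, hg1, a₀, b₀, hab₀, hga, hgb⟩ := hZ.2.2.2.1
  obtain ⟨x, hxa, hxb⟩ := two_trans hZ hab₀ hab
  refine ⟨x * g * x⁻¹, ?_, ?_, ?_⟩
  · intro h
    apply hg1
    have e : g = x⁻¹ * (x * g * x⁻¹) * x := by group
    rw [e, h]; group
  · rw [mul_smul, mul_smul, ← hxa, inv_smul_smul, hga]
  · rw [mul_smul, mul_smul, ← hxb, inv_smul_smul, hgb]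

/-- `K` is the Frobenius kernel of the stabiliser of `a`. -/
def IsKer (K : Subgroup G) (a : Ω) : Prop :=
  ∀ x : G, x ∈ K ↔ x • a = a ∧ (x = 1 ∨ ∀ c : Ω, c ≠ a → x • c ≠ c)

theorem exists_kernel [Finite Ω] (hZ : Cfsg.IsZassenhausGroup G Ω) (a : Ω) :
    ∃ K : Subgroup G, IsKer K a ∧ (∀ b c : Ω, b ≠ a → c ≠ a → ∃ k ∈ K, k • b = c) := by
  have := finite_group hZ
  obtain ⟨b, hba, -⟩ := exists_third hZ a a
  have hsub : ∀ g : ↥(MulAction.stabilizer G a), g • b ≠ a := by
    intro g h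
    have h1 : (g : G) • a = a := g.2
    have h2 : (g : G) • b = (g : G) • a := by rw [h1]; exact h
    exact hba (smul_left_cancel _ h2)
  have hTI : ∀ x : ↥(MulAction.stabilizer G a), x ≠ 1 → x • b = b →
      ∀ g : ↥(MulAction.stabilizer G a), x • (g • b) = g • b → g • b = b := by
    intro x hx1 hxb g hxg
    by_contra hne
    apply hx1
    apply Subtype.ext
    exact three_fix hZ (Ne.symm hba) (Ne.symm hne) (Ne.symm (hsub g)) x.2 hxb hxg
  have hbot : ∃ x : ↥(MulAction.stabilizer G a), x ≠ 1 ∧ x • b = b := by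
    obtain ⟨g, hg1, hga, hgb⟩ := exists_fix_two hZ (Ne.symm hba)
    exact ⟨⟨g, hga⟩, fun h => hg1 (congrArg Subtype.val h), hgb⟩
  have htop : ∃ x : ↥(MulAction.stabilizer G a), x • b ≠ b := by
    obtain ⟨c, hca, hcb⟩ := exists_third hZ a b
    obtain ⟨g, hga, hgb⟩ := two_trans hZ (Ne.symm hba) (Ne.symm hca)
    refine ⟨⟨g, hga⟩, ?_⟩
    intro h
    have h' : g • b = b := h
    exact hcb (hgb.symm.trans h')
  obtain ⟨M, hM, htr⟩ := frob_action (X := ↥(MulAction.stabilizer G a)) b hTI hbot htop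
  have horb : ∀ c : Ω, c ≠ a → ∃ g : ↥(MulAction.stabilizer G a), g • b = c := by
    intro c hca
    obtain ⟨g, hga, hgb⟩ := two_trans hZ (Ne.symm hba) (Ne.symm hca)
    exact ⟨⟨g, hga⟩, hgb⟩
  refine ⟨M.map (MulAction.stabilizer G a).subtype, ?_, ?_⟩
  · intro x
    rw [Subgroup.mem_map]
    constructor
    · rintro ⟨y, hy, rfl⟩
      refine ⟨y.2, ?_⟩
      rcases (hM y).1 hy with h | h
      · left; rw [h]; rfl
      · right
        intro c hca
        obtain ⟨g, hg⟩ := horb c hca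
        rw [← hg]
        exact h g
    · rintro ⟨hxa, h⟩
      refine ⟨⟨x, hxa⟩, ?_, rfl⟩
      rw [hM]
      rcases h with h | h
      · left; exact Subtype.ext h
      · right
        intro g
        exact h _ (hsub g)
  · intro b' c hb' hc
    obtain ⟨g₁, hg₁⟩ := horb b' hb'
    obtain ⟨g₂, hg₂⟩ := horb c hc
    obtain ⟨m₁, hm₁, h1⟩ := htr g₁
    obtain ⟨m₂, hm₂, h2⟩ := htr g₂
    refine ⟨((m₂ * m₁⁻¹ : ↥(MulAction.stabilizer G a)) : G),
      Subgroup.mem_map_of_mem _ (M.mul_mem hm₂ (M.inv_mem hm₁)), ?_⟩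
    have e1 : (m₁ : G) • b = b' := h1.trans hg₁
    have e2 : (m₂ : G) • b = c := h2.trans hg₂
    rw [Subgroup.coe_mul, Subgroup.coe_inv, mul_smul, ← e1, inv_smul_smul, e2]

theorem conj_mem_ker {K : Subgroup G} {a : Ω} (hK : IsKer K a) {x k : G} (hx : x • a = a)
    (hk : k ∈ K) : x * k * x⁻¹ ∈ K := by
  have hxi : x⁻¹ • a = a := by rw [inv_smul_eq_iff, hx]
  obtain ⟨hka, h⟩ := (hK k).1 hk
  rw [hK]
  refine ⟨by rw [mul_smul, mul_smul, hxi, hka, hx], ?_⟩
  rcases h with h | h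
  · left; rw [h]; group
  · right
    intro c hca hc
    rw [mul_smul, mul_smul, ← eq_inv_smul_iff] at hc
    refine h (x⁻¹ • c) ?_ hc
    intro h'
    rw [inv_smul_eq_iff, hx] at h'
    exact hca h'

/-- Dichotomy: a normal subgroup containing a nonidentity element fixing `a` and another point
contains the kernel `K_a`. -/
theorem kernel_le_of_fix [Finite Ω] (hZ : Cfsg.IsZassenhausGroup G Ω) {a : Ω} {K : Subgroup G}
    (hK : IsKer K a) (N : Subgroup G) [N.Normal] {x : G} (hxN : x ∈ N) (hx1 : x ≠ 1)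
    (hxa : x • a = a) {c : Ω} (hca : c ≠ a) (hxc : x • c = c) : K ≤ N := by
  have := finite_group hZ
  let f : K → K := fun k => ⟨x * k * x⁻¹ * (k : G)⁻¹, K.mul_mem (conj_mem_ker hK hxa k.2) (K.inv_mem k.2)⟩
  have hinj : Function.Injective f := by
    intro k k' hkk
    have h1 : x * (k : G) * x⁻¹ * (k : G)⁻¹ = x * (k' : G) * x⁻¹ * (k' : G)⁻¹ :=
      congrArg Subtype.val hkk
    -- `m = k'⁻¹ k` commutes with `x`
    have hcomm : ((k' : G)⁻¹ * k) * x = x * ((k' : G)⁻¹ * k) := by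
      have h2 : (k : G) * x⁻¹ * (k : G)⁻¹ = (k' : G) * x⁻¹ * (k' : G)⁻¹ := by
        have := congrArg (fun z => x⁻¹ * z) h1
        simpa [mul_assoc] using this
      have h3 : ((k' : G)⁻¹ * k) * x⁻¹ = x⁻¹ * ((k' : G)⁻¹ * k) := by
        calc ((k' : G)⁻¹ * k) * x⁻¹ = (k' : G)⁻¹ * ((k : G) * x⁻¹ * (k : G)⁻¹) * k := by group
          _ = (k' : G)⁻¹ * ((k' : G) * x⁻¹ * (k' : G)⁻¹) * k := by rw [h2]
          _ = x⁻¹ * ((k' : G)⁻¹ * k) := by group
      calc ((k' : G)⁻¹ * k) * x = x * (x⁻¹ * ((k' : G)⁻¹ * k)) * x := by group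
        _ = x * (((k' : G)⁻¹ * k) * x⁻¹) * x := by rw [h3]
        _ = x * ((k' : G)⁻¹ * k) := by group
    have hm : (k' : G)⁻¹ * k ∈ K := K.mul_mem (K.inv_mem k'.2) k.2
    obtain ⟨hma, h⟩ := (hK _).1 hm
    rcases h with h | h
    · apply Subtype.ext
      have e : (k : G) = k' * ((k' : G)⁻¹ * k) := by group
      rw [e, h, mul_one]
    · exfalso
      have hmc : ((k' : G)⁻¹ * k) • c ≠ c := h c hca
      have hmca : ((k' : G)⁻¹ * k) • c ≠ a := by
        intro h'
        rw [← hma] at h'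
        exact hca (smul_left_cancel _ h')
      have hfix : x • (((k' : G)⁻¹ * k) • c) = ((k' : G)⁻¹ * k) • c := by
        rw [smul_smul, ← hcomm, mul_smul, hxc]
      exact hx1 (three_fix hZ (Ne.symm hca) (Ne.symm hmc) (Ne.symm hmca) hxa hxc hfix)
  have hsurj : Function.Surjective f := Finite.injective_iff_surjective.1 hinj
  intro k hk
  obtain ⟨k', hk'⟩ := hsurj ⟨k, hk⟩
  have e : k = x * (k' : G) * x⁻¹ * (k' : G)⁻¹ := (congrArg Subtype.val hk').symm
  rw [e]
  have h1 : (k' : G) * x⁻¹ * (k' : G)⁻¹ ∈ N := ‹N.Normal›.conj_mem _ (N.inv_mem hxN) _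
  have e2 : x * (k' : G) * x⁻¹ * (k' : G)⁻¹ = x * ((k' : G) * x⁻¹ * (k' : G)⁻¹) := by group
  rw [e2]
  exact N.mul_mem hxN h1

theorem normal_trans (hZ : Cfsg.IsZassenhausGroup G Ω) (N : Subgroup G) [N.Normal] (hN : N ≠ ⊥)
    (a b : Ω) : ∃ n ∈ N, n • a = b := by
  by_cases hab : a = b
  · exact ⟨1, N.one_mem, by rw [one_smul, hab]⟩
  · obtain ⟨⟨n, hn⟩, hn1'⟩ := (Subgroup.ne_bot_iff_exists_ne_one).1 hN
    have hn1 : n ≠ 1 := fun h => hn1' (Subtype.ext h)
    obtain ⟨c, hc⟩ := Cfsg.Agent.Lib.Helper13.Zass.exists_moved hZ hn1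
    obtain ⟨g, hg1, hg2⟩ := two_trans hZ (Ne.symm hc) hab
    refine ⟨g * n * g⁻¹, ‹N.Normal›.conj_mem n hn g, ?_⟩
    rw [mul_smul, mul_smul, ← hg1, inv_smul_smul, hg2]

/-- A nontrivial normal subgroup of a Zassenhaus group cannot act so that no nonidentity element
fixes two points (it would have a regular normal subgroup, normal in `G`). -/
theorem no_semiregular_normal [Finite Ω] (hZ : Cfsg.IsZassenhausGroup G Ω) (N : Subgroup G)
    [hNn : N.Normal] (hN : N ≠ ⊥)
    (hfree : ∀ x ∈ N, ∀ a b : Ω, a ≠ b → x • a = a → x • b = b → x = 1) : False := by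
  have := finite_group hZ
  obtain ⟨a, b, -, hab, -, -⟩ := exists_three hZ
  by_cases hcase : ∀ x ∈ N, x • a = a → x = 1
  · -- `N` is regular
    have hpt : MulAction.IsPretransitive N Ω := by
      constructor
      intro c d
      obtain ⟨n, hn, hnc⟩ := normal_trans hZ N hN c d
      exact ⟨⟨n, hn⟩, hnc⟩
    obtain ⟨c, hc⟩ := hZ.2.2.2.2 N hNn hpt
    apply hc
    rw [eq_bot_iff]
    intro y hy
    rw [Subgroup.mem_bot]
    have hyc : (y : G) • c = c := hy
    obtain ⟨n, hn, hnc⟩ := normal_trans hZ N hN a c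
    have h1 : n⁻¹ * (y : G) * n = 1 := by
      apply hcase
      · have := hNn.conj_mem (y : G) y.2 n⁻¹
        rwa [inv_inv] at this
      · rw [mul_smul, mul_smul, hnc, hyc, ← hnc, inv_smul_smul]
    apply Subtype.ext
    have e : (y : G) = n * (n⁻¹ * (y : G) * n) * n⁻¹ := by group
    rw [e, h1]
    simp
  · push Not at hcase
    obtain ⟨x₀, hx₀N, hx₀a, hx₀1⟩ := hcase
    have hTI : ∀ x : ↥N, x ≠ 1 → x • a = a → ∀ g : ↥N, x • (g • a) = g • a → g • a = a := by
      intro x hx1 hxa g hxg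
      by_contra hne
      apply hx1
      apply Subtype.ext
      exact hfree x x.2 a (g • a) (Ne.symm hne) hxa hxg
    have hbot : ∃ x : ↥N, x ≠ 1 ∧ x • a = a :=
      ⟨⟨x₀, hx₀N⟩, fun h => hx₀1 (congrArg Subtype.val h), hx₀a⟩
    have htop : ∃ x : ↥N, x • a ≠ a := by
      obtain ⟨n, hn, hna⟩ := normal_trans hZ N hN a b
      refine ⟨⟨n, hn⟩, ?_⟩
      intro h
      have h' : n • a = a := h
      exact hab (h'.symm.trans hna)
    obtain ⟨M, hM, htr⟩ := frob_action (X := ↥N) a hTI hbot htop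
    have horb : ∀ c : Ω, ∃ g : ↥N, g • a = c := by
      intro c
      obtain ⟨n, hn, hnc⟩ := normal_trans hZ N hN a c
      exact ⟨⟨n, hn⟩, hnc⟩
    have hmem : ∀ x : G, x ∈ M.map N.subtype ↔ x ∈ N ∧ (x = 1 ∨ ∀ c : Ω, x • c ≠ c) := by
      intro x
      rw [Subgroup.mem_map]
      constructor
      · rintro ⟨y, hy, rfl⟩
        refine ⟨y.2, ?_⟩
        rcases (hM y).1 hy with h | h
        · left; rw [h]; rfl
        · right
          intro c
          obtain ⟨g, hg⟩ := horb c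
          rw [← hg]
          exact h g
      · rintro ⟨hxN, h⟩
        refine ⟨⟨x, hxN⟩, ?_, rfl⟩
        rw [hM]
        rcases h with h | h
        · left; exact Subtype.ext h
        · right
          intro g
          exact h _
    have hnorm : (M.map N.subtype).Normal := by
      constructor
      intro x hx g
      rw [hmem] at hx ⊢
      refine ⟨hNn.conj_mem x hx.1 g, ?_⟩
      rcases hx.2 with h | h
      · left; rw [h]; group
      · right
        intro c hc
        rw [mul_smul, mul_smul, ← eq_inv_smul_iff] at hc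
        exact h _ hc
    have hpt : MulAction.IsPretransitive (M.map N.subtype) Ω := by
      constructor
      intro c d
      obtain ⟨g₁, hg₁⟩ := horb c
      obtain ⟨g₂, hg₂⟩ := horb d
      obtain ⟨m₁, hm₁, h1⟩ := htr g₁
      obtain ⟨m₂, hm₂, h2⟩ := htr g₂
      refine ⟨⟨((m₂ * m₁⁻¹ : ↥N) : G),
        Subgroup.mem_map_of_mem _ (M.mul_mem hm₂ (M.inv_mem hm₁))⟩, ?_⟩
      have e1 : (m₁ : G) • a = c := h1.trans hg₁
      have e2 : (m₂ : G) • a = d := h2.trans hg₂
      change ((m₂ * m₁⁻¹ : ↥N) : G) • c = d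
      rw [Subgroup.coe_mul, Subgroup.coe_inv, mul_smul, ← e1, inv_smul_smul, e2]
    obtain ⟨c, hc⟩ := hZ.2.2.2.2 _ hnorm hpt
    apply hc
    rw [eq_bot_iff]
    intro y hy
    rw [Subgroup.mem_bot]
    have hyc : (y : G) • c = c := hy
    rcases ((hmem (y : G)).1 y.2).2 with h | h
    · exact Subtype.ext h
    · exact absurd hyc (h c)

/-- Every nontrivial normal subgroup of a Zassenhaus group contains the kernels `K_a`. -/
theorem kernel_le_normal [Finite Ω] (hZ : Cfsg.IsZassenhausGroup G Ω) (N : Subgroup G)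
    [N.Normal] (hN : N ≠ ⊥) {a : Ω} {K : Subgroup G} (hK : IsKer K a) : K ≤ N := by
  by_contra hle
  apply no_semiregular_normal hZ N hN
  intro x hxN a' b' hab' hxa' hxb'
  by_contra hx1
  apply hle
  obtain ⟨d, hda, -⟩ := exists_third hZ a a
  obtain ⟨g, hga, hgb⟩ := two_trans hZ hab' (Ne.symm hda)
  refine kernel_le_of_fix hZ hK N (x := g * x * g⁻¹) (‹N.Normal›.conj_mem x hxN g) ?_ ?_ hda ?_
  · intro h
    apply hx1
    have e : x = g⁻¹ * (g * x * g⁻¹) * g := by group
    rw [e, h]; group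
  · rw [mul_smul, mul_smul, ← hga, inv_smul_smul, hxa']
  · rw [mul_smul, mul_smul, ← hgb, inv_smul_smul, hxb']

theorem normal_two_trans [Finite Ω] (hZ : Cfsg.IsZassenhausGroup G Ω) (N : Subgroup G)
    [N.Normal] (hN : N ≠ ⊥) {a b c d : Ω} (hab : a ≠ b) (hcd : c ≠ d) :
    ∃ n ∈ N, n • a = c ∧ n • b = d := by
  obtain ⟨n₁, hn₁, h1⟩ := normal_trans hZ N hN a c
  have hne : n₁ • b ≠ c := by
    intro h
    rw [← h1] at h
    exact hab (smul_left_cancel _ h).symm
  obtain ⟨K, hK, htr⟩ := exists_kernel hZ c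
  obtain ⟨k, hk, hkd⟩ := htr (n₁ • b) d hne (Ne.symm hcd)
  refine ⟨k * n₁, N.mul_mem (kernel_le_normal hZ N hN hK hk) hn₁, ?_, ?_⟩
  · rw [mul_smul, h1]
    exact ((hK k).1 hk).1
  · rw [mul_smul, hkd]

theorem normal_fix_two [Finite Ω] (hZ : Cfsg.IsZassenhausGroup G Ω) (N : Subgroup G)
    [N.Normal] (hN : N ≠ ⊥) {a b : Ω} (hab : a ≠ b) :
    ∃ n ∈ N, n ≠ 1 ∧ n • a = a ∧ n • b = b := by
  by_contra hcon
  apply no_semiregular_normal hZ N hN
  intro x hxN a' b' hab' hxa' hxb'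
  by_contra hx1
  apply hcon
  obtain ⟨n, hn, hna, hnb⟩ := normal_two_trans hZ N hN hab' hab
  refine ⟨n * x * n⁻¹, ‹N.Normal›.conj_mem x hxN n, ?_, ?_, ?_⟩
  · intro h
    apply hx1
    have e : x = n⁻¹ * (n * x * n⁻¹) * n := by group
    rw [e, h]; group
  · rw [mul_smul, mul_smul, ← hna, inv_smul_smul, hxa']
  · rw [mul_smul, mul_smul, ← hnb, inv_smul_smul, hxb']

end Cfsg.Agent.Lib.Helper52.ZassFrob
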