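import Mathlib
import Cfsg.Agent.Lib.Helper52.S3TField
import Cfsg.Agent.Lib.Helper52.ZassFrob
import Cfsg.Agent.Lib.Helper13.Zass

/-!
Sharply triply transitive groups of odd degree: the involutions of a point stabiliser form an
elementary abelian subgroup regular on the other points, giving a `S3TField.Config`.
-/

set_option autoImplicit false

namespace Cfsg.Agent.Lib.Helper52.S3TPerm

open Cfsg.Agent.Lib.Helper52

universe u v

/-- element form of triple transitivity -/
theorem three_trans_of_pretransitive {G : Type u} [Group G] {Ω : Type v} [MulAction G Ω]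
    (h3 : MulAction.IsMultiplyPretransitive G Ω 3) (x y z x' y' z' : Ω) (hxy : x ≠ y)
    (hxz : x ≠ z) (hyz : y ≠ z) (hxy' : x' ≠ y') (hxz' : x' ≠ z') (hyz' : y' ≠ z') :
    ∃ g : G, g • x = x' ∧ g • y = y' ∧ g • z = z' := by
  have inj : ∀ (p q r : Ω), p ≠ q → p ≠ r → q ≠ r → Function.Injective ![p, q, r] := by
    intro p q r h1 h2 h3 i j hij
    fin_cases i <;> fin_cases j <;> simp_all
  obtain ⟨g, hg⟩ := h3.exists_smul_eq (⟨![x, y, z], inj x y z hxy hxz hyz⟩ : Fin 3 ↪ Ω)
    (⟨![x', y', z'], inj x' y' z' hxy' hxz' hyz'⟩ : Fin 3 ↪ Ω)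
  refine ⟨g, ?_, ?_, ?_⟩
  · have := DFunLike.congr_fun hg 0
    rw [Function.Embedding.smul_apply] at this
    exact this
  · have := DFunLike.congr_fun hg 1
    rw [Function.Embedding.smul_apply] at this
    exact this
  · have := DFunLike.congr_fun hg 2
    rw [Function.Embedding.smul_apply] at this
    exact this

/-- the embedding of three distinct points -/
def emb3 {Ω : Type v} (x y z : Ω) (hxy : x ≠ y) (hxz : x ≠ z) (hyz : y ≠ z) : Fin 3 ↪ Ω :=
  ⟨![x, y, z], by
    intro i j hij
    fin_cases i <;> fin_cases j <;> simp_all⟩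

theorem exists_config {G : Type u} [Group G] {Ω : Type v} [MulAction G Ω] [Finite Ω]
    (h3 : ∀ x y z x' y' z' : Ω, x ≠ y → x ≠ z → y ≠ z → x' ≠ y' → x' ≠ z' → y' ≠ z' →
      ∃ g : G, g • x = x' ∧ g • y = y' ∧ g • z = z')
    (hfix : ∀ (g : G) (x y z : Ω), x ≠ y → x ≠ z → y ≠ z → g • x = x → g • y = y → g • z = z →
      g = 1)
    (hodd : Odd (Nat.card Ω)) (hcard : 3 ≤ Nat.card Ω) : Nonempty (S3TField.Config G Ω) := by
  classical
  let _ : Fintype Ω := Fintype.ofFinite Ω
  obtain ⟨a, b, c, hab, hac, hbc⟩ : ∃ a b c : Ω, a ≠ b ∧ a ≠ c ∧ b ≠ c := by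
    rw [← Fintype.two_lt_card_iff, ← Nat.card_eq_fintype_card]
    omega
  have hfinG : Finite G := by
    apply Finite.of_injective (fun g : G => (g • a, g • b, g • c))
    intro g g' h
    simp only [Prod.mk.injEq] at h
    obtain ⟨h1, h2, h3'⟩ := h
    have : g'⁻¹ * g = 1 := hfix _ a b c hab hac hbc
      (by rw [mul_smul, h1, inv_smul_smul]) (by rw [mul_smul, h2, inv_smul_smul])
      (by rw [mul_smul, h3', inv_smul_smul])
    calc g = g' * (g'⁻¹ * g) := by group
      _ = g' := by rw [this, mul_one]
  -- an involution with two fixed points is trivial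
  have hP : ∀ t : G, t * t = 1 → ∀ x y : Ω, x ≠ y → t • x = x → t • y = y → t = 1 := by
    intro t ht x y hxy hx hy
    by_contra ht1
    have hpar := Cfsg.Agent.Lib.Helper13.Zass.parity (Ω := Ω) t ht
    have hoddF : Nat.card (MulAction.fixedBy Ω t) % 2 = 1 := by
      rw [hpar, ← Nat.card_eq_fintype_card]
      exact Nat.odd_iff.1 hodd
    have h2 : 1 < Nat.card (MulAction.fixedBy Ω t) := by
      rw [Finite.one_lt_card_iff_nontrivial]
      exact ⟨⟨⟨x, hx⟩, ⟨y, hy⟩, fun h => hxy (congrArg Subtype.val h)⟩⟩
    have h3' : 2 < Nat.card (MulAction.fixedBy Ω t) := by omega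
    rw [Nat.card_eq_fintype_card, Fintype.two_lt_card_iff] at h3'
    obtain ⟨p, q, r, hpq, hpr, hqr⟩ := h3'
    exact ht1 (hfix t p q r (fun h => hpq (Subtype.ext h)) (fun h => hpr (Subtype.ext h))
      (fun h => hqr (Subtype.ext h)) p.2 q.2 r.2)
  -- existence of involutions
  have hex : ∀ x y : Ω, x ≠ a → y ≠ a → ∃ t : G, (t • a = a ∧ t * t = 1) ∧ t • x = y := by
    intro x y hx hy
    by_cases hxy : x = y
    · exact ⟨1, ⟨one_smul _ _, one_mul 1⟩, by rw [one_smul, hxy]⟩
    · obtain ⟨g, g1, g2, g3⟩ := h3 a x y a y x (Ne.symm hx) (Ne.symm hy) hxy (Ne.symm hy)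
        (Ne.symm hx) (Ne.symm hxy)
      refine ⟨g, ⟨g1, ?_⟩, g2⟩
      apply hfix _ a x y (Ne.symm hx) (Ne.symm hy) hxy
      · rw [mul_smul, g1, g1]
      · rw [mul_smul, g2, g3]
      · rw [mul_smul, g3, g2]
  have hfree : ∀ t : G, t • a = a → t * t = 1 → ∀ x : Ω, x ≠ a → t • x = x → t = 1 :=
    fun t ha ht x hx htx => hP t ht a x (Ne.symm hx) ha htx
  -- elements of the stabiliser of `a` without further fixed points are involutions
  have hfpf : ∀ z : G, z • a = a → (∀ x : Ω, x ≠ a → z • x ≠ x) → z * z = 1 := by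
    intro z hza hz
    have hzb : z • b ≠ a := by
      intro h
      have h' : z • b = z • a := by rw [hza]; exact h
      exact hab (smul_left_cancel _ h').symm
    obtain ⟨t, ⟨hta, htt⟩, htb⟩ := hex b (z • b) (Ne.symm hab) hzb
    have hfixa : (t⁻¹ * z) • a = a := by rw [mul_smul, hza, inv_smul_eq_iff, hta]
    have hfixb : (t⁻¹ * z) • b = b := by rw [mul_smul, inv_smul_eq_iff, htb]
    suffices h1 : t⁻¹ * z = 1 by
      have e : z = t * (t⁻¹ * z) := by group
      rw [e, h1, mul_one]
      exact htt
    by_cases hbot : ∀ x : G, x • a = a → x • b = b → x = 1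
    · exact hbot _ hfixa hfixb
    · push Not at hbot
      obtain ⟨x₀, hx₀a, hx₀b, hx₀1⟩ := hbot
      have hsub : ∀ g : ↥(MulAction.stabilizer G a), g • b ≠ a := by
        intro g h
        have h1 : (g : G) • a = a := g.2
        have h2 : (g : G) • b = (g : G) • a := by rw [h1]; exact h
        exact hab (smul_left_cancel _ h2).symm
      have hTI : ∀ x : ↥(MulAction.stabilizer G a), x ≠ 1 → x • b = b →
          ∀ g : ↥(MulAction.stabilizer G a), x • (g • b) = g • b → g • b = b := by
        intro x hx1 hxb g hxg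
        by_contra hne
        apply hx1
        apply Subtype.ext
        exact hfix (x : G) a b (g • b) hab (Ne.symm (hsub g)) (Ne.symm hne) x.2 hxb hxg
      have hbot' : ∃ x : ↥(MulAction.stabilizer G a), x ≠ 1 ∧ x • b = b :=
        ⟨⟨x₀, hx₀a⟩, fun h => hx₀1 (congrArg Subtype.val h), hx₀b⟩
      have htop : ∃ x : ↥(MulAction.stabilizer G a), x • b ≠ b := by
        obtain ⟨s, ⟨hsa, -⟩, hsb⟩ := hex b c (Ne.symm hab) (Ne.symm hac)
        refine ⟨⟨s, hsa⟩, ?_⟩
        intro h
        have h' : s • b = b := h
        exact hbc (h'.symm.trans hsb)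
      obtain ⟨M, hM, -⟩ := ZassFrob.frob_action (X := ↥(MulAction.stabilizer G a)) b hTI
        hbot' htop
      have hzM : (⟨z, hza⟩ : ↥(MulAction.stabilizer G a)) ∈ M := by
        rw [hM]
        right
        intro g
        exact hz _ (hsub g)
      have htM : (⟨t, hta⟩ : ↥(MulAction.stabilizer G a)) ∈ M := by
        rw [hM]
        by_cases ht1 : t = 1
        · left
          exact Subtype.ext ht1
        · right
          intro g hg
          exact ht1 (hfree t hta htt _ (hsub g) hg)
      have hmem := M.mul_mem (M.inv_mem htM) hzM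
      rw [hM] at hmem
      rcases hmem with h | h
      · exact congrArg Subtype.val h
      · exfalso
        apply h 1
        rw [one_smul]
        exact hfixb
  -- closure under multiplication
  have hmul : ∀ s t : G, s • a = a → s * s = 1 → t • a = a → t * t = 1 →
      (s * t) * (s * t) = 1 := by
    intro s t hsa hss hta htt
    by_cases hst : s = t
    · rw [hst, htt, one_mul]
    · have hsi : s⁻¹ = s := by rw [inv_eq_iff_mul_eq_one]; exact hss
      apply hfpf (s * t) (by rw [mul_smul, hta, hsa])
      intro x hxa hx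
      have hx2 : s • (t • x) = x := by rw [← mul_smul]; exact hx
      have hx' : t • x = s • x := by
        calc t • x = (s * s) • (t • x) := by rw [hss, one_smul]
          _ = s • (s • (t • x)) := mul_smul _ _ _
          _ = s • x := by rw [hx2]
      apply hst
      by_cases hy : t • x = x
      · have ht1 := hfree t hta htt x hxa hy
        have hs1 := hfree s hsa hss x hxa (by rw [← hx', hy])
        rw [ht1, hs1]
      · have hya : t • x ≠ a := by
          intro h
          have h' : t • x = t • a := by rw [hta]; exact h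
          exact hxa (smul_left_cancel _ h')
        have hty : t • (t • x) = x := by rw [smul_smul, htt, one_smul]
        have hsy : s • (t • x) = x := by rw [hx', smul_smul, hss, one_smul]
        have h1 : s⁻¹ * t = 1 := by
          apply hfix _ a x (t • x) (Ne.symm hxa) (Ne.symm hya) (Ne.symm hy)
          · rw [mul_smul, hta, hsi, hsa]
          · rw [mul_smul, hsi, hsy]
          · rw [mul_smul, hty, hsi, ← hx']
        calc s = s * (s⁻¹ * t) := by rw [h1, mul_one]
          _ = t := by group
  exact ⟨{ a := a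
           b := b
           c := c
           hab := hab
           hac := hac
           hbc := hbc
           U :=
            { carrier := {t : G | t • a = a ∧ t * t = 1}
              mul_mem' := by
                intro s t hs ht
                exact ⟨by rw [mul_smul, ht.1, hs.1], hmul s t hs.1 hs.2 ht.1 ht.2⟩
              one_mem' := ⟨one_smul _ _, one_mul 1⟩
              inv_mem' := by
                intro t ht
                refine ⟨inv_smul_eq_iff.2 ht.1.symm, ?_⟩
                rw [← mul_inv_rev, ht.2, inv_one] }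
           h3 := h3
           hfix := hfix
           hUa := fun u hu => hu.1
           hUtr := fun x y hx hy => by
             obtain ⟨t, ht, htx⟩ := hex x y hx hy
             exact ⟨t, ht, htx⟩
           hUfree := fun u hu x hx hux => hfree u hu.1 hu.2 x hx hux
           hU2 := fun u hu => hu.2 }⟩

/-- the subgroup `U` of a configuration is a 2-group of order `2 ^ k` -/
theorem card_U {G : Type u} [Group G] {Ω : Type v} [MulAction G Ω] [Finite Ω]
    (C : S3TField.Config G Ω) : ∃ k : ℕ, Nat.card ↥C.U = 2 ^ k := by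
  have := C.finite_group
  have hp : IsPGroup 2 ↥C.U := by
    intro u
    refine ⟨1, ?_⟩
    rw [pow_one, pow_two]
    exact Subtype.ext (C.hU2 u u.2)
  exact (IsPGroup.iff_card (p := 2)).1 hp

end Cfsg.Agent.Lib.Helper52.S3TPerm
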