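import Mathlib

/-!
Two abstract lemmas used for sharply triply transitive groups of even degree.

* `central_of_sq`: a group `H` acting regularly (on the nonidentity elements) on an abelian group
  `U` of order `p ^ f`, `f` odd; an element acting on a base element as a power map and whose
  square is central, is central.
* `sigma_inverts`: an involutory automorphism `σ` of a finite group `H` with at most two fixed
  points, inverting a subgroup `P` that contains a Sylow 2-subgroup of `H` and whose elements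
  are central as soon as their squares are: then `σ` inverts `H`.
-/

set_option autoImplicit false

namespace Cfsg.Agent.Lib.Helper52.InvAut

/-- `n * n = p ^ f` is impossible for `f` odd -/
theorem not_sq_prime_pow {p f n : ℕ} (hp : p.Prime) (hf : Odd f) : n * n ≠ p ^ f := by
  intro h
  have hn : n ≠ 0 := by
    rintro rfl
    have : p ^ f ≠ 0 := pow_ne_zero _ hp.ne_zero
    exact this h.symm
  have h1 : (n * n).factorization p = 2 * n.factorization p := by
    rw [Nat.factorization_mul hn hn]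
    simp only [Finsupp.coe_add, Pi.add_apply]
    ring
  have h2 : (p ^ f).factorization p = f := by
    rw [Nat.Prime.factorization_pow hp]
    simp
  rw [h] at h1
  rw [h2] at h1
  rcases hf with ⟨k, hk⟩
  omega

theorem central_of_sq {H U : Type*} [Group H] [CommGroup U] [Finite U]
    (act : H → U → U) (act_one : ∀ v, act 1 v = v)
    (act_mul : ∀ h h' v, act (h * h') v = act h (act h' v))
    (act_hom : ∀ h v w, act h (v * w) = act h v * act h w)
    (j : H) (hj : ∀ v, act j v = v⁻¹)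
    (u1 : U) (hfree : ∀ h, act h u1 = u1 → h = 1) (htrans : ∀ v, v ≠ 1 → ∃ h, act h u1 = v)
    {p f : ℕ} (hp : p.Prime) (hp2 : p ≠ 2) (hf : Odd f) (hcard : Nat.card U = p ^ f)
    (z : H) (k : ℕ) (hz : act z u1 = u1 ^ k) (hzz : ∀ h, z * z * h = h * (z * z)) :
    ∀ h, z * h = h * z := by
  classical
  -- the action is by homomorphisms
  have a1 : ∀ h, act h 1 = 1 := by
    intro h
    have := act_hom h 1 1
    rw [mul_one] at this
    exact (mul_eq_left.1 this.symm)
  have apow : ∀ h v (n : ℕ), act h (v ^ n) = (act h v) ^ n := by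
    intro h v n
    induction n with
    | zero => rw [pow_zero, pow_zero, a1]
    | succ n ih => rw [pow_succ, pow_succ, act_hom, ih]
  have ainv : ∀ h v, act h v⁻¹ = (act h v)⁻¹ := by
    intro h v
    have := act_hom h v v⁻¹
    rw [mul_inv_cancel, a1] at this
    exact eq_inv_of_mul_eq_one_right this.symm
  have afree : ∀ x y, act x u1 = act y u1 → x = y := by
    intro x y hxy
    have : act (y⁻¹ * x) u1 = u1 := by
      rw [act_mul, hxy, ← act_mul, inv_mul_cancel, act_one]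
    have := hfree _ this
    calc x = y * (y⁻¹ * x) := by group
      _ = y := by rw [this, mul_one]
  -- odd order
  have hodd : ∀ v : U, v * v = 1 → v = 1 := by
    intro v hv
    have h1 : orderOf v ∣ 2 := orderOf_dvd_of_pow_eq_one (by rw [pow_two]; exact hv)
    have h2 : orderOf v ∣ p ^ f := by rw [← hcard]; exact orderOf_dvd_natCard v
    have h3 : orderOf v ∣ Nat.gcd 2 (p ^ f) := Nat.dvd_gcd h1 h2
    have h4 : Nat.gcd 2 (p ^ f) = 1 := by
      apply Nat.Coprime.pow_right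
      rw [Nat.coprime_primes Nat.prime_two hp]
      exact fun h => hp2 h.symm
    rw [h4, Nat.dvd_one, orderOf_eq_one_iff] at h3
    exact h3
  -- z² acts as the power map
  have hzz' : ∀ v, act (z * z) v = v ^ (k * k) := by
    intro v
    by_cases hv : v = 1
    · rw [hv, a1, one_pow]
    · obtain ⟨h, rfl⟩ := htrans v hv
      rw [← act_mul, hzz h, act_mul, act_mul, hz, apow, hz, ← pow_mul, apow]
  -- ζ
  let ζ : U → U := fun v => act z⁻¹ (v ^ k)
  have ζmul : ∀ v w, ζ (v * w) = ζ v * ζ w := by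
    intro v w
    show act z⁻¹ ((v * w) ^ k) = act z⁻¹ (v ^ k) * act z⁻¹ (w ^ k)
    rw [mul_pow, act_hom]
  have ζζ : ∀ v, ζ (ζ v) = v := by
    intro v
    show act z⁻¹ ((act z⁻¹ (v ^ k)) ^ k) = v
    rw [← apow, ← pow_mul, ← act_mul, ← hzz' v, ← act_mul]
    have : z⁻¹ * z⁻¹ * (z * z) = 1 := by group
    rw [this, act_one]
  have ζact : ∀ h x, ζ (act h x) = act (z⁻¹ * h * z) (ζ x) := by
    intro h x
    show act z⁻¹ ((act h x) ^ k) = act (z⁻¹ * h * z) (act z⁻¹ (x ^ k))
    rw [← apow, ← act_mul, ← act_mul]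
    congr 1
    group
  have ζu : ζ u1 = u1 := by
    show act z⁻¹ (u1 ^ k) = u1
    rw [← hz, ← act_mul, inv_mul_cancel, act_one]
  have ζinv : ∀ v, ζ v⁻¹ = (ζ v)⁻¹ := by
    intro v
    have := ζmul v v⁻¹
    have h1 : ζ 1 = 1 := by
      show act z⁻¹ (1 ^ k) = 1
      rw [one_pow, a1]
    rw [mul_inv_cancel, h1] at this
    exact eq_inv_of_mul_eq_one_right this.symm
  -- μ
  let μ : U →* U :=
    { toFun := fun v => v * ζ v
      map_one' := by
        show (1 : U) * act z⁻¹ (1 ^ k) = 1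
        rw [one_pow, a1, one_mul]
      map_mul' := by
        intro v w
        show v * w * ζ (v * w) = v * ζ v * (w * ζ w)
        rw [ζmul]
        exact mul_mul_mul_comm v w (ζ v) (ζ w) }
  have μapp : ∀ v, μ v = v * ζ v := fun v => rfl
  have hker : ∀ v, v ∈ μ.ker ↔ ζ v = v⁻¹ := by
    intro v
    rw [MonoidHom.mem_ker, μapp]
    constructor
    · intro h
      exact eq_inv_of_mul_eq_one_right h
    · intro h
      rw [h, mul_inv_cancel]
  let Fix : Subgroup U :=
    { carrier := {v | ζ v = v}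
      mul_mem' := by
        intro v w hv hw
        show ζ (v * w) = v * w
        rw [ζmul, show ζ v = v from hv, show ζ w = w from hw]
      one_mem' := by
        show act z⁻¹ (1 ^ k) = 1
        rw [one_pow, a1]
      inv_mem' := by
        intro v hv
        show ζ v⁻¹ = v⁻¹
        rw [ζinv, show ζ v = v from hv] }
  have hFix : ∀ v, v ∈ Fix ↔ ζ v = v := fun v => Iff.rfl
  have hrange : μ.range ≤ Fix := by
    rintro _ ⟨v, rfl⟩
    rw [hFix, μapp, ζmul, ζζ, mul_comm]
  have hc1 : Nat.card ↥μ.range ≤ Nat.card ↥Fix := Subgroup.card_le_of_le hrange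
  have hc2 : Nat.card ↥Fix ≤ Nat.card ↥μ.range := by
    apply Nat.card_le_card_of_injective (fun x : ↥Fix => (⟨μ x, ⟨x, rfl⟩⟩ : ↥μ.range))
    intro x y hxy
    have h1 : μ (x : U) = μ (y : U) := congrArg Subtype.val hxy
    rw [μapp, μapp, (hFix _).1 x.2, (hFix _).1 y.2] at h1
    have h2 : ((x : U) * (y : U)⁻¹) * ((x : U) * (y : U)⁻¹) = 1 := by
      calc ((x : U) * (y : U)⁻¹) * ((x : U) * (y : U)⁻¹)
          = ((x : U) * (x : U)) * ((y : U) * (y : U))⁻¹ := by
            rw [mul_inv_rev, mul_mul_mul_comm]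
        _ = 1 := by rw [h1, mul_inv_cancel]
    exact Subtype.ext (mul_inv_eq_one.1 (hodd _ h2))
  have hcU : Nat.card ↥μ.ker * Nat.card ↥Fix = p ^ f := by
    rw [← hcard, ← Subgroup.card_mul_index μ.ker, Subgroup.index_ker, le_antisymm hc2 hc1]
  -- the kernel is trivial
  have hkerbot : ∀ v, ζ v = v⁻¹ → v = 1 := by
    intro v hv
    by_contra hv1
    obtain ⟨h0, hh0⟩ := htrans v hv1
    have e0 : z⁻¹ * h0 * z = h0 * j := by
      apply afree
      rw [act_mul h0 j, hj, ainv, hh0, ← hv, ← hh0, ζact, ζu]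
    have e1 : ∀ x, ζ (act h0 x) = act h0 (ζ x)⁻¹ := by
      intro x
      rw [ζact, e0, act_mul, hj]
    have c1 : Nat.card ↥Fix ≤ Nat.card ↥μ.ker := by
      apply Nat.card_le_card_of_injective
        (fun x : ↥Fix => (⟨act h0 x, by
          rw [hker, e1, (hFix _).1 x.2, ainv]⟩ : ↥μ.ker))
      intro x y hxy
      have h1 : act h0 (x : U) = act h0 (y : U) := congrArg Subtype.val hxy
      have h2 := congrArg (act h0⁻¹) h1
      rw [← act_mul, ← act_mul, inv_mul_cancel, act_one, act_one] at h2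
      exact Subtype.ext h2
    have c2 : Nat.card ↥μ.ker ≤ Nat.card ↥Fix := by
      apply Nat.card_le_card_of_injective
        (fun x : ↥μ.ker => (⟨act h0 x, by
          rw [hFix, e1, (hker _).1 x.2, inv_inv]⟩ : ↥Fix))
      intro x y hxy
      have h1 : act h0 (x : U) = act h0 (y : U) := congrArg Subtype.val hxy
      have h2 := congrArg (act h0⁻¹) h1
      rw [← act_mul, ← act_mul, inv_mul_cancel, act_one, act_one] at h2
      exact Subtype.ext h2
    rw [le_antisymm c2 c1] at hcU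
    exact not_sq_prime_pow hp hf hcU
  have hinj : Function.Injective μ := by
    rw [injective_iff_map_eq_one]
    intro v hv
    exact hkerbot v ((hker v).1 hv)
  have hsurj := Finite.surjective_of_injective hinj
  have hζid : ∀ v, ζ v = v := by
    intro v
    obtain ⟨w, rfl⟩ := hsurj v
    rw [μapp, ζmul, ζζ, mul_comm]
  intro h
  have e : z⁻¹ * h * z = h := by
    apply afree
    have := ζact h u1
    rw [ζu, hζid] at this
    exact this.symm
  calc z * h = z * (z⁻¹ * h * z) := by rw [e]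
    _ = h * z := by group

theorem sigma_inverts {H : Type*} [Group H] [Finite H] (σ : H → H)
    (hmul : ∀ x y, σ (x * y) = σ x * σ y) (hσσ : ∀ x, σ (σ x) = x)
    (j : H) (hfix : ∀ x, σ x = x → x = 1 ∨ x = j) (hj : j * j = 1)
    (P : Subgroup H) (hP : ∀ z ∈ P, σ z = z⁻¹)
    (hcen : ∀ z ∈ P, (∀ h, z * z * h = h * (z * z)) → ∀ h, z * h = h * z)
    (hcard : (Nat.card P).factorization 2 = (Nat.card H).factorization 2) :
    ∀ h : H, σ h = h⁻¹ := by
  classical
  have : Fact (Nat.Prime 2) := ⟨Nat.prime_two⟩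
  have σ1 : σ 1 = 1 := by
    have := hmul 1 1
    rw [mul_one] at this
    exact mul_eq_left.1 this.symm
  have σinv : ∀ x, σ x⁻¹ = (σ x)⁻¹ := by
    intro x
    have := hmul x x⁻¹
    rw [mul_inv_cancel, σ1] at this
    exact eq_inv_of_mul_eq_one_right this.symm
  -- 2-elements of P are central
  have hcen2 : ∀ (m : ℕ) (x : H), x ∈ P → x ^ 2 ^ m = 1 → ∀ h, x * h = h * x := by
    intro m
    induction m with
    | zero =>
      intro x _ hx h
      rw [pow_zero, pow_one] at hx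
      rw [hx, one_mul, mul_one]
    | succ m ih =>
      intro x hxP hx
      apply hcen x hxP
      apply ih (x * x) (P.mul_mem hxP hxP)
      rw [← pow_two, ← pow_mul, ← pow_succ']
      exact hx
  -- a Sylow 2-subgroup of P
  let S : Sylow 2 ↥P := default
  let S' : Subgroup H := (S : Subgroup ↥P).map P.subtype
  have hS'P : ∀ x ∈ S', x ∈ P := by
    rintro _ ⟨y, -, rfl⟩
    exact y.2
  have hS'2 : ∀ x ∈ S', ∃ m : ℕ, x ^ 2 ^ m = 1 := by
    rintro _ ⟨y, hy, rfl⟩
    obtain ⟨m, hm⟩ := S.isPGroup' ⟨y, hy⟩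
    refine ⟨m, ?_⟩
    have h1 : y ^ 2 ^ m = 1 := congrArg Subtype.val hm
    have h2 : ((y ^ 2 ^ m : ↥P) : H) = 1 := by rw [h1]; rfl
    exact h2
  have hS'card : Nat.card ↥S' = 2 ^ (Nat.card H).factorization 2 := by
    rw [← hcard, ← S.card_eq_multiplicity]
    exact Nat.card_congr
      ((S : Subgroup ↥P).equivMapOfInjective P.subtype P.subtype_injective).symm.toEquiv
  let Q : Sylow 2 H := Sylow.ofCard S' hS'card
  have hQ : (Q : Subgroup H) = S' := Sylow.coe_ofCard S' hS'card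
  have hS'cen : ∀ x ∈ S', ∀ h, x * h = h * x := by
    intro x hx h
    obtain ⟨m, hm⟩ := hS'2 x hx
    exact hcen2 m x (hS'P x hx) hm h
  have hS'normal : S'.Normal := by
    constructor
    intro n hn g
    have : g * n * g⁻¹ = n := by
      rw [← hS'cen n hn g]
      group
    rw [this]
    exact hn
  have hnorm : (Q : Subgroup H).Normal := by
    rw [hQ]
    exact hS'normal
  have h2mem : ∀ (g : H) (m : ℕ), g ^ 2 ^ m = 1 → g ∈ S' := by
    intro g m hg
    have hpg : IsPGroup 2 ↥(Subgroup.zpowers g) := by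
      rintro ⟨x, hx⟩
      obtain ⟨i, rfl⟩ := Subgroup.mem_zpowers_iff.1 hx
      refine ⟨m, Subtype.ext ?_⟩
      show (g ^ i) ^ 2 ^ m = 1
      rw [← zpow_natCast, ← zpow_mul, mul_comm, zpow_mul, zpow_natCast, hg, one_zpow]
    obtain ⟨R, hR⟩ := hpg.exists_le_sylow
    obtain ⟨x, hx⟩ := MulAction.exists_smul_eq H Q R
    rw [Sylow.smul_eq_of_normal] at hx
    have hg' : g ∈ (R : Subgroup H) := hR (Subgroup.mem_zpowers g)
    rw [← hx, hQ] at hg'
    exact hg'
  -- the map on the quotient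
  let f : H → H := fun h => h⁻¹ * σ h
  have hcompat : ∀ h1 h2 : H, h1⁻¹ * h2 ∈ S' → (f h1)⁻¹ * f h2 ∈ S' := by
    intro h1 h2 h12
    obtain ⟨z, hzS, rfl⟩ : ∃ z ∈ S', h2 = h1 * z := ⟨h1⁻¹ * h2, h12, by group⟩
    have hz := hS'cen z hzS
    have hσz : σ z = z⁻¹ := hP z (hS'P z hzS)
    have hzi : ∀ h, z⁻¹ * h = h * z⁻¹ := by
      intro h
      calc z⁻¹ * h = z⁻¹ * (h * z) * z⁻¹ := by group
        _ = z⁻¹ * (z * h) * z⁻¹ := by rw [hz h]
        _ = h * z⁻¹ := by group
    have e : (f h1)⁻¹ * f (h1 * z) = z⁻¹ * z⁻¹ := by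
      show (h1⁻¹ * σ h1)⁻¹ * ((h1 * z)⁻¹ * σ (h1 * z)) = _
      rw [hmul, hσz]
      calc (h1⁻¹ * σ h1)⁻¹ * ((h1 * z)⁻¹ * (σ h1 * z⁻¹))
          = (σ h1)⁻¹ * (h1 * z⁻¹) * h1⁻¹ * σ h1 * z⁻¹ := by group
        _ = (σ h1)⁻¹ * (z⁻¹ * h1) * h1⁻¹ * σ h1 * z⁻¹ := by rw [hzi h1]
        _ = ((σ h1)⁻¹ * z⁻¹) * σ h1 * z⁻¹ := by group
        _ = (z⁻¹ * (σ h1)⁻¹) * σ h1 * z⁻¹ := by rw [hzi]
        _ = z⁻¹ * z⁻¹ := by group
    rw [e]
    exact S'.mul_mem (S'.inv_mem hzS) (S'.inv_mem hzS)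
  let ψ : H ⧸ S' → H ⧸ S' := fun q =>
    Quotient.liftOn' q (fun h => ((f h : H) : H ⧸ S')) (by
      intro h1 h2 h12
      rw [QuotientGroup.leftRel_apply] at h12
      exact QuotientGroup.eq.2 (hcompat h1 h2 h12))
  have hψ : ∀ h : H, ψ (h : H ⧸ S') = ((f h : H) : H ⧸ S') := fun h => rfl
  have hinj : Function.Injective ψ := by
    intro q1 q2
    induction q1 using QuotientGroup.induction_on with
    | H h1 =>
      induction q2 using QuotientGroup.induction_on with
      | H h2 =>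
        intro h
        rw [hψ, hψ, QuotientGroup.eq] at h
        rw [QuotientGroup.eq]
        -- z central
        have hzdef : ∃ z, z = (f h1)⁻¹ * f h2 := ⟨_, rfl⟩
        obtain ⟨z, hzdef⟩ := hzdef
        rw [← hzdef] at h
        have hzc := hS'cen _ h
        obtain ⟨m, hm⟩ := hS'2 _ h
        have hzi : ∀ x, z⁻¹ * x = x * z⁻¹ := by
          intro x
          calc z⁻¹ * x = z⁻¹ * (x * z) * z⁻¹ := by group
            _ = z⁻¹ * (z * x) * z⁻¹ := by rw [hzc x]
            _ = x * z⁻¹ := by group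
        -- g := h1 * h2⁻¹ satisfies σ g = g * z⁻¹
        have hg : σ (h1 * h2⁻¹) = (h1 * h2⁻¹) * z⁻¹ := by
          rw [hmul, σinv]
          have e' : h1 * h2⁻¹ = σ h1 * z * (σ h2)⁻¹ := by
            rw [hzdef]
            show _ = σ h1 * ((h1⁻¹ * σ h1)⁻¹ * (h2⁻¹ * σ h2)) * (σ h2)⁻¹
            group
          rw [e']
          calc σ h1 * (σ h2)⁻¹ = σ h1 * z * (z⁻¹ * (σ h2)⁻¹) := by group
            _ = σ h1 * z * ((σ h2)⁻¹ * z⁻¹) := by rw [hzi]
            _ = σ h1 * z * (σ h2)⁻¹ * z⁻¹ := by group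
        have hgpow : ∀ n : ℕ, σ ((h1 * h2⁻¹) ^ n) = (h1 * h2⁻¹) ^ n * (z⁻¹) ^ n := by
          intro n
          induction n with
          | zero => rw [pow_zero, pow_zero, σ1, mul_one]
          | succ n ih =>
            have hc : (z⁻¹) ^ n * (h1 * h2⁻¹) = (h1 * h2⁻¹) * (z⁻¹) ^ n :=
              ((show Commute z⁻¹ (h1 * h2⁻¹) from hzi _).pow_left n).eq
            calc σ ((h1 * h2⁻¹) ^ (n + 1)) = σ ((h1 * h2⁻¹) ^ n) * σ (h1 * h2⁻¹) := by
                  rw [pow_succ, hmul]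
              _ = (h1 * h2⁻¹) ^ n * ((z⁻¹) ^ n * (h1 * h2⁻¹)) * z⁻¹ := by
                  rw [ih, hg]; simp only [mul_assoc]
              _ = (h1 * h2⁻¹) ^ n * ((h1 * h2⁻¹) * (z⁻¹) ^ n) * z⁻¹ := by rw [hc]
              _ = (h1 * h2⁻¹) ^ (n + 1) * (z⁻¹) ^ (n + 1) := by
                  rw [pow_succ, pow_succ]; simp only [mul_assoc]
        have hfixed : σ ((h1 * h2⁻¹) ^ 2 ^ m) = (h1 * h2⁻¹) ^ 2 ^ m := by
          rw [hgpow, inv_pow, hm, inv_one, mul_one]
        have hg2 : (h1 * h2⁻¹) ^ 2 ^ (m + 1) = 1 := by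
          rw [pow_succ 2 m, pow_mul, pow_two]
          rcases hfix _ hfixed with h' | h'
          · rw [h', one_mul]
          · rw [h', hj]
        have hgS := h2mem _ _ hg2
        have hgc := hS'cen _ hgS h1⁻¹
        have : h1⁻¹ * h2 = (h1 * h2⁻¹)⁻¹ := by
          calc h1⁻¹ * h2 = (h1⁻¹ * (h1 * h2⁻¹) * h1)⁻¹ := by group
            _ = ((h1 * h2⁻¹) * h1⁻¹ * h1)⁻¹ := by rw [hgc]
            _ = (h1 * h2⁻¹)⁻¹ := by group
        rw [this]
        exact S'.inv_mem hgS
  have hsurj := Finite.surjective_of_injective hinj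
  intro h'
  obtain ⟨q, hq⟩ := hsurj (h' : H ⧸ S')
  induction q using QuotientGroup.induction_on with
  | H h =>
    rw [hψ, QuotientGroup.eq] at hq
    have hzc := hS'cen _ hq
    have hσz : σ ((f h)⁻¹ * h') = ((f h)⁻¹ * h')⁻¹ := hP _ (hS'P _ hq)
    have e : h' = f h * ((f h)⁻¹ * h') := by group
    have e1 : σ (f h) = (σ h)⁻¹ * h := by
      show σ (h⁻¹ * σ h) = _
      rw [hmul, σinv, hσσ]
    have c := hzc (f h)
    calc σ h' = σ (f h * ((f h)⁻¹ * h')) := by rw [← e]
      _ = (σ h)⁻¹ * h * ((f h)⁻¹ * h')⁻¹ := by rw [hmul, hσz, e1]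
      _ = (f h)⁻¹ * ((f h)⁻¹ * h')⁻¹ := by
          show (σ h)⁻¹ * h * ((f h)⁻¹ * h')⁻¹ = (h⁻¹ * σ h)⁻¹ * ((f h)⁻¹ * h')⁻¹
          group
      _ = (((f h)⁻¹ * h') * f h)⁻¹ := by group
      _ = (f h * ((f h)⁻¹ * h'))⁻¹ := by rw [c]
      _ = h'⁻¹ := by rw [← e]

end Cfsg.Agent.Lib.Helper52.InvAut
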