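import Mathlib
import Cfsg.Agent.Lib.Helper52.S3TGen
import Cfsg.Agent.Lib.Helper52.S3TField
import Cfsg.Agent.Lib.Helper52.ZassFrob
import Cfsg.Agent.Lib.Helper52.InvAut

/-!
Sharply triply transitive groups of degree `p ^ f + 1`, `p` an odd prime and `f` odd: the two point
stabiliser is abelian and is inverted by the involution interchanging the two points and fixing
a third one, which gives a `S3TGen.GConfig` and hence `G ≃* PGL(2, p ^ f)`.
-/

set_option autoImplicit false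
set_option linter.unusedSectionVars false

namespace Cfsg.Agent.Lib.Helper52.S3TOdd

open Cfsg.Agent.Lib.Helper52

universe u v

/-- `v₂(p ^ f - 1) = v₂(p - 1)` for `p` and `f` odd -/
theorem two_adic {p f : ℕ} (hp : 2 ≤ p) (hodd : Odd p) (hf : Odd f) :
    (p ^ f - 1).factorization 2 = (p - 1).factorization 2 := by
  have h1 : ∀ n : ℕ, (p - 1) * ∑ i ∈ Finset.range n, p ^ i + 1 = p ^ n := by
    intro n
    induction n with
    | zero => simp
    | succ n ih =>
      rw [Finset.sum_range_succ, mul_add, add_right_comm, ih, pow_succ]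
      have : p - 1 + 1 = p := by omega
      calc p ^ n + (p - 1) * p ^ n = (p - 1 + 1) * p ^ n := by ring
        _ = p ^ n * p := by rw [this, mul_comm]
  have h2 : p ^ f - 1 = (p - 1) * ∑ i ∈ Finset.range f, p ^ i := by
    have := h1 f
    omega
  have h3 : Odd (∑ i ∈ Finset.range f, p ^ i) := by
    rw [Finset.odd_sum_iff_odd_card_odd]
    have : (Finset.range f).filter (fun i => Odd (p ^ i)) = Finset.range f := by
      apply Finset.filter_true_of_mem
      intro i _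
      exact hodd.pow
    rw [this, Finset.card_range]
    exact hf
  have h4 : (∑ i ∈ Finset.range f, p ^ i) ≠ 0 := by
    rintro h
    rw [h] at h3
    exact (Nat.not_odd_iff_even.2 ⟨0, rfl⟩) h3
  rw [h2, Nat.factorization_mul (by omega) h4]
  simp only [Finsupp.coe_add, Pi.add_apply]
  have h5 : (∑ i ∈ Finset.range f, p ^ i).factorization 2 = 0 :=
    Nat.factorization_eq_zero_of_not_dvd
      (fun h => (Nat.not_even_iff_odd.2 h3) (even_iff_two_dvd.2 h))
  rw [h5, add_zero]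

/-- A sharply triply transitive group with a subgroup `U` fixing `a`, regular on the other points
and normalised by the stabiliser of `a`. -/
structure Pre (G : Type u) [Group G] (Ω : Type v) [MulAction G Ω] where
  a : Ω
  b : Ω
  c : Ω
  hab : a ≠ b
  hac : a ≠ c
  hbc : b ≠ c
  U : Subgroup G
  h3 : ∀ x y z x' y' z' : Ω, x ≠ y → x ≠ z → y ≠ z → x' ≠ y' → x' ≠ z' → y' ≠ z' →
    ∃ g : G, g • x = x' ∧ g • y = y' ∧ g • z = z'
  hfix : ∀ (g : G) (x y z : Ω), x ≠ y → x ≠ z → y ≠ z → g • x = x → g • y = y → g • z = z → g = 1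
  hUa : ∀ u ∈ U, u • a = a
  hUtr : ∀ x y : Ω, x ≠ a → y ≠ a → ∃ u ∈ U, u • x = y
  hUfree : ∀ u ∈ U, ∀ x : Ω, x ≠ a → u • x = x → u = 1
  hUnorm : ∀ g : G, g • a = a → ∀ u ∈ U, g * u * g⁻¹ ∈ U

/-- existence of the regular normal subgroup of a point stabiliser, from Frobenius' theorem -/
theorem exists_pre {G : Type u} [Group G] {Ω : Type v} [MulAction G Ω] [Finite Ω]
    (h3 : ∀ x y z x' y' z' : Ω, x ≠ y → x ≠ z → y ≠ z → x' ≠ y' → x' ≠ z' → y' ≠ z' →
      ∃ g : G, g • x = x' ∧ g • y = y' ∧ g • z = z')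
    (hfix : ∀ (g : G) (x y z : Ω), x ≠ y → x ≠ z → y ≠ z → g • x = x → g • y = y → g • z = z →
      g = 1)
    (hcard : 4 ≤ Nat.card Ω) : Nonempty (Pre G Ω) := by
  classical
  let _ : Fintype Ω := Fintype.ofFinite Ω
  obtain ⟨a, b, c, hab, hac, hbc⟩ : ∃ a b c : Ω, a ≠ b ∧ a ≠ c ∧ b ≠ c := by
    rw [← Fintype.two_lt_card_iff, ← Nat.card_eq_fintype_card]
    omega
  obtain ⟨d, hda, hdb, hdc⟩ : ∃ d : Ω, d ≠ a ∧ d ≠ b ∧ d ≠ c := by
    by_contra hcon
    push Not at hcon
    have hsub : (Finset.univ : Finset Ω) ⊆ {a, b, c} := by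
      intro x _
      simp only [Finset.mem_insert, Finset.mem_singleton]
      by_cases h1 : x = a
      · exact Or.inl h1
      · by_cases h2 : x = b
        · exact Or.inr (Or.inl h2)
        · exact Or.inr (Or.inr (hcon x h1 h2))
    have h1 := Finset.card_le_card hsub
    have h2 : ({a, b, c} : Finset Ω).card ≤ 3 := Finset.card_le_three
    rw [Finset.card_univ, ← Nat.card_eq_fintype_card] at h1
    omega
  have hfinG : Finite G := by
    apply Finite.of_injective (fun g : G => (g • a, g • b, g • c))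
    intro g g' h
    simp only [Prod.mk.injEq] at h
    obtain ⟨h1, h2, h3'⟩ := h
    have : g'⁻¹ * g = 1 := hfix _ a b c hab hac hbc
      (by rw [mul_smul, h1, inv_smul_smul]) (by rw [mul_smul, h2, inv_smul_smul])
      (by rw [mul_smul, h3', inv_smul_smul])
    calc g = g' * (g'⁻¹ * g) := by group
      _ = g' := by rw [this, mul_one]
  have hsub : ∀ g : ↥(MulAction.stabilizer G a), g • b ≠ a := by
    intro g h
    have h1 : (g : G) • a = a := g.2
    have h2 : (g : G) • b = (g : G) • a := by rw [h1]; exact h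
    exact hab (smul_left_cancel _ h2).symm
  have hTI : ∀ x : ↥(MulAction.stabilizer G a), x ≠ 1 → x • b = b →
      ∀ g : ↥(MulAction.stabilizer G a), x • (g • b) = g • b → g • b = b := by
    intro x hx1 hxb g hxg
    by_contra hne
    apply hx1
    apply Subtype.ext
    exact hfix (x : G) a b (g • b) hab (Ne.symm (hsub g)) (Ne.symm hne) x.2 hxb hxg
  have hbot : ∃ x : ↥(MulAction.stabilizer G a), x ≠ 1 ∧ x • b = b := by
    obtain ⟨x₀, e1, e2, e3⟩ := h3 a b c a b d hab hac hbc hab (Ne.symm hda) (Ne.symm hdb)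
    refine ⟨⟨x₀, e1⟩, ?_, e2⟩
    intro h
    have h' : x₀ = 1 := congrArg Subtype.val h
    rw [h', one_smul] at e3
    exact hdc e3.symm
  have horb : ∀ x : Ω, x ≠ a → ∃ g : ↥(MulAction.stabilizer G a), g • b = x := by
    intro x hx
    by_cases hxb : x = b
    · exact ⟨1, by rw [one_smul, hxb]⟩
    · obtain ⟨g, e1, e2, -⟩ := h3 a b x a x b hab (Ne.symm hx) (Ne.symm hxb) (Ne.symm hx) hab hxb
      exact ⟨⟨g, e1⟩, e2⟩
  have htop : ∃ x : ↥(MulAction.stabilizer G a), x • b ≠ b := by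
    obtain ⟨g, hg⟩ := horb c (Ne.symm hac)
    refine ⟨g, ?_⟩
    rw [hg]
    exact Ne.symm hbc
  obtain ⟨M, hM, hMtr⟩ := ZassFrob.frob_action (X := ↥(MulAction.stabilizer G a)) b hTI hbot htop
  have hmemU : ∀ u : G, u ∈ M.map (MulAction.stabilizer G a).subtype ↔
      ∃ hu : u • a = a, (⟨u, hu⟩ : ↥(MulAction.stabilizer G a)) ∈ M := by
    intro u
    constructor
    · rintro ⟨x, hx, rfl⟩
      exact ⟨x.2, hx⟩
    · rintro ⟨hu, hx⟩
      exact ⟨⟨u, hu⟩, hx, rfl⟩
  have hfree : ∀ u ∈ M.map (MulAction.stabilizer G a).subtype, ∀ x : Ω, x ≠ a → u • x = x →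
      u = 1 := by
    intro u hu x hx hux
    obtain ⟨hua, hm⟩ := (hmemU u).1 hu
    rcases (hM _).1 hm with h | h
    · exact congrArg Subtype.val h
    · exfalso
      obtain ⟨g, hg⟩ := horb x hx
      apply h g
      rw [hg]
      exact hux
  exact ⟨{ a := a
           b := b
           c := c
           hab := hab
           hac := hac
           hbc := hbc
           U := M.map (MulAction.stabilizer G a).subtype
           h3 := h3
           hfix := hfix
           hUa := by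
             intro u hu
             exact ((hmemU u).1 hu).1
           hUtr := by
             intro x y hx hy
             obtain ⟨gx, hgx⟩ := horb x hx
             obtain ⟨gy, hgy⟩ := horb y hy
             obtain ⟨mx, hmx, e1⟩ := hMtr gx
             obtain ⟨my, hmy, e2⟩ := hMtr gy
             refine ⟨((my * mx⁻¹ : ↥(MulAction.stabilizer G a)) : G), ?_, ?_⟩
             · exact ⟨my * mx⁻¹, M.mul_mem hmy (M.inv_mem hmx), rfl⟩
             · have e3 : mx⁻¹ • x = b := by rw [inv_smul_eq_iff, e1, hgx]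
               show (my * mx⁻¹) • x = y
               rw [mul_smul, e3, e2, hgy]
           hUfree := hfree
           hUnorm := by
             intro g hg u hu
             obtain ⟨hua, hm⟩ := (hmemU u).1 hu
             rw [hmemU]
             have hga : (g * u * g⁻¹) • a = a := by
               rw [mul_smul, mul_smul, inv_smul_eq_iff.2 hg.symm, hua, hg]
             refine ⟨hga, ?_⟩
             rw [hM]
             by_cases hu1 : u = 1
             · left
               apply Subtype.ext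
               show g * u * g⁻¹ = 1
               rw [hu1]; group
             · right
               intro g' hg'
               have hg'' : (g * u * g⁻¹) • ((g' : G) • b) = (g' : G) • b := hg'
               have hne : g⁻¹ • ((g' : G) • b) ≠ a := by
                 intro h
                 rw [inv_smul_eq_iff, hg] at h
                 exact hsub g' h
               apply hu1
               apply hfree u hu _ hne
               rw [mul_smul, mul_smul] at hg''
               have h4 := congrArg (g⁻¹ • ·) hg''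
               simp only [inv_smul_smul] at h4
               exact h4 }⟩

namespace Pre

variable {G : Type u} [Group G] {Ω : Type v} [MulAction G Ω] (P : Pre G Ω)

theorem finite_group (P : Pre G Ω) [Finite Ω] : Finite G := by
  apply Finite.of_injective (fun g : G => (g • P.a, g • P.b, g • P.c))
  intro g g' h
  simp only [Prod.mk.injEq] at h
  obtain ⟨h1, h2, h3⟩ := h
  have : g'⁻¹ * g = 1 := P.hfix _ P.a P.b P.c P.hab P.hac P.hbc
    (by rw [mul_smul, h1, inv_smul_smul]) (by rw [mul_smul, h2, inv_smul_smul])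
    (by rw [mul_smul, h3, inv_smul_smul])
  calc g = g' * (g'⁻¹ * g) := by group
    _ = g' := by rw [this, mul_one]

theorem smul_b_ne_a {u : G} (hu : u ∈ P.U) : u • P.b ≠ P.a := by
  intro h
  have h' : u • P.b = u • P.a := by rw [P.hUa u hu]; exact h
  exact P.hab (smul_left_cancel _ h').symm

theorem smul_b_ne_b {u : G} (hu : u ∈ P.U) (hu1 : u ≠ 1) : u • P.b ≠ P.b :=
  fun h => hu1 (P.hUfree u hu _ (Ne.symm P.hab) h)

theorem U_smul_inj {u u' : G} (hu : u ∈ P.U) (hu' : u' ∈ P.U) (h : u • P.b = u' • P.b) :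
    u = u' := by
  have hmem : u'⁻¹ * u ∈ P.U := P.U.mul_mem (P.U.inv_mem hu') hu
  have hfix : (u'⁻¹ * u) • P.b = P.b := by rw [mul_smul, h, inv_smul_smul]
  have := P.hUfree _ hmem _ (Ne.symm P.hab) hfix
  calc u = u' * (u'⁻¹ * u) := by group
    _ = u' := by rw [this, mul_one]

theorem conj_smul_b {h : G} (u : G) (hb : h • P.b = P.b) :
    (h * u * h⁻¹) • P.b = h • (u • P.b) := by
  rw [mul_smul, mul_smul, inv_smul_eq_iff.2 hb.symm]

theorem H_trans {u u' : G} (hu : u ∈ P.U) (hu1 : u ≠ 1) (hu' : u' ∈ P.U) (hu'1 : u' ≠ 1) :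
    ∃ h : G, h • P.a = P.a ∧ h • P.b = P.b ∧ h * u * h⁻¹ = u' := by
  obtain ⟨h, e1, e2, e3⟩ := P.h3 P.a P.b (u • P.b) P.a P.b (u' • P.b) P.hab
    (Ne.symm (P.smul_b_ne_a hu)) (Ne.symm (P.smul_b_ne_b hu hu1)) P.hab
    (Ne.symm (P.smul_b_ne_a hu')) (Ne.symm (P.smul_b_ne_b hu' hu'1))
  refine ⟨h, e1, e2, ?_⟩
  apply P.U_smul_inj (P.hUnorm h e1 u hu) hu'
  rw [P.conj_smul_b u e2, e3]

theorem H_free {h u : G} (ha : h • P.a = P.a) (hb : h • P.b = P.b) (hu : u ∈ P.U) (hu1 : u ≠ 1)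
    (e : h * u * h⁻¹ = u) : h = 1 := by
  apply P.hfix h P.a P.b (u • P.b) P.hab (Ne.symm (P.smul_b_ne_a hu))
    (Ne.symm (P.smul_b_ne_b hu hu1)) ha hb
  rw [← P.conj_smul_b u hb, e]

theorem exists_t : ∃ t : G, t • P.a = P.b ∧ t • P.b = P.a ∧ t • P.c = P.c ∧ t * t = 1 := by
  obtain ⟨w, h1, h2, h3⟩ := P.h3 P.a P.b P.c P.b P.a P.c P.hab P.hac P.hbc (Ne.symm P.hab)
    P.hbc P.hac
  refine ⟨w, h1, h2, h3, ?_⟩
  apply P.hfix _ P.a P.b P.c P.hab P.hac P.hbc
  · rw [mul_smul, h1, h2]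
  · rw [mul_smul, h2, h1]
  · rw [mul_smul, h3, h3]

theorem exists_u1 : ∃ u1 ∈ P.U, u1 • P.b = P.c ∧ u1 ≠ 1 := by
  obtain ⟨u, hu, e⟩ := P.hUtr P.b P.c (Ne.symm P.hab) (Ne.symm P.hac)
  refine ⟨u, hu, e, ?_⟩
  rintro rfl
  rw [one_smul] at e
  exact P.hbc e

theorem H_a (h : ↥(MulAction.stabilizer G P.a ⊓ MulAction.stabilizer G P.b)) :
    (h : G) • P.a = P.a := (Subgroup.mem_inf.1 h.2).1

theorem H_b (h : ↥(MulAction.stabilizer G P.a ⊓ MulAction.stabilizer G P.b)) :
    (h : G) • P.b = P.b := (Subgroup.mem_inf.1 h.2).2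

theorem card_U [Finite Ω] : Nat.card ↥P.U + 1 = Nat.card Ω := by
  have := P.finite_group
  rw [← Finite.card_option]
  apply Nat.card_eq_of_bijective (fun o : Option ↥P.U => o.elim P.a (fun u => (u : G) • P.b))
  constructor
  · intro o o' h
    cases o with
    | none =>
      cases o' with
      | none => rfl
      | some u' => exact absurd h.symm (P.smul_b_ne_a u'.2)
    | some u =>
      cases o' with
      | none => exact absurd h (P.smul_b_ne_a u.2)
      | some u' => exact congrArg some (Subtype.ext (P.U_smul_inj u.2 u'.2 h))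
  · intro y
    by_cases hy : y = P.a
    · exact ⟨none, hy.symm⟩
    · obtain ⟨u, hu, e⟩ := P.hUtr P.b y (Ne.symm P.hab) hy
      exact ⟨some ⟨u, hu⟩, e⟩

theorem card_H [Finite Ω] {u1 : G} (hu1 : u1 ∈ P.U) (hu11 : u1 ≠ 1) :
    Nat.card ↥(MulAction.stabilizer G P.a ⊓ MulAction.stabilizer G P.b) + 1 =
      Nat.card ↥P.U := by
  have := P.finite_group
  rw [← Finite.card_option]
  apply Nat.card_eq_of_bijective
    (fun o : Option ↥(MulAction.stabilizer G P.a ⊓ MulAction.stabilizer G P.b) =>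
      o.elim (1 : ↥P.U) (fun h => ⟨(h : G) * u1 * (h : G)⁻¹, P.hUnorm h (P.H_a h) u1 hu1⟩))
  constructor
  · intro o o' h
    cases o with
    | none =>
      cases o' with
      | none => rfl
      | some h' =>
        exfalso
        have e : (1 : G) = (h' : G) * u1 * (h' : G)⁻¹ := congrArg Subtype.val h
        apply hu11
        calc u1 = (h' : G)⁻¹ * ((h' : G) * u1 * (h' : G)⁻¹) * (h' : G) := by group
          _ = 1 := by rw [← e]; group
    | some h₁ =>
      cases o' with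
      | none =>
        exfalso
        have e : (h₁ : G) * u1 * (h₁ : G)⁻¹ = 1 := congrArg Subtype.val h
        apply hu11
        calc u1 = (h₁ : G)⁻¹ * ((h₁ : G) * u1 * (h₁ : G)⁻¹) * (h₁ : G) := by group
          _ = 1 := by rw [e]; group
      | some h' =>
        have e : (h₁ : G) * u1 * (h₁ : G)⁻¹ = (h' : G) * u1 * (h' : G)⁻¹ := congrArg Subtype.val h
        have e' : ((h' : G)⁻¹ * (h₁ : G)) * u1 * ((h' : G)⁻¹ * (h₁ : G))⁻¹ = u1 := by
          calc ((h' : G)⁻¹ * (h₁ : G)) * u1 * ((h' : G)⁻¹ * (h₁ : G))⁻¹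
              = (h' : G)⁻¹ * ((h₁ : G) * u1 * (h₁ : G)⁻¹) * (h' : G) := by group
            _ = u1 := by rw [e]; group
        have h1 := P.H_free (by rw [mul_smul, P.H_a h₁, inv_smul_eq_iff, P.H_a h'])
          (by rw [mul_smul, P.H_b h₁, inv_smul_eq_iff, P.H_b h']) hu1 hu11 e'
        apply congrArg some
        apply Subtype.ext
        calc (h₁ : G) = (h' : G) * ((h' : G)⁻¹ * (h₁ : G)) := by group
          _ = (h' : G) := by rw [h1, mul_one]
  · intro v
    by_cases hv : v = 1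
    · exact ⟨none, hv.symm⟩
    · have hv1 : (v : G) ≠ 1 := fun h => hv (Subtype.ext h)
      obtain ⟨h, ha, hb, e⟩ := P.H_trans hu1 hu11 v.2 hv1
      exact ⟨some ⟨h, Subgroup.mem_inf.2 ⟨ha, hb⟩⟩, Subtype.ext e⟩

theorem j_inverts [Finite Ω] {j : G} (ja : j • P.a = P.a) (jb : j • P.b = P.b) (jj : j * j = 1)
    (j1 : j ≠ 1) : ∀ u ∈ P.U, j * u * j⁻¹ = u⁻¹ := by
  have := P.finite_group
  apply S3TField.inverts_of_fpf P.U j jj (fun c hc => P.hUnorm j ja c hc)
  intro c hc hcomm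
  by_contra hc1
  apply j1
  apply P.hfix j P.a P.b (c • P.b) P.hab (Ne.symm (P.smul_b_ne_a hc))
    (Ne.symm (P.smul_b_ne_b hc hc1)) ja jb
  rw [smul_smul, hcomm, mul_smul, jb]

end Pre

/-- the full setup in odd characteristic -/
structure OSetup (G : Type u) [Group G] (Ω : Type v) [MulAction G Ω] extends Pre G Ω where
  p : ℕ
  f : ℕ
  hp : p.Prime
  hp2 : p ≠ 2
  hf : Odd f
  hcard : Nat.card Ω = p ^ f + 1
  t : G
  hta : t • a = b
  htb : t • b = a
  htc : t • c = c
  htt : t * t = 1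
  j : G
  hja : j • a = a
  hjb : j • b = b
  hjj : j * j = 1
  hj1 : j ≠ 1
  u1 : G
  hu1 : u1 ∈ U
  hu1c : u1 • b = c
  hu11 : u1 ≠ 1

namespace OSetup

variable {G : Type u} [Group G] {Ω : Type v} [MulAction G Ω] [Finite Ω] (S : OSetup G Ω)

theorem card_U' : Nat.card ↥S.U = S.p ^ S.f := by
  have h1 := S.toPre.card_U
  have h2 := S.hcard
  omega

theorem card_H' : Nat.card ↥(MulAction.stabilizer G S.a ⊓ MulAction.stabilizer G S.b) =
    S.p ^ S.f - 1 := by
  have h1 := S.toPre.card_H S.hu1 S.hu11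
  have h2 := S.card_U'
  omega

theorem j_inv {u : G} (hu : u ∈ S.U) : S.j * u * S.j⁻¹ = u⁻¹ :=
  S.toPre.j_inverts S.hja S.hjb S.hjj S.hj1 u hu

theorem U_comm {u u' : G} (hu : u ∈ S.U) (hu' : u' ∈ S.U) : u * u' = u' * u :=
  S3TField.comm_of_inverted S.j u u' (S.j_inv hu) (S.j_inv hu') (S.j_inv (S.U.mul_mem hu hu'))

theorem j_unique {j' : G} (j'a : j' • S.a = S.a) (j'b : j' • S.b = S.b) (j'j' : j' * j' = 1)
    (j'1 : j' ≠ 1) : j' = S.j := by
  have h1 := S.j_inv S.hu1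
  have h2 := S.toPre.j_inverts j'a j'b j'j' j'1 S.u1⁻¹ (S.U.inv_mem S.hu1)
  have h3 : j' * S.j = 1 := by
    apply S.toPre.H_free (by rw [mul_smul, S.hja, j'a]) (by rw [mul_smul, S.hjb, j'b]) S.hu1 S.hu11
    calc j' * S.j * S.u1 * (j' * S.j)⁻¹ = j' * (S.j * S.u1 * S.j⁻¹) * j'⁻¹ := by group
      _ = j' * S.u1⁻¹ * j'⁻¹ := by rw [h1]
      _ = S.u1 := by rw [h2, inv_inv]
  have hji : S.j⁻¹ = S.j := by rw [inv_eq_iff_mul_eq_one]; exact S.hjj
  calc j' = j' * S.j * S.j⁻¹ := by group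
    _ = S.j := by rw [h3, one_mul, hji]

theorem U_pow {u : G} (hu : u ∈ S.U) : u ^ S.p = 1 := by
  have := S.toPre.finite_group
  have : Fact S.p.Prime := ⟨S.hp⟩
  have hdvd : S.p ∣ Nat.card ↥S.U := by
    rw [S.card_U']
    obtain ⟨k, hk⟩ := S.hf
    rw [hk, pow_succ]
    exact dvd_mul_left _ _
  obtain ⟨x, hx⟩ := exists_prime_orderOf_dvd_card' (G := ↥S.U) S.p hdvd
  have hx1 : (x : G) ≠ 1 := by
    intro h
    have h' : x = 1 := Subtype.ext h
    rw [h', orderOf_one] at hx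
    exact S.hp.one_lt.ne hx
  have hxp : (x : G) ^ S.p = 1 := by
    have h' := pow_orderOf_eq_one x
    rw [hx] at h'
    have h'' : ((x ^ S.p : ↥S.U) : G) = 1 := by rw [h']; rfl
    exact h''
  by_cases hu1 : u = 1
  · rw [hu1, one_pow]
  · obtain ⟨h, -, -, e⟩ := S.toPre.H_trans x.2 hx1 hu hu1
    rw [← e, conj_pow, hxp]
    group

theorem U_pow_inj {x y : G} (hx : x ∈ S.U) (hy : y ∈ S.U) {m : ℕ} (hm : 0 < m) (hmp : m < S.p)
    (h : x ^ m = y ^ m) : x = y := by
  have hc : Commute x y⁻¹ := S.U_comm hx (S.U.inv_mem hy)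
  have h1 : (x * y⁻¹) ^ m = 1 := by rw [hc.mul_pow, h, inv_pow, mul_inv_cancel]
  have h2 : (x * y⁻¹) ^ S.p = 1 := S.U_pow (S.U.mul_mem hx (S.U.inv_mem hy))
  have h3 : orderOf (x * y⁻¹) ∣ Nat.gcd m S.p :=
    Nat.dvd_gcd (orderOf_dvd_of_pow_eq_one h1) (orderOf_dvd_of_pow_eq_one h2)
  have h4 : Nat.gcd m S.p = 1 := by
    rw [Nat.gcd_comm]
    exact (Nat.Prime.coprime_iff_not_dvd S.hp).2 (Nat.not_dvd_of_pos_of_lt hm hmp)
  rw [h4, Nat.dvd_one, orderOf_eq_one_iff] at h3
  exact mul_inv_eq_one.1 h3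

theorem ti : S.t⁻¹ = S.t := by rw [inv_eq_iff_mul_eq_one]; exact S.htt

theorem conj_t_a {h : G} (hb : h • S.b = S.b) : (S.t * h * S.t⁻¹) • S.a = S.a := by
  rw [S.ti, mul_smul, mul_smul, S.hta, hb, S.htb]

theorem conj_t_b {h : G} (ha : h • S.a = S.a) : (S.t * h * S.t⁻¹) • S.b = S.b := by
  rw [S.ti, mul_smul, mul_smul, S.htb, ha, S.hta]

theorem tj : S.t * S.j * S.t⁻¹ = S.j := by
  apply S.j_unique (S.conj_t_a S.hjb) (S.conj_t_b S.hja)
  · calc S.t * S.j * S.t⁻¹ * (S.t * S.j * S.t⁻¹) = S.t * (S.j * S.j) * S.t⁻¹ := by group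
      _ = 1 := by rw [S.hjj]; group
  · intro h
    apply S.hj1
    calc S.j = S.t⁻¹ * (S.t * S.j * S.t⁻¹) * S.t := by group
      _ = 1 := by rw [h]; group

theorem j_smul {u : G} (hu : u ∈ S.U) : S.j • (u • S.b) = u⁻¹ • S.b := by
  rw [← S.toPre.conj_smul_b u S.hjb, S.j_inv hu]

theorem t_smul (h : G) : S.t • (h • S.c) = (S.t * h * S.t⁻¹) • S.c := by
  rw [mul_smul, mul_smul, inv_smul_eq_iff.2 S.htc.symm]

theorem H_smul_c {h : G} (hb : h • S.b = S.b) : h • S.c = (h * S.u1 * h⁻¹) • S.b := by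
  rw [S.toPre.conj_smul_b S.u1 hb, S.hu1c]

theorem fix_t {h : G} (ha : h • S.a = S.a) (hb : h • S.b = S.b) (e : S.t * h * S.t⁻¹ = h) :
    h = 1 ∨ h = S.j := by
  have hc1 : S.t • (h • S.c) = h • S.c := by rw [S.t_smul, e]
  have hc2 : S.t • (S.j • S.c) = S.j • S.c := by rw [S.t_smul, S.tj]
  by_cases h1 : h • S.c = S.c
  · left
    exact S.hfix h _ _ _ S.hab S.hac S.hbc ha hb h1
  · by_cases h2 : h • S.c = S.j • S.c
    · right
      have h3 : S.j⁻¹ * h = 1 := S.hfix _ _ _ _ S.hab S.hac S.hbc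
        (by rw [mul_smul, ha, inv_smul_eq_iff, S.hja])
        (by rw [mul_smul, hb, inv_smul_eq_iff, S.hjb]) (by rw [mul_smul, h2, inv_smul_smul])
      calc h = S.j * (S.j⁻¹ * h) := by group
        _ = S.j := by rw [h3, mul_one]
    · exfalso
      have hjc : S.j • S.c ≠ S.c :=
        fun h => S.hj1 (S.hfix S.j _ _ _ S.hab S.hac S.hbc S.hja S.hjb h)
      have ht1 : S.t = 1 := S.hfix S.t S.c (S.j • S.c) (h • S.c) (Ne.symm hjc) (Ne.symm h1)
        (Ne.symm h2) S.htc hc2 hc1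
      have h4 := S.hta
      rw [ht1, one_smul] at h4
      exact S.hab h4

theorem tau_sq : (S.j * S.t) * (S.j * S.t) = 1 := by
  have h := S.tj
  calc (S.j * S.t) * (S.j * S.t) = S.j * (S.t * S.j * S.t⁻¹) * (S.t * S.t) := by group
    _ = 1 := by rw [h, S.hjj, S.htt, mul_one]

theorem tau_a : (S.j * S.t) • S.a = S.b := by rw [mul_smul, S.hta, S.hjb]

theorem tau_b : (S.j * S.t) • S.b = S.a := by rw [mul_smul, S.htb, S.hja]

/-- the element `j t u1` has order three -/
theorem tau_rel : (S.j * S.t) * S.u1 * (S.j * S.t) = S.u1⁻¹ * (S.j * S.t) * S.u1⁻¹ := by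
  have hui : S.u1⁻¹ ∈ S.U := S.U.inv_mem S.hu1
  have hui1 : S.u1⁻¹ ≠ 1 := inv_ne_one.2 S.hu11
  have e1 : ((S.j * S.t) * S.u1) • S.a = S.b := by
    rw [mul_smul, S.hUa _ S.hu1, S.tau_a]
  have e2 : ((S.j * S.t) * S.u1) • S.b = S.u1⁻¹ • S.b := by
    rw [mul_smul, S.hu1c, mul_smul, S.htc, ← S.hu1c, S.j_smul S.hu1]
  have e3 : ((S.j * S.t) * S.u1) • (S.u1⁻¹ • S.b) = S.a := by
    rw [mul_smul, smul_inv_smul, S.tau_b]
  have hρ : ((S.j * S.t) * S.u1) * ((S.j * S.t) * S.u1) * ((S.j * S.t) * S.u1) = 1 := by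
    apply S.hfix _ S.a S.b (S.u1⁻¹ • S.b) S.hab (Ne.symm (S.toPre.smul_b_ne_a hui))
      (Ne.symm (S.toPre.smul_b_ne_b hui hui1))
    · rw [mul_smul, mul_smul, e1, e2, e3]
    · rw [mul_smul, mul_smul, e2, e3, e1]
    · rw [mul_smul, mul_smul, e3, e1, e2]
  have hτi : (S.j * S.t)⁻¹ = S.j * S.t := by rw [inv_eq_iff_mul_eq_one]; exact S.tau_sq
  obtain ⟨τ, hτ⟩ : ∃ τ, τ = S.j * S.t := ⟨_, rfl⟩
  rw [← hτ] at hρ hτi ⊢
  calc τ * S.u1 * τ = ((τ * S.u1) * (τ * S.u1) * (τ * S.u1)) * (S.u1⁻¹ * τ⁻¹ * S.u1⁻¹) := by group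
    _ = S.u1⁻¹ * τ * S.u1⁻¹ := by rw [hρ, one_mul, hτi]

theorem u1_pow_ne_one {n : ℕ} (hn : 0 < n) (hnp : n < S.p) : S.u1 ^ n ≠ 1 := by
  intro h
  have : Fact S.p.Prime := ⟨S.hp⟩
  have h1 : orderOf S.u1 = S.p := orderOf_eq_prime (S.U_pow S.hu1) S.hu11
  have h2 := orderOf_dvd_of_pow_eq_one h
  rw [h1] at h2
  exact Nat.not_dvd_of_pos_of_lt hn hnp h2

/-- the involution `t` inverts the elements of `H` acting on `u1` as a power map -/
theorem t_inv_prime : ∀ n : ℕ, 1 ≤ n → n < S.p → ∀ z : G, z • S.a = S.a → z • S.b = S.b →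
    z * S.u1 * z⁻¹ = S.u1 ^ n → S.t * z * S.t⁻¹ = z⁻¹ := by
  intro n hn
  induction n, hn using Nat.le_induction with
  | base =>
    intro _ z za zb hz
    rw [pow_one] at hz
    have := S.toPre.H_free za zb S.hu1 S.hu11 hz
    rw [this]
    group
  | succ n hn ih =>
    intro hnp z' za' zb' hz'
    have hnp' : n < S.p := by omega
    have hn0 : 0 < n := hn
    obtain ⟨zn, zna, znb, hzn⟩ := S.toPre.H_trans S.hu1 S.hu11 (S.U.pow_mem S.hu1 n)
      (S.u1_pow_ne_one hn0 hnp')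
    have ihn := ih hnp' zn zna znb hzn
    have znia : zn⁻¹ • S.a = S.a := inv_smul_eq_iff.2 zna.symm
    have znib : zn⁻¹ • S.b = S.b := inv_smul_eq_iff.2 znb.symm
    obtain ⟨g, hg⟩ : ∃ g, g = S.t * z' * S.t⁻¹ := ⟨_, rfl⟩
    have ga : g • S.a = S.a := by rw [hg]; exact S.conj_t_a zb'
    have gb : g • S.b = S.b := by rw [hg]; exact S.conj_t_b za'
    obtain ⟨v, hv⟩ : ∃ v, v = g * S.u1 * g⁻¹ := ⟨_, rfl⟩
    have hvU : v ∈ S.U := by rw [hv]; exact S.hUnorm g ga _ S.hu1
    obtain ⟨w, hw⟩ : ∃ w, w = zn⁻¹ * S.u1 * zn⁻¹⁻¹ := ⟨_, rfl⟩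
    have hwU : w ∈ S.U := by rw [hw]; exact S.hUnorm zn⁻¹ znia _ S.hu1
    have hwn : w ^ n = S.u1 := by
      rw [hw, conj_pow, ← hzn]
      group
    -- key relation
    have hzw : z' * w * z'⁻¹ = w * S.u1 := by
      apply S.U_pow_inj (S.hUnorm z' za' w hwU) (S.U.mul_mem hwU S.hu1) hn0 hnp'
      have hc : Commute w S.u1 := S.U_comm hwU S.hu1
      rw [conj_pow, hwn, hz', hc.mul_pow, hwn, pow_succ']
    -- the point X
    have hX : (S.j * S.t) • (S.u1 ^ n • S.b) = w⁻¹ • S.b := by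
      have e1 : S.u1 ^ n • S.b = zn • S.c := by rw [S.H_smul_c znb, hzn]
      rw [e1, mul_smul, S.t_smul, ihn, S.H_smul_c znib, ← hw, S.j_smul hwU]
    -- left side
    have hL : ((S.j * S.t) * S.u1 * (S.j * S.t)) • ((S.j * S.t) • (S.u1 ^ n • S.b)) = v⁻¹ • S.b := by
      have e1 : S.u1 ^ (n + 1) • S.b = z' • S.c := by rw [S.H_smul_c zb', hz']
      have e2 : ((S.j * S.t) * S.u1 * (S.j * S.t)) • ((S.j * S.t) • (S.u1 ^ n • S.b)) =
          (S.j * S.t) • (S.u1 ^ (n + 1) • S.b) := by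
        rw [smul_smul, mul_assoc, S.tau_sq, mul_one, mul_smul (S.j * S.t) S.u1,
          smul_smul S.u1 (S.u1 ^ n), ← pow_succ']
      rw [e2, e1, mul_smul, S.t_smul, ← hg, S.H_smul_c gb, ← hv, S.j_smul hvU]
    -- right side
    have hR : (S.u1⁻¹ * (S.j * S.t) * S.u1⁻¹) • (w⁻¹ • S.b) = (S.u1⁻¹ * v ^ n) • S.b := by
      have e1 : S.u1⁻¹ • (w⁻¹ • S.b) = (S.j * z' * zn⁻¹) • S.c := by
        have e2 : S.u1⁻¹ * w⁻¹ = (z' * w * z'⁻¹)⁻¹ := by rw [hzw]; group
        rw [smul_smul, e2, ← S.j_smul (S.hUnorm z' za' w hwU), S.toPre.conj_smul_b w zb', hw,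
          ← S.H_smul_c znib, smul_smul, smul_smul]
      have e3 : S.t * (S.j * z' * zn⁻¹) * S.t⁻¹ = S.j * g * zn := by
        have e4 : S.t * zn⁻¹ * S.t⁻¹ = zn := by
          calc S.t * zn⁻¹ * S.t⁻¹ = (S.t * zn * S.t⁻¹)⁻¹ := by group
            _ = zn := by rw [ihn, inv_inv]
        calc S.t * (S.j * z' * zn⁻¹) * S.t⁻¹
            = (S.t * S.j * S.t⁻¹) * (S.t * z' * S.t⁻¹) * (S.t * zn⁻¹ * S.t⁻¹) := by group
          _ = S.j * g * zn := by rw [S.tj, ← hg, e4]
      have e5 : (S.j * S.t) • ((S.j * z' * zn⁻¹) • S.c) = v ^ n • S.b := by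
        rw [mul_smul, S.t_smul, e3, smul_smul]
        have e6 : S.j * (S.j * g * zn) = g * zn := by
          calc S.j * (S.j * g * zn) = (S.j * S.j) * g * zn := by group
            _ = g * zn := by rw [S.hjj, one_mul]
        rw [e6, mul_smul, S.H_smul_c znb, hzn, ← S.toPre.conj_smul_b _ gb, ← conj_pow, ← hv]
      rw [mul_smul, mul_smul, e1, e5, smul_smul]
    -- conclusion
    have hrel : ((S.j * S.t) * S.u1 * (S.j * S.t)) • ((S.j * S.t) • (S.u1 ^ n • S.b)) =
        (S.u1⁻¹ * (S.j * S.t) * S.u1⁻¹) • ((S.j * S.t) • (S.u1 ^ n • S.b)) := by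
      rw [S.tau_rel]
    rw [hL, hX, hR] at hrel
    have hvn : v⁻¹ = S.u1⁻¹ * v ^ n :=
      S.toPre.U_smul_inj (S.U.inv_mem hvU) (S.U.mul_mem (S.U.inv_mem S.hu1) (S.U.pow_mem hvU n))
        hrel
    have hv1 : v ^ (n + 1) = S.u1 := by
      calc v ^ (n + 1) = S.u1 * (S.u1⁻¹ * v ^ n) * v := by rw [pow_succ]; group
        _ = S.u1 := by rw [← hvn]; group
    have hv2 : (z'⁻¹ * S.u1 * z'⁻¹⁻¹) ^ (n + 1) = S.u1 := by
      rw [conj_pow, ← hz']
      group
    have z'ia : z'⁻¹ • S.a = S.a := inv_smul_eq_iff.2 za'.symm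
    have hvv : v = z'⁻¹ * S.u1 * z'⁻¹⁻¹ :=
      S.U_pow_inj hvU (S.hUnorm z'⁻¹ z'ia _ S.hu1) (Nat.succ_pos n) hnp (hv1.trans hv2.symm)
    have h1 : z' * g = 1 := by
      apply S.toPre.H_free (by rw [mul_smul, ga, za']) (by rw [mul_smul, gb, zb']) S.hu1 S.hu11
      calc z' * g * S.u1 * (z' * g)⁻¹ = z' * (g * S.u1 * g⁻¹) * z'⁻¹ := by group
        _ = z' * (z'⁻¹ * S.u1 * z'⁻¹⁻¹) * z'⁻¹ := by rw [← hv, hvv]
        _ = S.u1 := by group
    rw [← hg]
    exact eq_inv_of_mul_eq_one_right h1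

/-- an element of `H` acting on `u1` as a power map and with central square is central -/
theorem central_step {z : G} (za : z • S.a = S.a) (zb : z • S.b = S.b) (k : ℕ)
    (hz : z * S.u1 * z⁻¹ = S.u1 ^ k)
    (hzz : ∀ h : G, h • S.a = S.a → h • S.b = S.b → z * z * h = h * (z * z)) :
    ∀ h : G, h • S.a = S.a → h • S.b = S.b → z * h = h * z := by
  have := S.toPre.finite_group
  let _ : CommGroup ↥S.U :=
    { (inferInstance : Group ↥S.U) with
      mul_comm := fun x y => Subtype.ext (S.U_comm x.2 y.2) }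
  let act : ↥(MulAction.stabilizer G S.a ⊓ MulAction.stabilizer G S.b) → ↥S.U → ↥S.U :=
    fun h v => ⟨(h : G) * v * (h : G)⁻¹, S.hUnorm h (S.toPre.H_a h) v v.2⟩
  have hact : ∀ (h : ↥(MulAction.stabilizer G S.a ⊓ MulAction.stabilizer G S.b)) (v : ↥S.U),
      ((act h v : ↥S.U) : G) = (h : G) * v * (h : G)⁻¹ := fun h v => rfl
  have key := InvAut.central_of_sq
    (H := ↥(MulAction.stabilizer G S.a ⊓ MulAction.stabilizer G S.b)) (U := ↥S.U) act
    (by
      intro v
      apply Subtype.ext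
      rw [hact]
      show (1 : G) * v * (1 : G)⁻¹ = v
      group)
    (by
      intro h h' v
      apply Subtype.ext
      rw [hact, hact, hact, Subgroup.coe_mul]
      group)
    (by
      intro h v w
      apply Subtype.ext
      rw [hact]
      show (h : G) * ((v : G) * (w : G)) * (h : G)⁻¹ =
        ((h : G) * v * (h : G)⁻¹) * ((h : G) * w * (h : G)⁻¹)
      group)
    ⟨S.j, Subgroup.mem_inf.2 ⟨S.hja, S.hjb⟩⟩
    (by
      intro v
      apply Subtype.ext
      rw [hact]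
      show S.j * (v : G) * S.j⁻¹ = (v : G)⁻¹
      exact S.j_inv v.2)
    ⟨S.u1, S.hu1⟩
    (by
      intro h hh
      apply Subtype.ext
      have e : (h : G) * S.u1 * (h : G)⁻¹ = S.u1 := congrArg Subtype.val hh
      exact S.toPre.H_free (S.toPre.H_a h) (S.toPre.H_b h) S.hu1 S.hu11 e)
    (by
      intro v hv
      have hv1 : (v : G) ≠ 1 := fun h => hv (Subtype.ext h)
      obtain ⟨h, ha, hb, e⟩ := S.toPre.H_trans S.hu1 S.hu11 v.2 hv1
      exact ⟨⟨h, Subgroup.mem_inf.2 ⟨ha, hb⟩⟩, Subtype.ext e⟩)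
    S.hp S.hp2 S.hf S.card_U' ⟨z, Subgroup.mem_inf.2 ⟨za, zb⟩⟩ k
    (by
      apply Subtype.ext
      rw [hact]
      show z * S.u1 * z⁻¹ = S.u1 ^ k
      exact hz)
    (by
      intro h
      apply Subtype.ext
      exact hzz h (S.toPre.H_a h) (S.toPre.H_b h))
  intro h ha hb
  exact congrArg Subtype.val (key ⟨h, Subgroup.mem_inf.2 ⟨ha, hb⟩⟩)

/-- the involution `t` inverts the two point stabiliser -/
theorem t_inverts : ∀ h : G, h • S.a = S.a → h • S.b = S.b → S.t * h * S.t⁻¹ = h⁻¹ := by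
  classical
  have hfin := S.toPre.finite_group
  have hpF : Fact S.p.Prime := ⟨S.hp⟩
  let σ : ↥(MulAction.stabilizer G S.a ⊓ MulAction.stabilizer G S.b) →
      ↥(MulAction.stabilizer G S.a ⊓ MulAction.stabilizer G S.b) :=
    fun h => ⟨S.t * h * S.t⁻¹,
      Subgroup.mem_inf.2 ⟨S.conj_t_a (S.toPre.H_b h), S.conj_t_b (S.toPre.H_a h)⟩⟩
  have hσ : ∀ h : ↥(MulAction.stabilizer G S.a ⊓ MulAction.stabilizer G S.b),
      ((σ h : ↥(MulAction.stabilizer G S.a ⊓ MulAction.stabilizer G S.b)) : G) =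
        S.t * h * S.t⁻¹ := fun h => rfl
  -- the subgroup of elements acting on `u1` as power maps
  have hQone : ∃ k : ℕ, (1 : G) * S.u1 * (1 : G)⁻¹ = S.u1 ^ k := ⟨1, by rw [pow_one]; group⟩
  have hQmul : ∀ x y : G, (∃ k : ℕ, x * S.u1 * x⁻¹ = S.u1 ^ k) →
      (∃ k : ℕ, y * S.u1 * y⁻¹ = S.u1 ^ k) → ∃ k : ℕ, (x * y) * S.u1 * (x * y)⁻¹ = S.u1 ^ k := by
    rintro x y ⟨k, hk⟩ ⟨k', hk'⟩
    refine ⟨k * k', ?_⟩
    calc (x * y) * S.u1 * (x * y)⁻¹ = x * (y * S.u1 * y⁻¹) * x⁻¹ := by group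
      _ = (x * S.u1 * x⁻¹) ^ k' := by rw [hk', conj_pow]
      _ = S.u1 ^ (k * k') := by rw [hk, pow_mul]
  have hQpow : ∀ (x : G) (n : ℕ), (∃ k : ℕ, x * S.u1 * x⁻¹ = S.u1 ^ k) →
      ∃ k : ℕ, (x ^ n) * S.u1 * (x ^ n)⁻¹ = S.u1 ^ k := by
    intro x n hx
    induction n with
    | zero => rw [pow_zero]; exact hQone
    | succ n ih => rw [pow_succ]; exact hQmul _ _ ih hx
  have hQinv : ∀ x : G, (∃ k : ℕ, x * S.u1 * x⁻¹ = S.u1 ^ k) →
      ∃ k : ℕ, x⁻¹ * S.u1 * x⁻¹⁻¹ = S.u1 ^ k := by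
    intro x hx
    have h1 : x ^ (orderOf x - 1) * x = 1 := by
      rw [← pow_succ, Nat.sub_add_cancel (orderOf_pos x), pow_orderOf_eq_one]
    have h2 : x⁻¹ = x ^ (orderOf x - 1) := (eq_inv_of_mul_eq_one_left h1).symm
    rw [h2]
    exact hQpow x _ hx
  let P0 : Subgroup ↥(MulAction.stabilizer G S.a ⊓ MulAction.stabilizer G S.b) :=
    { carrier := {h | ∃ k : ℕ, (h : G) * S.u1 * (h : G)⁻¹ = S.u1 ^ k}
      mul_mem' := by
        intro x y hx hy
        exact hQmul _ _ hx hy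
      one_mem' := hQone
      inv_mem' := by
        intro x hx
        exact hQinv _ hx }
  have hP0 : ∀ h : ↥(MulAction.stabilizer G S.a ⊓ MulAction.stabilizer G S.b),
      h ∈ P0 ↔ ∃ k : ℕ, (h : G) * S.u1 * (h : G)⁻¹ = S.u1 ^ k := fun h => Iff.rfl
  have hord : orderOf S.u1 = S.p := orderOf_eq_prime (S.U_pow S.hu1) S.hu11
  -- cardinality of P0
  have hcardP0 : Nat.card ↥P0 + 1 = S.p := by
    rw [← hord, ← Nat.card_zpowers, ← Finite.card_option]
    apply Nat.card_eq_of_bijective (fun o : Option ↥P0 =>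
      o.elim (1 : ↥(Subgroup.zpowers S.u1)) (fun h => ⟨((h : ↥(MulAction.stabilizer G S.a ⊓
        MulAction.stabilizer G S.b)) : G) * S.u1 * ((h : ↥(MulAction.stabilizer G S.a ⊓
        MulAction.stabilizer G S.b)) : G)⁻¹, by
          obtain ⟨k, hk⟩ := h.2
          rw [hk]
          exact Subgroup.npow_mem_zpowers _ _⟩))
    constructor
    · intro o o' h
      cases o with
      | none =>
        cases o' with
        | none => rfl
        | some h' =>
          exfalso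
          have e : (1 : G) = ((h' : ↥(MulAction.stabilizer G S.a ⊓
            MulAction.stabilizer G S.b)) : G) * S.u1 * ((h' : ↥(MulAction.stabilizer G S.a ⊓
            MulAction.stabilizer G S.b)) : G)⁻¹ := congrArg Subtype.val h
          apply S.hu11
          calc S.u1 = ((h' : ↥(MulAction.stabilizer G S.a ⊓ MulAction.stabilizer G S.b)) : G)⁻¹ *
                (((h' : ↥(MulAction.stabilizer G S.a ⊓ MulAction.stabilizer G S.b)) : G) * S.u1 *
                ((h' : ↥(MulAction.stabilizer G S.a ⊓ MulAction.stabilizer G S.b)) : G)⁻¹) *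
                ((h' : ↥(MulAction.stabilizer G S.a ⊓ MulAction.stabilizer G S.b)) : G) := by
                  group
            _ = 1 := by rw [← e]; group
      | some h₁ =>
        cases o' with
        | none =>
          exfalso
          have e : ((h₁ : ↥(MulAction.stabilizer G S.a ⊓
            MulAction.stabilizer G S.b)) : G) * S.u1 * ((h₁ : ↥(MulAction.stabilizer G S.a ⊓
            MulAction.stabilizer G S.b)) : G)⁻¹ = 1 := congrArg Subtype.val h
          apply S.hu11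
          calc S.u1 = ((h₁ : ↥(MulAction.stabilizer G S.a ⊓ MulAction.stabilizer G S.b)) : G)⁻¹ *
                (((h₁ : ↥(MulAction.stabilizer G S.a ⊓ MulAction.stabilizer G S.b)) : G) * S.u1 *
                ((h₁ : ↥(MulAction.stabilizer G S.a ⊓ MulAction.stabilizer G S.b)) : G)⁻¹) *
                ((h₁ : ↥(MulAction.stabilizer G S.a ⊓ MulAction.stabilizer G S.b)) : G) := by
                  group
            _ = 1 := by rw [e]; group
        | some h' =>
          obtain ⟨x, hx⟩ := h₁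
          obtain ⟨y, hy⟩ := h'
          have e : (x : G) * S.u1 * (x : G)⁻¹ = (y : G) * S.u1 * (y : G)⁻¹ :=
            congrArg Subtype.val h
          have e' : ((y : G)⁻¹ * (x : G)) * S.u1 * ((y : G)⁻¹ * (x : G))⁻¹ = S.u1 := by
            calc ((y : G)⁻¹ * (x : G)) * S.u1 * ((y : G)⁻¹ * (x : G))⁻¹
                = (y : G)⁻¹ * ((x : G) * S.u1 * (x : G)⁻¹) * (y : G) := by group
              _ = S.u1 := by rw [e]; group
          have h1 := S.toPre.H_free (by rw [mul_smul, S.toPre.H_a x, inv_smul_eq_iff, S.toPre.H_a y])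
            (by rw [mul_smul, S.toPre.H_b x, inv_smul_eq_iff, S.toPre.H_b y]) S.hu1 S.hu11 e'
          apply congrArg some
          apply Subtype.ext
          apply Subtype.ext
          show (x : G) = (y : G)
          calc (x : G) = (y : G) * ((y : G)⁻¹ * (x : G)) := by group
            _ = (y : G) := by rw [h1, mul_one]
    · intro v
      by_cases hv : v = 1
      · exact ⟨none, hv.symm⟩
      · have hv1 : (v : G) ≠ 1 := fun h => hv (Subtype.ext h)
        have hvU : (v : G) ∈ S.U := (Subgroup.zpowers_le.2 S.hu1) v.2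
        obtain ⟨h, ha, hb, e⟩ := S.toPre.H_trans S.hu1 S.hu11 hvU hv1
        have hk : ∃ k : ℕ, S.u1 ^ k = (v : G) := by
          have := v.2
          rw [← mem_powers_iff_mem_zpowers, Submonoid.mem_powers_iff] at this
          exact this
        obtain ⟨k, hk⟩ := hk
        exact ⟨some ⟨⟨h, Subgroup.mem_inf.2 ⟨ha, hb⟩⟩, ⟨k, by rw [hk]; exact e⟩⟩, Subtype.ext e⟩
  have hp3 : 3 ≤ S.p := by
    have := S.hp.two_le
    have := S.hp2
    omega
  have hcardfac : (Nat.card ↥P0).factorization 2 =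
      (Nat.card ↥(MulAction.stabilizer G S.a ⊓ MulAction.stabilizer G S.b)).factorization 2 := by
    have h1 : Nat.card ↥P0 = S.p - 1 := by omega
    rw [h1, S.card_H', two_adic S.hp.two_le (S.hp.odd_of_ne_two S.hp2) S.hf]
  have key := InvAut.sigma_inverts σ
    (by
      intro x y
      apply Subtype.ext
      rw [hσ, Subgroup.coe_mul, Subgroup.coe_mul, hσ, hσ]
      group)
    (by
      intro x
      apply Subtype.ext
      rw [hσ, hσ]
      calc S.t * (S.t * (x : G) * S.t⁻¹) * S.t⁻¹ = (S.t * S.t) * (x : G) * (S.t * S.t)⁻¹ := by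
            group
        _ = (x : G) := by rw [S.htt]; group)
    ⟨S.j, Subgroup.mem_inf.2 ⟨S.hja, S.hjb⟩⟩
    (by
      intro x hx
      have e : S.t * (x : G) * S.t⁻¹ = (x : G) := congrArg Subtype.val hx
      rcases S.fix_t (S.toPre.H_a x) (S.toPre.H_b x) e with h | h
      · left; exact Subtype.ext h
      · right; exact Subtype.ext h)
    (Subtype.ext S.hjj)
    P0
    (by
      intro z hz
      obtain ⟨k, hk⟩ := (hP0 z).1 hz
      apply Subtype.ext
      rw [hσ, Subgroup.coe_inv]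
      have hk' : (z : G) * S.u1 * (z : G)⁻¹ = S.u1 ^ (k % S.p) := by
        rw [hk]
        exact pow_eq_pow_mod k (S.U_pow S.hu1)
      have hk0 : k % S.p ≠ 0 := by
        intro h0
        rw [h0, pow_zero] at hk'
        apply S.hu11
        calc S.u1 = (z : G)⁻¹ * ((z : G) * S.u1 * (z : G)⁻¹) * (z : G) := by group
          _ = 1 := by rw [hk']; group
      exact S.t_inv_prime (k % S.p) (Nat.one_le_iff_ne_zero.2 hk0) (Nat.mod_lt _ S.hp.pos) z
        (S.toPre.H_a z) (S.toPre.H_b z) hk')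
    (by
      intro z hz hzz h
      obtain ⟨k, hk⟩ := (hP0 z).1 hz
      apply Subtype.ext
      rw [Subgroup.coe_mul, Subgroup.coe_mul]
      apply S.central_step (S.toPre.H_a z) (S.toPre.H_b z) k hk _ h (S.toPre.H_a h) (S.toPre.H_b h)
      intro h' ha' hb'
      exact congrArg Subtype.val (hzz ⟨h', Subgroup.mem_inf.2 ⟨ha', hb'⟩⟩))
    hcardfac
  intro h ha hb
  exact congrArg Subtype.val (key ⟨h, Subgroup.mem_inf.2 ⟨ha, hb⟩⟩)

/-- the resulting general configuration -/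
theorem gconfig (S : OSetup G Ω) : Nonempty (S3TGen.GConfig G Ω) :=
  ⟨{ a := S.a
     b := S.b
     c := S.c
     hab := S.hab
     hac := S.hac
     hbc := S.hbc
     U := S.U
     h3 := S.h3
     hfix := S.hfix
     hUa := S.hUa
     hUtr := S.hUtr
     hUfree := S.hUfree
     hUnorm := S.hUnorm
     hUcomm := fun u hu u' hu' => S.U_comm hu hu'
     hHcomm := fun h k ha hb ka kb =>
       S3TField.comm_of_inverted S.t h k (S.t_inverts h ha hb) (S.t_inverts k ka kb)
         (S.t_inverts (h * k) (by rw [mul_smul, ka, ha]) (by rw [mul_smul, kb, hb]))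
     w := S.t
     hwa := S.hta
     hwb := S.htb
     hwc := S.htc
     hwinv := S.t_inverts }⟩

end OSetup

/-- **Zassenhaus** (odd exponent): a sharply triply transitive group of degree `p ^ f + 1`,
`p` an odd prime and `f` odd, is `PGL(2, F)` for a field `F` with `p ^ f` elements. -/
theorem pgl_of_sharp {G : Type u} [Group G] {Ω : Type v} [MulAction G Ω] [Finite Ω]
    (h3 : ∀ x y z x' y' z' : Ω, x ≠ y → x ≠ z → y ≠ z → x' ≠ y' → x' ≠ z' → y' ≠ z' →
      ∃ g : G, g • x = x' ∧ g • y = y' ∧ g • z = z')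
    (hfix : ∀ (g : G) (x y z : Ω), x ≠ y → x ≠ z → y ≠ z → g • x = x → g • y = y → g • z = z →
      g = 1)
    {p f : ℕ} (hp : p.Prime) (hp2 : p ≠ 2) (hf : Odd f) (hcard : Nat.card Ω = p ^ f + 1) :
    ∃ (F : Type) (_ : Field F) (_ : Fintype F), Nat.card F = p ^ f ∧
      Nonempty (G ≃* Matrix.ProjGenLinGroup (Fin 2) F) := by
  have hp3 : 3 ≤ p := by
    have := hp.two_le
    omega
  have hpf : 3 ≤ p ^ f := by
    obtain ⟨k, hk⟩ := hf
    calc 3 ≤ p := hp3
      _ = p ^ 1 := (pow_one p).symm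
      _ ≤ p ^ f := Nat.pow_le_pow_right (by omega) (by omega)
  obtain ⟨P⟩ := exists_pre h3 hfix (by rw [hcard]; omega)
  have hfin := P.finite_group
  obtain ⟨t, hta, htb, htc, htt⟩ := P.exists_t
  obtain ⟨u1, hu1, hu1c, hu11⟩ := P.exists_u1
  -- the involution of the two point stabiliser
  have hcU : Nat.card ↥P.U = p ^ f := by
    have := P.card_U
    omega
  have hcH : Nat.card ↥(MulAction.stabilizer G P.a ⊓ MulAction.stabilizer G P.b) = p ^ f - 1 := by
    have := P.card_H hu1 hu11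
    omega
  have hdvd : 2 ∣ Nat.card ↥(MulAction.stabilizer G P.a ⊓ MulAction.stabilizer G P.b) := by
    rw [hcH]
    have hodd : Odd (p ^ f) := (hp.odd_of_ne_two hp2).pow
    obtain ⟨k, hk⟩ := hodd
    omega
  have : Fact (Nat.Prime 2) := ⟨Nat.prime_two⟩
  obtain ⟨x, hx⟩ := exists_prime_orderOf_dvd_card'
    (G := ↥(MulAction.stabilizer G P.a ⊓ MulAction.stabilizer G P.b)) 2 hdvd
  have hjj : (x : G) * (x : G) = 1 := by
    have h' := pow_orderOf_eq_one x
    rw [hx, pow_two] at h'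
    exact congrArg Subtype.val h'
  have hj1 : (x : G) ≠ 1 := by
    intro h
    have h' : x = 1 := Subtype.ext h
    rw [h', orderOf_one] at hx
    omega
  let S : OSetup G Ω :=
    { P with
      p := p
      f := f
      hp := hp
      hp2 := hp2
      hf := hf
      hcard := hcard
      t := t
      hta := hta
      htb := htb
      htc := htc
      htt := htt
      j := x
      hja := P.H_a x
      hjb := P.H_b x
      hjj := hjj
      hj1 := hj1
      u1 := u1
      hu1 := hu1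
      hu1c := hu1c
      hu11 := hu11 }
  obtain ⟨C⟩ := S.gconfig
  obtain ⟨F, hF1, hF2, -, hc2, hiso⟩ := S3TGen.exists_field_type0 C
  refine ⟨F, hF1, hF2, ?_, hiso⟩
  omega

end Cfsg.Agent.Lib.Helper52.S3TOdd
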