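import Mathlib
import Cfsg.Prelude.Def_Characters
import Cfsg.Agent.S0171
import Cfsg.Agent.Lib.CT.Orth
import Cfsg.Agent.Lib.CT.NormOne
import Cfsg.Agent.Lib.CT.Ops
import Cfsg.Agent.Lib.CT.FrobRec
import Cfsg.Agent.Lib.Helper3.MGroup

/-!
Characters of a Frobenius group `N = K ⋊ E` with abelian kernel `K` and abelian complement `E`,
inside a group `G` in which `K` is a trivial intersection set with normaliser `N`
(`FSetup G`): the irreducible characters of `N` are the characters `Ind_K^N τ` (`τ ≠ 1`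
irreducible on `K`), of degree `|E|` and vanishing outside `K`, and `|E|` linear characters
trivial on `K` (`irrN_cases`, `card_fiber`, `card_Z_mul`, `card_M`).
-/

set_option autoImplicit false
set_option linter.unusedSectionVars false

namespace Cfsg.Agent.Lib.Helper52.FeitN

open Cfsg Cfsg.Agent.Lib.CT Cfsg.Agent.Lib.CT.Wedderburn
open scoped ComplexConjugate commutatorElement

universe u

/-- A Frobenius group `N = K ⋊ E` with abelian kernel and abelian complement inside `G`, the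
kernel being a trivial intersection set. -/
structure FSetup (G : Type u) [Group G] where
  N : Subgroup G
  K : Subgroup G
  E : Subgroup G
  hKN : K ≤ N
  hEN : E ≤ N
  hnorm : ∀ n ∈ N, ∀ k ∈ K, n * k * n⁻¹ ∈ K
  hKcomm : ∀ x ∈ K, ∀ y ∈ K, x * y = y * x
  hEcomm : ∀ x ∈ E, ∀ y ∈ E, x * y = y * x
  hKE : ∀ x ∈ K, x ∈ E → x = 1
  hprod : ∀ n ∈ N, ∃ k ∈ K, ∃ x ∈ E, n = k * x
  hfpf : ∀ x ∈ E, x ≠ 1 → ∀ k ∈ K, x * k = k * x → k = 1
  hTI : ∀ g : G, ∀ u ∈ K, u ≠ 1 → g * u * g⁻¹ ∈ N → g ∈ N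

namespace FSetup

variable {G : Type u} [Group G] (S : FSetup G)

/-- the kernel as a subgroup of `N` -/
def K' : Subgroup ↥S.N := S.K.subgroupOf S.N

/-- the complement as a subgroup of `N` -/
def E' : Subgroup ↥S.N := S.E.subgroupOf S.N

theorem mem_K' {x : ↥S.N} : x ∈ S.K' ↔ (x : G) ∈ S.K := Subgroup.mem_subgroupOf

theorem mem_E' {x : ↥S.N} : x ∈ S.E' ↔ (x : G) ∈ S.E := Subgroup.mem_subgroupOf

theorem K'_normal : S.K'.Normal := by
  constructor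
  intro k hk n
  rw [mem_K'] at hk ⊢
  exact S.hnorm n n.2 k hk

theorem inf_eq_bot : S.K' ⊓ S.E' = ⊥ := by
  rw [eq_bot_iff]
  intro x hx
  rw [Subgroup.mem_inf, mem_K', mem_E'] at hx
  rw [Subgroup.mem_bot]
  exact Subtype.ext (S.hKE x hx.1 hx.2)

theorem sup_eq_top : S.K' ⊔ S.E' = ⊤ := by
  rw [eq_top_iff]
  intro n _
  obtain ⟨k, hk, x, hx, hn⟩ := S.hprod n n.2
  have e : n = (⟨k, S.hKN hk⟩ : ↥S.N) * ⟨x, S.hEN hx⟩ := Subtype.ext hn
  rw [e]
  exact Subgroup.mul_mem_sup (S.mem_K'.2 hk) (S.mem_E'.2 hx)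

theorem fpf' : ∀ x ∈ S.E', x ≠ 1 → ∀ k ∈ S.K', x * k = k * x → k = 1 := by
  intro x hx hx1 k hk hc
  rw [mem_E'] at hx
  rw [mem_K'] at hk
  have h1 : (x : G) ≠ 1 := fun h => hx1 (Subtype.ext h)
  have h2 : (x : G) * k = k * x := congrArg Subtype.val hc
  exact Subtype.ext (S.hfpf x hx h1 k hk h2)

theorem comm_K' (a b : ↥S.K') : a * b = b * a := by
  apply Subtype.ext
  apply Subtype.ext
  exact S.hKcomm _ (S.mem_K'.1 a.2) _ (S.mem_K'.1 b.2)

theorem card_N [Finite G] : Nat.card ↥S.N = Nat.card ↥S.K * Nat.card ↥S.E := by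
  rw [← Nat.card_prod]
  symm
  apply Nat.card_eq_of_bijective
    (fun p : ↥S.K × ↥S.E => (⟨(p.1 : G) * p.2, S.N.mul_mem (S.hKN p.1.2) (S.hEN p.2.2)⟩ : ↥S.N))
  constructor
  · rintro ⟨k, x⟩ ⟨k', x'⟩ h
    have h' : (k : G) * x = k' * x' := congrArg Subtype.val h
    have h1 : (k' : G)⁻¹ * k = x' * (x : G)⁻¹ := by
      calc (k' : G)⁻¹ * k = (k' : G)⁻¹ * ((k : G) * x) * (x : G)⁻¹ := by group
        _ = x' * (x : G)⁻¹ := by rw [h']; group
    have h2 : (k' : G)⁻¹ * k = 1 := by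
      apply S.hKE _ (S.K.mul_mem (S.K.inv_mem k'.2) k.2)
      rw [h1]
      exact S.E.mul_mem x'.2 (S.E.inv_mem x.2)
    have h3 : (k : G) = k' := by
      calc (k : G) = k' * ((k' : G)⁻¹ * k) := by group
        _ = k' := by rw [h2, mul_one]
    have h4 : (x : G) = x' := by
      rw [h3] at h'
      exact mul_left_cancel h'
    exact Prod.ext (Subtype.ext h3) (Subtype.ext h4)
  · intro n
    obtain ⟨k, hk, x, hx, hn⟩ := S.hprod n n.2
    exact ⟨(⟨k, hk⟩, ⟨x, hx⟩), Subtype.ext hn.symm⟩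

theorem card_K' : Nat.card ↥S.K' = Nat.card ↥S.K :=
  Nat.card_congr (Subgroup.subgroupOfEquivOfLe S.hKN).toEquiv

theorem index_K' [Finite G] : S.K'.index = Nat.card ↥S.E := by
  have h1 := S.K'.card_mul_index
  rw [S.card_K', S.card_N] at h1
  have hpos : 0 < Nat.card ↥S.K := Nat.card_pos
  exact Nat.eq_of_mul_eq_mul_left hpos h1

/-- commutators of `N` lie in `K` -/
theorem comm_mem_K' (a b : ↥S.N) : ⁅a, b⁆ ∈ S.K' := by
  have := S.K'_normal
  have key : ∀ n : ↥S.N, ∃ x : ↥S.N, x ∈ S.E' ∧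
      (QuotientGroup.mk n : ↥S.N ⧸ S.K') = QuotientGroup.mk x := by
    intro n
    obtain ⟨k, hk, x, hx, hn⟩ := S.hprod n n.2
    refine ⟨⟨x, S.hEN hx⟩, S.mem_E'.2 hx, ?_⟩
    have e : n = (⟨k, S.hKN hk⟩ : ↥S.N) * ⟨x, S.hEN hx⟩ := Subtype.ext hn
    rw [e, QuotientGroup.mk_mul]
    have : (QuotientGroup.mk (⟨k, S.hKN hk⟩ : ↥S.N) : ↥S.N ⧸ S.K') = 1 :=
      (QuotientGroup.eq_one_iff _).2 (S.mem_K'.2 hk)
    rw [this, one_mul]
  obtain ⟨x, hx, ea⟩ := key a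
  obtain ⟨y, hy, eb⟩ := key b
  rw [← QuotientGroup.eq_one_iff]
  have hxy : x * y = y * x := by
    apply Subtype.ext
    exact S.hEcomm _ (S.mem_E'.1 hx) _ (S.mem_E'.1 hy)
  have e1 : (QuotientGroup.mk ⁅a, b⁆ : ↥S.N ⧸ S.K') =
      ⁅(QuotientGroup.mk a : ↥S.N ⧸ S.K'), QuotientGroup.mk b⁆ := by
    rw [commutatorElement_def, commutatorElement_def]
    rfl
  rw [e1, ea, eb, commutatorElement_def, ← QuotientGroup.mk_mul, hxy, QuotientGroup.mk_mul]
  group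

section chars

variable [Fintype G] [Fintype ↥S.N] [Fintype ↥S.K']

/-- irreducible characters of the kernel are linear -/
theorem irrK_one {τ : ↥S.K' → ℂ} (hτ : IsIrrCharacter ↥S.K' τ) : τ 1 = 1 := by
  apply Cfsg.Agent.Lib.Helper3.MGroup.apply_one_eq_one_of_comm hτ
  intro a b
  have : ⁅a, b⁆ = 1 := by
    rw [commutatorElement_eq_one_iff_mul_comm]
    exact S.comm_K' a b
  rw [this]

theorem card_irrK : Nat.card (IrrCharacter ↥S.K') = Nat.card ↥S.K := by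
  rw [Orth.card_irrCharacter, ← S.card_K']
  symm
  apply Nat.card_eq_of_bijective (ConjClasses.mk : ↥S.K' → ConjClasses ↥S.K')
  refine ⟨?_, ConjClasses.mk_surjective⟩
  intro a b h
  rw [ConjClasses.mk_eq_mk_iff_isConj, isConj_iff] at h
  obtain ⟨c, hc⟩ := h
  rw [← hc, S.comm_K' c a, mul_inv_cancel_right]

theorem zeta_irr {τ : ↥S.K' → ℂ} (hτ : IsIrrCharacter ↥S.K' τ) (hτ1 : τ ≠ fun _ => 1) :
    IsIrrCharacter ↥S.N (indFun S.K' τ) := by
  have := S.K'_normal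
  exact Cfsg.Agent.S0171.result S.K' S.E' S.inf_eq_bot S.sup_eq_top S.fpf' τ hτ hτ1

theorem zeta_vanish (τ : ↥S.K' → ℂ) {x : ↥S.N} (hx : x ∉ S.K') : indFun S.K' τ x = 0 := by
  have := S.K'_normal
  exact FrobRec.indFun_eq_zero_of_normal S.K' τ x hx

theorem zeta_one {τ : ↥S.K' → ℂ} (hτ : IsIrrCharacter ↥S.K' τ) :
    indFun S.K' τ 1 = (Nat.card ↥S.E : ℂ) := by
  rw [FrobRec.indFun_one, S.index_K', S.irrK_one hτ, mul_one]

/-- a sum over `N` of a function vanishing outside `K` -/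
theorem sum_K' (f : ↥S.N → ℂ) (hf : ∀ x : ↥S.N, x ∉ S.K' → f x = 0) :
    ∑ k : ↥S.K', f k = ∑ x : ↥S.N, f x := by
  have h := FrobRec.sum_extendByZero_mul S.K' (fun _ => (1 : ℂ)) f
  have h' : ∑ k : ↥S.K', f k = ∑ k : ↥S.K', (fun _ : ↥S.K' => (1 : ℂ)) k * f k := by
    apply Finset.sum_congr rfl
    intro k _
    rw [one_mul]
  rw [h', ← h]
  apply Finset.sum_congr rfl
  intro x _
  by_cases hx : x ∈ S.K'
  · rw [FrobRec.extendByZero_apply_of_mem _ _ hx, one_mul]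
  · rw [hf x hx, mul_zero]

variable [Fintype (IrrCharacter ↥S.K')]

/-- An irreducible character of `N` is induced from a nontrivial character of `K`, or is linear
and trivial on `K`. -/
theorem irrN_cases {ψ : ↥S.N → ℂ} (hψ : IsIrrCharacter ↥S.N ψ) :
    (∃ τ : ↥S.K' → ℂ, IsIrrCharacter ↥S.K' τ ∧ τ ≠ (fun _ => 1) ∧ ψ = indFun S.K' τ) ∨
    ((∀ k : ↥S.N, k ∈ S.K' → ψ k = 1) ∧ ψ 1 = 1) := by
  classical
  have hψc := isCharacter_of_irr hψ
  have hres : IsCharacter ↥S.K' (fun k : ↥S.K' => ψ k) := Ops.isCharacter_restrict S.K' hψc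
  obtain ⟨m, hm, hexp⟩ := NormOne.exists_mult_sum hres
  by_cases hex : ∃ τ : IrrCharacter ↥S.K', (τ : ↥S.K' → ℂ) ≠ (fun _ => 1) ∧ m τ ≠ 0
  · left
    obtain ⟨τ, hτ1, hmτ⟩ := hex
    refine ⟨τ, τ.2, hτ1, ?_⟩
    have h1 : classInner ψ (indFun S.K' (τ : ↥S.K' → ℂ)) ≠ 0 := by
      rw [FrobRec.frobenius_reciprocity' S.K' _ ψ (char_isClassFunction hψc), hm τ]
      exact_mod_cast hmτ
    have h2 := irr_orthonormal (⟨ψ, hψ⟩ : IrrCharacter ↥S.N)
      ⟨indFun S.K' τ, S.zeta_irr τ.2 hτ1⟩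
    by_contra hne
    rw [if_neg (fun h => hne (congrArg Subtype.val h))] at h2
    exact h1 h2
  · right
    push Not at hex
    have hk : ∀ k : ↥S.K', ψ k =
        (m (⟨fun _ => 1, Ops.isIrrCharacter_one⟩ : IrrCharacter ↥S.K') : ℂ) := by
      intro k
      have := congrFun hexp k
      rw [Finset.sum_apply, Finset.sum_eq_single
        (⟨fun _ => 1, Ops.isIrrCharacter_one⟩ : IrrCharacter ↥S.K')] at this
      · simpa using this
      · intro τ _ hτ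
        have hτ1 : (τ : ↥S.K' → ℂ) ≠ fun _ => 1 := fun h => hτ (Subtype.ext h)
        rw [hex τ hτ1]
        simp
      · intro h
        exact absurd (Finset.mem_univ _) h
    have h1 : ∀ k : ↥S.N, k ∈ S.K' → ψ k = ψ 1 := by
      intro k hk'
      have e1 := hk ⟨k, hk'⟩
      have e2 := hk 1
      rw [e1]
      exact e2.symm
    have h2 : ψ 1 = 1 := by
      apply Cfsg.Agent.Lib.Helper3.MGroup.apply_one_eq_one_of_comm hψ
      intro a b
      exact h1 _ (S.comm_mem_K' a b)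
    exact ⟨fun k hk' => (h1 k hk').trans h2, h2⟩

variable [Fintype (IrrCharacter ↥S.N)]

open Classical in
/-- the induced character, as an irreducible character of `N` (for `τ ≠ 1`) -/
noncomputable def zI (τ : IrrCharacter ↥S.K') : IrrCharacter ↥S.N :=
  if h : (τ : ↥S.K' → ℂ) ≠ (fun _ => 1) then ⟨indFun S.K' τ, S.zeta_irr τ.2 h⟩
  else ⟨fun _ => 1, Ops.isIrrCharacter_one⟩

theorem zI_coe {τ : IrrCharacter ↥S.K'} (h : (τ : ↥S.K' → ℂ) ≠ (fun _ => 1)) :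
    (S.zI τ : ↥S.N → ℂ) = indFun S.K' τ := by
  unfold zI
  rw [dif_pos h]

open Classical in
/-- the nontrivial irreducible characters of the kernel -/
noncomputable def Lam : Finset (IrrCharacter ↥S.K') :=
  Finset.univ.filter (fun τ => (τ : ↥S.K' → ℂ) ≠ (fun _ => 1))

theorem mem_Lam {τ : IrrCharacter ↥S.K'} : τ ∈ S.Lam ↔ (τ : ↥S.K' → ℂ) ≠ (fun _ => 1) := by
  unfold Lam
  rw [Finset.mem_filter]
  exact ⟨fun h => h.2, fun h => ⟨Finset.mem_univ _, h⟩⟩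

open Classical in
/-- the induced characters -/
noncomputable def Z : Finset (IrrCharacter ↥S.N) := S.Lam.image S.zI

theorem card_Lam : S.Lam.card + 1 = Nat.card ↥S.K := by
  classical
  have h1 : S.Lam = Finset.univ.erase (⟨fun _ => 1, Ops.isIrrCharacter_one⟩ : IrrCharacter ↥S.K') := by
    ext τ
    rw [S.mem_Lam, Finset.mem_erase]
    constructor
    · intro h
      exact ⟨fun h' => h (congrArg Subtype.val h'), Finset.mem_univ _⟩
    · intro h h'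
      exact h.1 (Subtype.ext h')
  rw [h1, Finset.card_erase_of_mem (Finset.mem_univ _), Finset.card_univ, ← S.card_irrK,
    Nat.card_eq_fintype_card]
  have : 0 < Fintype.card (IrrCharacter ↥S.K') :=
    Fintype.card_pos_iff.2 ⟨⟨fun _ => 1, Ops.isIrrCharacter_one⟩⟩
  omega

theorem Z_vanish {z : IrrCharacter ↥S.N} (hz : z ∈ S.Z) {x : ↥S.N} (hx : x ∉ S.K') :
    (z : ↥S.N → ℂ) x = 0 := by
  classical
  obtain ⟨τ, hτ, rfl⟩ := Finset.mem_image.1 hz
  rw [S.zI_coe (S.mem_Lam.1 hτ)]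
  exact S.zeta_vanish _ hx

theorem Z_one {z : IrrCharacter ↥S.N} (hz : z ∈ S.Z) :
    (z : ↥S.N → ℂ) 1 = (Nat.card ↥S.E : ℂ) := by
  classical
  obtain ⟨τ, hτ, rfl⟩ := Finset.mem_image.1 hz
  rw [S.zI_coe (S.mem_Lam.1 hτ)]
  exact S.zeta_one τ.2

theorem exists_not_mem_K' (he : 1 < Nat.card ↥S.E) : ∃ x : ↥S.N, x ∉ S.K' := by
  have : Finite ↥S.E := Nat.finite_of_card_ne_zero (by omega)
  have := Finite.one_lt_card_iff_nontrivial.1 he
  obtain ⟨x, hx⟩ := exists_ne (1 : ↥S.E)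
  refine ⟨⟨x, S.hEN x.2⟩, ?_⟩
  rw [mem_K']
  intro h
  exact hx (Subtype.ext (S.hKE _ h x.2))

theorem one_not_mem_Z (he : 1 < Nat.card ↥S.E) :
    (⟨fun _ => 1, Ops.isIrrCharacter_one⟩ : IrrCharacter ↥S.N) ∉ S.Z := by
  intro h
  obtain ⟨x, hx⟩ := S.exists_not_mem_K' he
  have := S.Z_vanish h hx
  exact one_ne_zero this

/-- every fibre of induction has `|E|` elements -/
theorem card_fiber (he : 1 < Nat.card ↥S.E) {z : IrrCharacter ↥S.N} (hz : z ∈ S.Z) :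
    (S.Lam.filter (fun τ => S.zI τ = z)).card = Nat.card ↥S.E := by
  classical
  obtain ⟨τ₀, hτ₀, hzτ⟩ := Finset.mem_image.1 hz
  have hτ₀1 := S.mem_Lam.1 hτ₀
  have hzc : (z : ↥S.N → ℂ) = indFun S.K' (τ₀ : ↥S.K' → ℂ) := by
    rw [← hzτ]
    exact S.zI_coe hτ₀1
  have hres : IsCharacter ↥S.K' (fun k : ↥S.K' => (z : ↥S.N → ℂ) k) :=
    Ops.isCharacter_restrict S.K' (isCharacter_of_irr z.2)
  obtain ⟨m, hm, hexp⟩ := NormOne.exists_mult_sum hres
  have hm1 : ∀ τ ∈ S.Lam, m τ = if S.zI τ = z then 1 else 0 := by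
    intro τ hτ
    have hτ1 := S.mem_Lam.1 hτ
    have h1 : classInner (z : ↥S.N → ℂ) (indFun S.K' (τ : ↥S.K' → ℂ)) = (m τ : ℂ) := by
      rw [FrobRec.frobenius_reciprocity' S.K' _ _ (char_isClassFunction (isCharacter_of_irr z.2)),
        hm τ]
    have h2 := irr_orthonormal z (S.zI τ)
    rw [S.zI_coe hτ1, h1] at h2
    by_cases hc : S.zI τ = z
    · rw [if_pos hc]
      rw [if_pos hc.symm] at h2
      exact_mod_cast h2
    · rw [if_neg hc]
      rw [if_neg (fun h => hc h.symm)] at h2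
      exact_mod_cast h2
  have hm0 : ∀ τ : IrrCharacter ↥S.K', τ ∉ S.Lam → m τ = 0 := by
    intro τ hτ
    have hτ1 : (τ : ↥S.K' → ℂ) = fun _ => 1 := by
      by_contra h
      exact hτ (S.mem_Lam.2 h)
    have h1 := hm τ
    rw [hτ1] at h1
    have h2 : classInner (fun k : ↥S.K' => (z : ↥S.N → ℂ) k) (fun _ => (1 : ℂ)) =
        (Nat.card ↥S.K' : ℂ)⁻¹ * ((Nat.card ↥S.N : ℂ) *
          classInner (z : ↥S.N → ℂ) (fun _ => (1 : ℂ))) := by
      unfold classInner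
      simp only [map_one, mul_one]
      rw [S.sum_K' (z : ↥S.N → ℂ) (fun x hx => S.Z_vanish hz hx)]
      have : (Nat.card ↥S.N : ℂ) ≠ 0 := by exact_mod_cast Nat.card_pos.ne'
      field_simp
    have h3 := irr_orthonormal z (⟨fun _ => 1, Ops.isIrrCharacter_one⟩ : IrrCharacter ↥S.N)
    rw [if_neg (fun h => S.one_not_mem_Z he (by rw [← h]; exact hz))] at h3
    rw [h2, h3, mul_zero, mul_zero] at h1
    exact_mod_cast h1.symm
  have h1 := congrFun hexp 1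
  rw [Finset.sum_apply] at h1
  have h2 : (z : ↥S.N → ℂ) ((1 : ↥S.K') : ↥S.N) = (Nat.card ↥S.E : ℂ) := S.Z_one hz
  have h3 : ∑ τ : IrrCharacter ↥S.K', ((m τ : ℂ) • (τ : ↥S.K' → ℂ)) 1 =
      ((S.Lam.filter (fun τ => S.zI τ = z)).card : ℂ) := by
    rw [Finset.card_filter, Nat.cast_sum, ← Finset.sum_subset (Finset.subset_univ S.Lam)]
    · apply Finset.sum_congr rfl
      intro τ hτ
      rw [Pi.smul_apply, smul_eq_mul, S.irrK_one τ.2, mul_one, hm1 τ hτ]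
    · intro τ _ hτ
      rw [Pi.smul_apply, hm0 τ hτ]
      simp
  rw [h3] at h1
  have h4 : (Nat.card ↥S.E : ℂ) = ((S.Lam.filter (fun τ => S.zI τ = z)).card : ℂ) := by
    rw [← h2]
    exact h1
  exact_mod_cast h4.symm

/-- `T e = h - 1` -/
theorem card_Z_mul (he : 1 < Nat.card ↥S.E) :
    S.Z.card * Nat.card ↥S.E + 1 = Nat.card ↥S.K := by
  classical
  rw [← S.card_Lam]
  congr 1
  have h1 := Finset.card_eq_sum_card_image S.zI S.Lam
  rw [h1]
  have h2 : ∀ z ∈ S.Lam.image S.zI, (S.Lam.filter (fun τ => S.zI τ = z)).card = Nat.card ↥S.E :=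
    fun z hz => S.card_fiber he hz
  rw [Finset.sum_congr rfl h2, Finset.sum_const, smul_eq_mul]
  rfl

open Classical in
/-- the irreducible characters of `N` that are not induced from `K` -/
noncomputable def M : Finset (IrrCharacter ↥S.N) := Finset.univ.filter (fun ψ => ψ ∉ S.Z)

theorem mem_M {ψ : IrrCharacter ↥S.N} : ψ ∈ S.M ↔ ψ ∉ S.Z := by
  unfold M
  rw [Finset.mem_filter]
  exact ⟨fun h => h.2, fun h => ⟨Finset.mem_univ _, h⟩⟩

/-- the characters in `M` are linear and trivial on `K` -/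
theorem M_lin {ψ : IrrCharacter ↥S.N} (hψ : ψ ∈ S.M) :
    (∀ k : ↥S.N, k ∈ S.K' → (ψ : ↥S.N → ℂ) k = 1) ∧ (ψ : ↥S.N → ℂ) 1 = 1 := by
  classical
  rcases S.irrN_cases ψ.2 with ⟨τ, hτ, hτ1, he⟩ | h
  · exfalso
    apply S.mem_M.1 hψ
    refine Finset.mem_image.2 ⟨⟨τ, hτ⟩, S.mem_Lam.2 hτ1, ?_⟩
    apply Subtype.ext
    rw [S.zI_coe hτ1]
    exact he.symm
  · exact h

theorem card_M (he : 1 < Nat.card ↥S.E) : S.M.card = Nat.card ↥S.E := by
  classical
  have h1 := Orth.sum_apply_one_sq_sum (G := ↥S.N)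
  have hsplit : ∑ ψ : IrrCharacter ↥S.N, (ψ : ↥S.N → ℂ) 1 ^ 2 =
      ∑ ψ ∈ S.Z, (ψ : ↥S.N → ℂ) 1 ^ 2 + ∑ ψ ∈ S.M, (ψ : ↥S.N → ℂ) 1 ^ 2 := by
    have hd : Disjoint S.Z S.M := by
      rw [Finset.disjoint_left]
      intro ψ h1 h2
      exact S.mem_M.1 h2 h1
    have hu : S.Z ∪ S.M = Finset.univ := by
      ext ψ
      simp only [Finset.mem_union, Finset.mem_univ, iff_true]
      by_cases h : ψ ∈ S.Z
      · exact Or.inl h
      · exact Or.inr (S.mem_M.2 h)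
    rw [← hu, Finset.sum_union hd]
  have hZs : ∑ ψ ∈ S.Z, (ψ : ↥S.N → ℂ) 1 ^ 2 =
      (S.Z.card : ℂ) * (Nat.card ↥S.E : ℂ) ^ 2 := by
    rw [Finset.sum_congr rfl (fun ψ hψ => by rw [S.Z_one hψ]), Finset.sum_const, nsmul_eq_mul]
  have hMs : ∑ ψ ∈ S.M, (ψ : ↥S.N → ℂ) 1 ^ 2 = (S.M.card : ℂ) := by
    rw [Finset.sum_congr rfl (fun ψ hψ => by rw [(S.M_lin hψ).2, one_pow]), Finset.sum_const,
      nsmul_eq_mul, mul_one]
  rw [hsplit, hZs, hMs, S.card_N] at h1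
  have h2 := S.card_Z_mul he
  have h3 : (S.Z.card * Nat.card ↥S.E ^ 2 + S.M.card : ℕ) = Nat.card ↥S.K * Nat.card ↥S.E := by
    exact_mod_cast h1
  have h4 : S.Z.card * Nat.card ↥S.E ^ 2 + S.M.card =
      (S.Z.card * Nat.card ↥S.E + 1) * Nat.card ↥S.E := by
    rw [h2]
    exact h3
  nlinarith

end chars

end FSetup

end Cfsg.Agent.Lib.Helper52.FeitN
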