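import Mathlib
import Cfsg.Prelude.Def_Characters
import Cfsg.Agent.Lib.Helper52.FeitN
import Cfsg.Agent.S0170
import Cfsg.Agent.Lib.CT.Orth
import Cfsg.Agent.Lib.CT.NormOne
import Cfsg.Agent.Lib.CT.Ops
import Cfsg.Agent.Lib.CT.FrobRec
import Cfsg.Agent.Lib.CT.IndChar
import Cfsg.Agent.Lib.CT.Clifford
import Cfsg.Agent.Lib.CT.LinChar
import Cfsg.Agent.Lib.CT.Kernel

/-!
Feit's theorem on simple groups containing a Frobenius subgroup `N = K ⋊ E` with abelian kernel
`K` (a trivial intersection set with normaliser `N`) and abelian complement of odd order `e`,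
where `|G| = (h + 1) h e`, `h = |K|`: if at least `e` classes of `G` miss `K` and the linear
characters of `N` induce as for a doubly transitive group whose two point stabiliser is inverted,
then `h - 1 ≤ 2 e` (`feit_core`).  The proof uses the exceptional characters of `S0170`.
-/

set_option autoImplicit false
set_option linter.unusedSectionVars false

namespace Cfsg.Agent.Lib.Helper52.FeitG

open Cfsg Cfsg.Agent.Lib.CT Cfsg.Agent.Lib.CT.Wedderburn Cfsg.Agent.Lib.Helper52.FeitN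
open scoped ComplexConjugate

universe u

section general

variable {G : Type u} [Group G] [Fintype G]

theorem classInner_comm_char {α β : G → ℂ} (hα : IsCharacter G α) (hβ : IsCharacter G β) :
    classInner α β = classInner β α := by
  obtain ⟨m, hm⟩ := Clifford.classInner_char_nat hβ hα
  rw [Clifford.classInner_conj_symm, hm, Complex.conj_natCast]

theorem sum_ite_mem (N : Subgroup G) [DecidablePred (· ∈ N)] (c : ℂ) :
    ∑ x : G, (if x ∈ N then c else 0) = (Nat.card N : ℂ) * c := by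
  rw [← Finset.sum_filter, Finset.sum_const, nsmul_eq_mul, Nat.card_eq_fintype_card,
    Fintype.card_subtype]

theorem exc_transport (Sset : Set G) (N : Subgroup G)
    (hN : Subgroup.normalizer Sset = N) (hSN : Sset ⊆ N)
    (hTI : ∀ g : G, g ∉ N → ∀ s ∈ Sset, g * s * g⁻¹ ∈ Sset → s = 1) (n : ℕ) (hn : 2 ≤ n)
    (χ : Fin n → (N → ℂ)) (hirr : ∀ i, IsIrrCharacter N (χ i)) (hinj : Function.Injective χ)
    (hvan : ∀ i, ∀ x : N, (x : G) ∉ Sset → χ i x = 0) (hdeg : ∀ i j, χ i 1 = χ j 1) :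
    ∃ ε : ℂ, (ε = 1 ∨ ε = -1) ∧ ∃ θ : Fin n → (G → ℂ), (∀ i, IsIrrCharacter G (θ i)) ∧
      Function.Injective θ ∧ ∀ i j, indFun N (χ i) - indFun N (χ j) = ε • (θ i - θ j) := by
  subst hN
  exact Cfsg.Agent.S0170.result Sset hSN hTI n hn χ hirr hinj hvan hdeg

end general

section setup

variable {G : Type u} [Group G] (S : FSetup G)

theorem normalizer_eq (hK : ∃ u ∈ S.K, u ≠ 1) : Subgroup.normalizer (S.K : Set G) = S.N := by
  ext g
  rw [Subgroup.mem_set_normalizer_iff]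
  constructor
  · intro h
    obtain ⟨u, hu, hu1⟩ := hK
    exact S.hTI g u hu hu1 (S.hKN ((h u).1 hu))
  · intro hg k
    constructor
    · intro hk
      exact S.hnorm g hg k hk
    · intro hk
      have := S.hnorm g⁻¹ (S.N.inv_mem hg) _ hk
      have e : g⁻¹ * (g * k * g⁻¹) * g⁻¹⁻¹ = k := by group
      rw [e] at this
      exact this

theorem centralizer_eq {u : G} (hu : u ∈ S.K) (hu1 : u ≠ 1) :
    Subgroup.centralizer ({u} : Set G) = S.K := by
  ext g
  rw [Subgroup.mem_centralizer_singleton_iff]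
  constructor
  · intro hg
    have hgN : g ∈ S.N := by
      apply S.hTI g u hu hu1
      have e : g * u * g⁻¹ = u := by rw [hg]; group
      rw [e]
      exact S.hKN hu
    obtain ⟨k, hk, x, hx, rfl⟩ := S.hprod g hgN
    have hxu : x * u = u * x := by
      have h1 : k * (x * u) = k * (u * x) := by
        calc k * (x * u) = k * x * u := by group
          _ = u * (k * x) := hg
          _ = u * k * x := by group
          _ = k * u * x := by rw [S.hKcomm u hu k hk]
          _ = k * (u * x) := by group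
      exact mul_left_cancel h1
    by_cases hx1 : x = 1
    · rw [hx1, mul_one]
      exact hk
    · exact absurd (S.hfpf x hx hx1 u hu hxu) hu1
  · intro hg
    exact S.hKcomm g hg u hu

variable [Fintype G]

theorem ind_restrict (α : ↥S.N → ℂ) (hα : IsClassFunction ↥S.N α)
    (hvan : ∀ x : ↥S.N, x ∉ S.K' → α x = 0) (h1 : α 1 = 0) (n : ↥S.N) :
    indFun S.N α (n : G) = α n := by
  classical
  rw [FrobRec.indFun_apply]
  have key : ∀ x : G, extendByZero S.N α (x⁻¹ * (n : G) * x) = if x ∈ S.N then α n else 0 := by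
    intro x
    split_ifs with hx
    · have e : x⁻¹ * (n : G) * x =
          (((⟨x, hx⟩ : ↥S.N)⁻¹ * n * ((⟨x, hx⟩ : ↥S.N)⁻¹)⁻¹ : ↥S.N) : G) := by
        simp
      rw [e, FrobRec.extendByZero_apply_coe, hα]
    · by_cases hm : x⁻¹ * (n : G) * x ∈ S.N
      · rw [FrobRec.extendByZero_apply_of_mem _ _ hm]
        by_contra hne
        have hK : (⟨x⁻¹ * (n : G) * x, hm⟩ : ↥S.N) ∈ S.K' := by
          by_contra hnk
          exact hne (hvan _ hnk)
        have hne1 : x⁻¹ * (n : G) * x ≠ 1 := by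
          intro h
          apply hne
          have : (⟨x⁻¹ * (n : G) * x, hm⟩ : ↥S.N) = 1 := Subtype.ext h
          rw [this, h1]
        apply hx
        apply S.hTI x _ (S.mem_K'.1 hK) hne1
        have e : x * (x⁻¹ * (n : G) * x) * x⁻¹ = n := by group
        rw [e]
        exact n.2
      · exact FrobRec.extendByZero_apply_of_not_mem _ _ hm
  simp_rw [key]
  rw [sum_ite_mem]
  have : (Nat.card ↥S.N : ℂ) ≠ 0 := by exact_mod_cast Nat.card_pos.ne'
  field_simp

/-- restriction to `N` -/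
def resN (ψ : G → ℂ) : ↥S.N → ℂ := fun n => ψ n

/-- restriction to `K` -/
def resK (ψ : G → ℂ) : ↥S.K' → ℂ := fun k => ψ ((k : ↥S.N) : G)

theorem resN_apply (ψ : G → ℂ) (n : ↥S.N) : resN S ψ n = ψ n := rfl

theorem resK_apply (ψ : G → ℂ) (k : ↥S.K') : resK S ψ k = ψ ((k : ↥S.N) : G) := rfl

theorem isCharacter_resN {ψ : G → ℂ} (hψ : IsCharacter G ψ) : IsCharacter ↥S.N (resN S ψ) :=
  Ops.isCharacter_restrict S.N hψ

theorem isCharacter_resK {ψ : G → ℂ} (hψ : IsCharacter G ψ) : IsCharacter ↥S.K' (resK S ψ) :=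
  Ops.isCharacter_restrict S.K' (Ops.isCharacter_restrict S.N hψ)

variable [Fintype ↥S.N] [Fintype ↥S.K']

theorem inner_res_eq_ind {ψ : G → ℂ} (hψ : IsCharacter G ψ) {z : ↥S.N → ℂ}
    (hz : IsCharacter ↥S.N z) : classInner (resN S ψ) z = classInner (indFun S.N z) ψ := by
  rw [classInner_comm_char (isCharacter_resN S hψ) hz]
  exact (FrobRec.frobenius_reciprocity S.N z ψ (char_isClassFunction hψ)).symm

theorem inner_res_nat {ψ : G → ℂ} (hψ : IsCharacter G ψ) {z : ↥S.N → ℂ}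
    (hz : IsCharacter ↥S.N z) : ∃ m : ℕ, classInner (resN S ψ) z = m :=
  Clifford.classInner_char_nat (isCharacter_resN S hψ) hz

variable [Fintype (IrrCharacter ↥S.K')] [Fintype (IrrCharacter ↥S.N)]

theorem inner_resK {ψ : G → ℂ} (hψ : IsCharacter G ψ) (τ : IrrCharacter ↥S.K')
    (hτ : τ ∈ S.Lam) :
    classInner (resK S ψ) (τ : ↥S.K' → ℂ) = classInner (resN S ψ) (S.zI τ : ↥S.N → ℂ) := by
  rw [S.zI_coe (S.mem_Lam.1 hτ)]
  exact (FrobRec.frobenius_reciprocity' S.K' (τ : ↥S.K' → ℂ) (resN S ψ)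
    (char_isClassFunction (isCharacter_resN S hψ))).symm

/-- A character of `G` without constituents induced from `K` on restriction to `N` is constant
on `K`. -/
theorem resK_const_of_zero {ψ : G → ℂ} (hψ : IsCharacter G ψ)
    (h0 : ∀ z ∈ S.Z, classInner (resN S ψ) (z : ↥S.N → ℂ) = 0) :
    ∀ k ∈ S.K, ψ k = ψ 1 := by
  classical
  obtain ⟨m, hm, hexp⟩ := NormOne.exists_mult_sum (isCharacter_resK S hψ)
  have hz : ∀ τ : IrrCharacter ↥S.K', (τ : ↥S.K' → ℂ) ≠ (fun _ => 1) → m τ = 0 := by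
    intro τ hτ
    have hτL := S.mem_Lam.2 hτ
    have h1 := hm τ
    rw [inner_resK S hψ τ hτL, h0 _ (Finset.mem_image_of_mem _ hτL)] at h1
    exact_mod_cast h1.symm
  have hk : ∀ k : ↥S.K', resK S ψ k =
      (m (⟨fun _ => 1, Ops.isIrrCharacter_one⟩ : IrrCharacter ↥S.K') : ℂ) := by
    intro k
    have := congrFun hexp k
    rw [Finset.sum_apply, Finset.sum_eq_single
      (⟨fun _ => 1, Ops.isIrrCharacter_one⟩ : IrrCharacter ↥S.K')] at this
    · simpa using this
    · intro τ _ hτ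
      have hτ1 : (τ : ↥S.K' → ℂ) ≠ fun _ => 1 := fun h => hτ (Subtype.ext h)
      rw [hz τ hτ1]
      simp
    · intro h
      exact absurd (Finset.mem_univ _) h
  intro k hkK
  have e1 := hk ⟨⟨k, S.hKN hkK⟩, S.mem_K'.2 hkK⟩
  have e2 := hk 1
  rw [resK_apply] at e1 e2
  have e3 : ((1 : ↥S.K') : ↥S.N) = 1 := rfl
  rw [e3] at e2
  exact e1.trans e2.symm

end setup

section exc

variable {G : Type u} [Group G] [Fintype G] (S : FSetup G)
  [Fintype ↥S.N] [Fintype ↥S.K'] [Fintype (IrrCharacter ↥S.K')] [Fintype (IrrCharacter ↥S.N)]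

/-- the exceptional characters of `G` attached to the characters of `N` induced from `K` -/
structure Exc where
  ζ : Fin S.Z.card → IrrCharacter ↥S.N
  hζ : Function.Injective ζ
  hζZ : ∀ z, z ∈ S.Z ↔ ∃ i, ζ i = z
  θ : Fin S.Z.card → IrrCharacter G
  hθ : Function.Injective θ
  ε : ℂ
  hε : ε = 1 ∨ ε = -1
  hrel : ∀ i j, indFun S.N (ζ i : ↥S.N → ℂ) - indFun S.N (ζ j : ↥S.N → ℂ) =
    ε • ((θ i : G → ℂ) - (θ j : G → ℂ))

theorem exists_exc (hT : 2 ≤ S.Z.card) (hK : ∃ u ∈ S.K, u ≠ 1) : Nonempty (Exc S) := by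
  classical
  let e := S.Z.equivFin
  obtain ⟨ε, hε, θ, hirr, hinj, hrel⟩ := exc_transport (S.K : Set G) S.N (normalizer_eq S hK)
    (fun x hx => S.hKN hx)
    (fun g hg s hs hc => by
      by_contra hs1
      exact hg (S.hTI g s hs hs1 (S.hKN hc)))
    S.Z.card hT (fun i => ((e.symm i).1 : ↥S.N → ℂ)) (fun i => (e.symm i).1.2)
    (fun i j h => by
      apply e.symm.injective
      apply Subtype.ext
      apply Subtype.ext
      exact h)
    (fun i x hx => S.Z_vanish (e.symm i).2 (fun h => hx (S.mem_K'.1 h)))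
    (fun i j => by rw [S.Z_one (e.symm i).2, S.Z_one (e.symm j).2])
  refine ⟨⟨fun i => (e.symm i).1, ?_, ?_, fun i => ⟨θ i, hirr i⟩, ?_, ε, hε, hrel⟩⟩
  · intro i j h
    exact e.symm.injective (Subtype.ext h)
  · intro z
    constructor
    · intro hz
      exact ⟨e ⟨z, hz⟩, by simp⟩
    · rintro ⟨i, rfl⟩
      exact (e.symm i).2
  · intro i j h
    exact hinj (congrArg Subtype.val h)

variable {S} (X : Exc S)

theorem Exc.eps_sq : X.ε * X.ε = 1 := by
  rcases X.hε with h | h <;> rw [h] <;> norm_num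

theorem Exc.zeta_mem (i : Fin S.Z.card) : X.ζ i ∈ S.Z := (X.hζZ _).2 ⟨i, rfl⟩

theorem Exc.sum_Z {β : Type*} [AddCommMonoid β] (F : IrrCharacter ↥S.N → β) :
    ∑ z ∈ S.Z, F z = ∑ j, F (X.ζ j) := by
  classical
  have h : S.Z = Finset.univ.image X.ζ := by
    ext z
    rw [X.hζZ, Finset.mem_image]
    simp
  calc ∑ z ∈ S.Z, F z = ∑ z ∈ Finset.univ.image X.ζ, F z :=
        Finset.sum_congr h (fun _ _ => rfl)
    _ = ∑ j, F (X.ζ j) := Finset.sum_image (fun a _ b _ hab => X.hζ hab)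

theorem Exc.res_sub (i j : Fin S.Z.card) (n : ↥S.N) :
    (X.θ i : G → ℂ) n - (X.θ j : G → ℂ) n =
      X.ε * ((X.ζ i : ↥S.N → ℂ) n - (X.ζ j : ↥S.N → ℂ) n) := by
  have h1 := congrFun (X.hrel i j) (n : G)
  rw [← FrobRec.indFun_sub] at h1
  have h2 := ind_restrict S ((X.ζ i : ↥S.N → ℂ) - (X.ζ j : ↥S.N → ℂ))
    (Orth.isClassFunction_sub (Orth.irr_isClassFunction _) (Orth.irr_isClassFunction _))
    (fun x hx => by
      rw [Pi.sub_apply, S.Z_vanish (X.zeta_mem i) hx, S.Z_vanish (X.zeta_mem j) hx, sub_zero])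
    (by rw [Pi.sub_apply, S.Z_one (X.zeta_mem i), S.Z_one (X.zeta_mem j), sub_self]) n
  rw [h2] at h1
  simp only [Pi.sub_apply, Pi.smul_apply, smul_eq_mul] at h1
  rw [h1, ← mul_assoc, X.eps_sq, one_mul]

open Classical in
theorem Exc.inner_res_sub (i j : Fin S.Z.card) (z : IrrCharacter ↥S.N) :
    classInner (resN S (X.θ i : G → ℂ)) (z : ↥S.N → ℂ) -
        classInner (resN S (X.θ j : G → ℂ)) (z : ↥S.N → ℂ) =
      X.ε * ((if X.ζ i = z then 1 else 0) - (if X.ζ j = z then 1 else 0)) := by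
  have h1 : resN S (X.θ i : G → ℂ) - resN S (X.θ j : G → ℂ) =
      X.ε • ((X.ζ i : ↥S.N → ℂ) - (X.ζ j : ↥S.N → ℂ)) := by
    funext n
    simp only [Pi.sub_apply, Pi.smul_apply, smul_eq_mul, resN_apply]
    exact X.res_sub i j n
  have o1 := irr_orthonormal (X.ζ i) z
  have o2 := irr_orthonormal (X.ζ j) z
  rw [← Orth.classInner_sub_left, h1, Orth.classInner_smul_left, Orth.classInner_sub_left, o1, o2]

open Classical in
theorem Exc.inner_ind_sub (i j : Fin S.Z.card) (ψ : IrrCharacter G) :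
    classInner (resN S (ψ : G → ℂ)) (X.ζ i : ↥S.N → ℂ) -
        classInner (resN S (ψ : G → ℂ)) (X.ζ j : ↥S.N → ℂ) =
      X.ε * ((if X.θ i = ψ then 1 else 0) - (if X.θ j = ψ then 1 else 0)) := by
  have hψ := isCharacter_of_irr ψ.2
  rw [inner_res_eq_ind S hψ (isCharacter_of_irr (X.ζ i).2),
    inner_res_eq_ind S hψ (isCharacter_of_irr (X.ζ j).2)]
  have o1 := irr_orthonormal (X.θ i) ψ
  have o2 := irr_orthonormal (X.θ j) ψ
  rw [← Orth.classInner_sub_left, X.hrel i j, Orth.classInner_smul_left,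
    Orth.classInner_sub_left, o1, o2]

open Classical in
theorem Exc.exists_c (hT : 2 ≤ S.Z.card) : ∃ c : ℕ, ∀ k j : Fin S.Z.card,
    classInner (resN S (X.θ k : G → ℂ)) (X.ζ j : ↥S.N → ℂ) =
      (c : ℂ) + (if k = j then X.ε else 0) := by
  obtain ⟨i₀, hi₀⟩ : ∃ i₀ : Fin S.Z.card, i₀ = ⟨0, by omega⟩ := ⟨_, rfl⟩
  obtain ⟨i₁, hi₁⟩ : ∃ i₁ : Fin S.Z.card, i₁ = ⟨1, by omega⟩ := ⟨_, rfl⟩
  have hne : i₀ ≠ i₁ := by
    rw [hi₀, hi₁]
    intro h
    have := congrArg Fin.val h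
    simp at this
  obtain ⟨c, hc⟩ := inner_res_nat S (isCharacter_of_irr (X.θ i₀).2)
    (isCharacter_of_irr (X.ζ i₁).2)
  refine ⟨c, ?_⟩
  intro k j
  have e1 := X.inner_res_sub k i₀ (X.ζ j)
  have e2 := X.inner_ind_sub j i₁ (X.θ i₀)
  simp only [X.hζ.eq_iff] at e1
  simp only [X.hθ.eq_iff] at e2
  rw [if_neg hne.symm] at e2
  by_cases hkj : k = j
  · rw [if_pos hkj]
    rw [if_pos hkj] at e1
    by_cases hj : j = i₀
    · rw [if_pos hj.symm] at e1
      rw [if_pos hj] at e2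
      linear_combination e1 + e2 + hc
    · rw [if_neg (fun h => hj h.symm)] at e1
      rw [if_neg hj] at e2
      linear_combination e1 + e2 + hc
  · rw [if_neg hkj]
    rw [if_neg hkj] at e1
    by_cases hj : j = i₀
    · rw [if_pos hj.symm] at e1
      rw [if_pos hj] at e2
      linear_combination e1 + e2 + hc
    · rw [if_neg (fun h => hj h.symm)] at e1
      rw [if_neg hj] at e2
      linear_combination e1 + e2 + hc

theorem Exc.inner_const (ψ : IrrCharacter G) (hψ : ∀ k, X.θ k ≠ ψ) (i j : Fin S.Z.card) :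
    classInner (resN S (ψ : G → ℂ)) (X.ζ i : ↥S.N → ℂ) =
      classInner (resN S (ψ : G → ℂ)) (X.ζ j : ↥S.N → ℂ) := by
  classical
  have e := X.inner_ind_sub i j ψ
  rw [if_neg (hψ i), if_neg (hψ j), sub_zero, mul_zero] at e
  exact sub_eq_zero.1 e

/-- lower bound for the norm of the restriction to `K` -/
theorem Exc.norm_resK_ge {ψ : G → ℂ} (hψ : IsCharacter G ψ) (a : Fin S.Z.card → ℕ)
    (ha : ∀ j, classInner (resN S ψ) (X.ζ j : ↥S.N → ℂ) = a j) (he : 1 < Nat.card ↥S.E) :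
    ∃ n : ℕ, classInner (resK S ψ) (resK S ψ) = n ∧
      Nat.card ↥S.E * ∑ j, a j * a j ≤ n := by
  classical
  obtain ⟨m, hm, hexp⟩ := NormOne.exists_mult_sum (isCharacter_resK S hψ)
  refine ⟨∑ τ, m τ * m τ, NormOne.classInner_self_eq_sum m hm hexp, ?_⟩
  have hmτ : ∀ τ ∈ S.Lam, ∀ j, S.zI τ = X.ζ j → m τ = a j := by
    intro τ hτ j hj
    have h1 := hm τ
    rw [inner_resK S hψ τ hτ, hj, ha j] at h1
    exact_mod_cast h1.symm
  calc Nat.card ↥S.E * ∑ j, a j * a j = ∑ j, Nat.card ↥S.E * (a j * a j) := Finset.mul_sum _ _ _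
    _ = ∑ j, ∑ τ ∈ S.Lam.filter (fun τ => S.zI τ = X.ζ j), m τ * m τ := by
        apply Finset.sum_congr rfl
        intro j _
        have h2 : ∀ τ ∈ S.Lam.filter (fun τ => S.zI τ = X.ζ j), m τ * m τ = a j * a j := by
          intro τ hτ
          rw [Finset.mem_filter] at hτ
          rw [hmτ τ hτ.1 j hτ.2]
        rw [Finset.sum_congr rfl h2, Finset.sum_const, S.card_fiber he (X.zeta_mem j),
          smul_eq_mul]
    _ = ∑ z ∈ S.Z, ∑ τ ∈ S.Lam.filter (fun τ => S.zI τ = z), m τ * m τ :=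
        (X.sum_Z (fun z => ∑ τ ∈ S.Lam.filter (fun τ => S.zI τ = z), m τ * m τ)).symm
    _ = ∑ τ ∈ S.Lam, m τ * m τ :=
        Finset.sum_fiberwise_of_maps_to (fun τ hτ => Finset.mem_image_of_mem _ hτ) _
    _ ≤ ∑ τ, m τ * m τ := Finset.sum_le_sum_of_subset (Finset.subset_univ _)

end exc

section count

variable {G : Type u} [Group G] [Fintype G] (S : FSetup G)
  [Fintype ↥S.N] [Fintype ↥S.K'] [Fintype (IrrCharacter ↥S.K')] [Fintype (IrrCharacter ↥S.N)]
  [Fintype (IrrCharacter G)]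

/-- the sum of the norms of the restrictions to `K` of the irreducible characters -/
theorem sum_norm_resK :
    ∑ ψ : IrrCharacter G, classInner (resK S (ψ : G → ℂ)) (resK S (ψ : G → ℂ)) =
      (Nat.card ↥S.K : ℂ)⁻¹ *
        ((Nat.card G : ℂ) + ((Nat.card ↥S.K : ℂ) - 1) * (Nat.card ↥S.K : ℂ)) := by
  classical
  unfold classInner
  rw [← Finset.mul_sum, Finset.sum_comm, S.card_K']
  congr 1
  have h1 : ∀ k : ↥S.K', ∑ ψ : IrrCharacter G,
      resK S (ψ : G → ℂ) k * conj (resK S (ψ : G → ℂ) k) =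
      (Nat.card ↥S.K : ℂ) + (if k = 1 then (Nat.card G : ℂ) - (Nat.card ↥S.K : ℂ) else 0) := by
    intro k
    have h2 := Orth.second_orthogonality_sum_of_isConj (((k : ↥S.N) : G)) (((k : ↥S.N) : G))
      (IsConj.refl _)
    have h3 : ∑ ψ : IrrCharacter G, resK S (ψ : G → ℂ) k * conj (resK S (ψ : G → ℂ) k) =
        ∑ ψ : IrrCharacter G, (ψ : G → ℂ) ((k : ↥S.N) : G) *
          conj ((ψ : G → ℂ) ((k : ↥S.N) : G)) := rfl
    rw [h3, h2]
    by_cases hk : k = 1
    · rw [if_pos hk, hk]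
      have e1 : (((1 : ↥S.K') : ↥S.N) : G) = 1 := rfl
      have e2 : Subgroup.centralizer ({(1 : G)} : Set G) = ⊤ := by
        ext g
        simp [Subgroup.mem_centralizer_singleton_iff]
      rw [e1, e2, Subgroup.card_top]
      ring
    · rw [if_neg hk, add_zero]
      have hk1 : ((k : ↥S.N) : G) ≠ 1 := by
        intro h
        apply hk
        apply Subtype.ext
        apply Subtype.ext
        exact h
      rw [centralizer_eq S (S.mem_K'.1 k.2) hk1]
  rw [Finset.sum_congr rfl (fun k _ => h1 k), Finset.sum_add_distrib, Finset.sum_const,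
    Finset.sum_ite_eq' Finset.univ (1 : ↥S.K'), if_pos (Finset.mem_univ _), Finset.card_univ,
    nsmul_eq_mul, ← Nat.card_eq_fintype_card, S.card_K']
  ring

/-- there are at least `T + e + 1` irreducible characters -/
theorem card_irr_ge (he : 1 < Nat.card ↥S.E)
    (hclass : Nat.card ↥S.E ≤
      Nat.card {C : ConjClasses G // ∀ g : G, ConjClasses.mk g = C → g ∉ S.K}) :
    S.Z.card + Nat.card ↥S.E + 1 ≤ Nat.card (IrrCharacter G) := by
  classical
  rw [Orth.card_irrCharacter]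
  have hfE : Fintype ↥S.E := Fintype.ofFinite _
  obtain ⟨Acls, hAcls⟩ : ∃ A : Finset (ConjClasses G),
      A = Finset.univ.filter (fun C => ∀ g : G, ConjClasses.mk g = C → g ∉ S.K) := ⟨_, rfl⟩
  obtain ⟨Ks, hKs⟩ : ∃ A : Finset G, A = Finset.univ.filter (fun u => u ∈ S.K ∧ u ≠ 1) :=
    ⟨_, rfl⟩
  obtain ⟨Bcls, hBcls⟩ : ∃ B : Finset (ConjClasses G), B = Ks.image ConjClasses.mk := ⟨_, rfl⟩
  have hA : Nat.card {C : ConjClasses G // ∀ g : G, ConjClasses.mk g = C → g ∉ S.K} =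
      Acls.card := by
    rw [Nat.card_eq_fintype_card, Fintype.card_subtype, hAcls]
  have hKs_card : Ks.card + 1 = Nat.card ↥S.K := by
    have h1 : Ks = (Finset.univ.filter (fun u => u ∈ S.K)).erase 1 := by
      rw [hKs]
      ext u
      simp only [Finset.mem_filter, Finset.mem_univ, true_and, Finset.mem_erase]
      tauto
    have h2 : (1 : G) ∈ Finset.univ.filter (fun u => u ∈ S.K) := by
      simp only [Finset.mem_filter, Finset.mem_univ, true_and]
      exact S.K.one_mem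
    rw [h1, Finset.card_erase_of_mem h2, Nat.card_eq_fintype_card, Fintype.card_subtype]
    have : 0 < (Finset.univ.filter (fun u => u ∈ S.K)).card := Finset.card_pos.2 ⟨1, h2⟩
    omega
  have hfib : ∀ C ∈ Ks.image ConjClasses.mk,
      (Ks.filter (fun u => ConjClasses.mk u = C)).card ≤ Nat.card ↥S.E := by
    intro C hC
    obtain ⟨u₀, hu₀, rfl⟩ := Finset.mem_image.1 hC
    rw [hKs, Finset.mem_filter] at hu₀
    obtain ⟨-, hu₀K, hu₀1⟩ := hu₀
    have hsub : Ks.filter (fun u => ConjClasses.mk u = ConjClasses.mk u₀) ⊆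
        Finset.univ.image (fun x : ↥S.E => (x : G) * u₀ * (x : G)⁻¹) := by
      intro u hu
      rw [Finset.mem_filter, hKs, Finset.mem_filter] at hu
      obtain ⟨⟨-, huK, hu1⟩, hc⟩ := hu
      rw [ConjClasses.mk_eq_mk_iff_isConj] at hc
      obtain ⟨c, hc⟩ := isConj_iff.1 hc.symm
      have hcN : c ∈ S.N := by
        apply S.hTI c u₀ hu₀K hu₀1
        rw [hc]
        exact S.hKN huK
      obtain ⟨k, hk, x, hx, rfl⟩ := S.hprod c hcN
      have hy : x * u₀ * x⁻¹ ∈ S.K := S.hnorm x (S.hEN hx) u₀ hu₀K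
      rw [Finset.mem_image]
      refine ⟨⟨x, hx⟩, Finset.mem_univ _, ?_⟩
      show x * u₀ * x⁻¹ = u
      rw [← hc]
      calc x * u₀ * x⁻¹ = (x * u₀ * x⁻¹) * k * k⁻¹ := by group
        _ = k * (x * u₀ * x⁻¹) * k⁻¹ := by rw [S.hKcomm _ hy k hk]
        _ = k * x * u₀ * (k * x)⁻¹ := by group
    calc (Ks.filter (fun u => ConjClasses.mk u = ConjClasses.mk u₀)).card
        ≤ (Finset.univ.image (fun x : ↥S.E => (x : G) * u₀ * (x : G)⁻¹)).card :=
          Finset.card_le_card hsub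
      _ ≤ (Finset.univ : Finset ↥S.E).card := Finset.card_image_le
      _ = Nat.card ↥S.E := by rw [Finset.card_univ, Nat.card_eq_fintype_card]
  have hB : S.Z.card ≤ Bcls.card := by
    have h1 := Finset.card_le_mul_card_image Ks (Nat.card ↥S.E) hfib
    rw [← hBcls] at h1
    have h2 := S.card_Z_mul he
    have h3 : S.Z.card * Nat.card ↥S.E ≤ Bcls.card * Nat.card ↥S.E := by
      have : S.Z.card * Nat.card ↥S.E = Ks.card := by omega
      rw [this, mul_comm]
      exact h1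
    exact Nat.le_of_mul_le_mul_right h3 (by omega)
  have hdisj : Disjoint Acls Bcls := by
    rw [Finset.disjoint_left]
    intro C hCA hCB
    rw [hAcls, Finset.mem_filter] at hCA
    rw [hBcls, Finset.mem_image] at hCB
    obtain ⟨u, hu, rfl⟩ := hCB
    rw [hKs, Finset.mem_filter] at hu
    exact hCA.2 u rfl hu.2.1
  have h1 : ConjClasses.mk (1 : G) ∉ Acls ∪ Bcls := by
    rw [Finset.mem_union]
    rintro (h | h)
    · rw [hAcls, Finset.mem_filter] at h
      exact h.2 1 rfl S.K.one_mem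
    · rw [hBcls, Finset.mem_image] at h
      obtain ⟨u, hu, hc⟩ := h
      rw [hKs, Finset.mem_filter] at hu
      rw [ConjClasses.mk_eq_mk_iff_isConj, isConj_one_left] at hc
      exact hu.2.2 hc
  have hsub : (insert (ConjClasses.mk (1 : G)) (Acls ∪ Bcls)).card ≤
      Fintype.card (ConjClasses G) := Finset.card_le_univ _
  rw [Finset.card_insert_of_notMem h1, Finset.card_union_of_disjoint hdisj] at hsub
  have hcc : Nat.card (ConjClasses G) = Fintype.card (ConjClasses G) := Nat.card_eq_fintype_card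
  rw [hA] at hclass
  omega

/-- an irreducible character of a simple group that is constant on `K` is trivial -/
theorem eq_one_of_const_K [IsSimpleGroup G] (hK : ∃ u ∈ S.K, u ≠ 1) (ψ : IrrCharacter G)
    (h : ∀ k ∈ S.K, (ψ : G → ℂ) k = (ψ : G → ℂ) 1) : (ψ : G → ℂ) = fun _ => 1 := by
  classical
  obtain ⟨Nn, hNn, hmem⟩ := Kernel.exists_normal_ker (isCharacter_of_irr ψ.2)
  obtain ⟨u, hu, hu1⟩ := hK
  have huN : u ∈ Nn := (hmem u).2 (h u hu)
  have htop : Nn = ⊤ := by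
    rcases hNn.eq_bot_or_eq_top with hb | ht
    · rw [hb, Subgroup.mem_bot] at huN
      exact absurd huN hu1
    · exact ht
  have hall : ∀ g : G, (ψ : G → ℂ) g = (ψ : G → ℂ) 1 := by
    intro g
    apply (hmem g).1
    rw [htop]
    exact Subgroup.mem_top g
  have h1 := irr_orthonormal ψ (⟨fun _ => 1, Ops.isIrrCharacter_one⟩ : IrrCharacter G)
  have h2 : classInner (ψ : G → ℂ) (fun _ => (1 : ℂ)) = (ψ : G → ℂ) 1 := by
    unfold classInner
    simp only [map_one, mul_one]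
    rw [Finset.sum_congr rfl (fun g _ => hall g), Finset.sum_const, Finset.card_univ,
      nsmul_eq_mul, Nat.card_eq_fintype_card]
    have : (Fintype.card G : ℂ) ≠ 0 := by exact_mod_cast Fintype.card_ne_zero
    field_simp
  rw [h2] at h1
  by_cases hc : ψ = (⟨fun _ => 1, Ops.isIrrCharacter_one⟩ : IrrCharacter G)
  · exact congrArg Subtype.val hc
  · rw [if_neg hc] at h1
    exact absurd h1 (irr_apply_one_ne_zero ψ.2)

variable {S} (X : Exc S)

/-- a nontrivial non-exceptional character has a common positive multiplicity on the `ζ`'s -/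
theorem Exc.rest_pos [IsSimpleGroup G] (hK : ∃ u ∈ S.K, u ≠ 1) (hT : 0 < S.Z.card)
    (ψ : IrrCharacter G) (hψ1 : (ψ : G → ℂ) ≠ fun _ => 1) (hψ : ∀ k, X.θ k ≠ ψ) :
    ∃ c : ℕ, 0 < c ∧ ∀ j, classInner (resN S (ψ : G → ℂ)) (X.ζ j : ↥S.N → ℂ) = c := by
  have hψc := isCharacter_of_irr ψ.2
  obtain ⟨c, hc⟩ := inner_res_nat S hψc (isCharacter_of_irr (X.ζ ⟨0, hT⟩).2)
  have hall : ∀ j, classInner (resN S (ψ : G → ℂ)) (X.ζ j : ↥S.N → ℂ) = c := by
    intro j
    rw [X.inner_const ψ hψ j ⟨0, hT⟩, hc]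
  refine ⟨c, ?_, hall⟩
  by_contra hc0
  have hc0' : c = 0 := by omega
  apply hψ1
  apply eq_one_of_const_K S hK ψ
  apply resK_const_of_zero S hψc
  intro z hz
  obtain ⟨j, rfl⟩ := (X.hζZ z).1 hz
  rw [hall j, hc0', Nat.cast_zero]

theorem exists_two_ne {T : ℕ} (hT : 3 ≤ T) (k : Fin T) :
    ∃ j₁ j₂ : Fin T, j₁ ≠ k ∧ j₂ ≠ k ∧ j₁ ≠ j₂ := by
  by_cases h0 : (k : ℕ) = 0
  · refine ⟨⟨1, by omega⟩, ⟨2, by omega⟩, ?_, ?_, ?_⟩ <;>
      (intro h; have h' := congrArg Fin.val h; dsimp only at h'; omega)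
  · by_cases h1 : (k : ℕ) = 1
    · refine ⟨⟨0, by omega⟩, ⟨2, by omega⟩, ?_, ?_, ?_⟩ <;>
        (intro h; have h' := congrArg Fin.val h; dsimp only at h'; omega)
    · refine ⟨⟨0, by omega⟩, ⟨1, by omega⟩, ?_, ?_, ?_⟩ <;>
        (intro h; have h' := congrArg Fin.val h; dsimp only at h'; omega)

theorem arith_c (h e T NG Sg : ℕ) (hG : NG = (h + 1) * h * e)
    (htot : h * Sg = NG + (h - 1) * h) (hTe : T * e + 1 = h)
    (hlow : T * (2 * e) + e * (h - 1) ≤ Sg) (hlt : 2 * e < h - 1) : False := by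
  obtain ⟨q, rfl⟩ : ∃ q, h = q + 1 := ⟨h - 1, by omega⟩
  simp only [Nat.add_sub_cancel] at htot hlow hlt
  subst hG
  have hSg : Sg = (q + 2) * e + q := by
    have : (q + 1) * Sg = (q + 1) * ((q + 2) * e + q) := by rw [htot]; ring
    exact Nat.eq_of_mul_eq_mul_left (by omega) this
  subst hSg
  have hTe' : T * e = q := by omega
  nlinarith

/-- the common multiplicity vanishes -/
theorem Exc.c_eq_zero [IsSimpleGroup G]
    (hG : Nat.card G = (Nat.card ↥S.K + 1) * Nat.card ↥S.K * Nat.card ↥S.E)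
    (hclass : Nat.card ↥S.E ≤
      Nat.card {C : ConjClasses G // ∀ g : G, ConjClasses.mk g = C → g ∉ S.K})
    (he : 1 < Nat.card ↥S.E) (hlt : 2 * Nat.card ↥S.E < Nat.card ↥S.K - 1) (c : ℕ)
    (hc : ∀ k j : Fin S.Z.card, classInner (resN S (X.θ k : G → ℂ)) (X.ζ j : ↥S.N → ℂ) =
      (c : ℂ) + (if k = j then X.ε else 0)) : c = 0 := by
  classical
  by_contra hc0
  have hcpos : 1 ≤ c := by omega
  have hTe := S.card_Z_mul he
  have hT3 : 3 ≤ S.Z.card := by
    by_contra hcon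
    have h1 : S.Z.card ≤ 2 := by omega
    have h2 : S.Z.card * Nat.card ↥S.E ≤ 2 * Nat.card ↥S.E := Nat.mul_le_mul_right _ h1
    omega
  have hK : ∃ u ∈ S.K, u ≠ 1 := by
    have h2 : 1 < Nat.card ↥S.K := by omega
    have : Finite ↥S.K := Nat.finite_of_card_ne_zero (by omega)
    have := Finite.one_lt_card_iff_nontrivial.1 h2
    obtain ⟨x, hx⟩ := exists_ne (1 : ↥S.K)
    exact ⟨x, x.2, fun h => hx (Subtype.ext h)⟩
  have hnn : ∀ ψ : IrrCharacter G, ∃ n : ℕ,
      classInner (resK S (ψ : G → ℂ)) (resK S (ψ : G → ℂ)) = n := by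
    intro ψ
    obtain ⟨m, hm, hexp⟩ :=
      NormOne.exists_mult_sum (isCharacter_resK S (isCharacter_of_irr ψ.2))
    exact ⟨_, NormOne.classInner_self_eq_sum m hm hexp⟩
  choose nn hnn using hnn
  have htot : Nat.card ↥S.K * ∑ ψ : IrrCharacter G, nn ψ =
      Nat.card G + (Nat.card ↥S.K - 1) * Nat.card ↥S.K := by
    have h1 := sum_norm_resK S
    rw [Finset.sum_congr rfl (fun ψ _ => hnn ψ)] at h1
    have hne : (Nat.card ↥S.K : ℂ) ≠ 0 := by
      exact_mod_cast (by omega : Nat.card ↥S.K ≠ 0)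
    have h2 : (Nat.card ↥S.K : ℂ) * ∑ ψ : IrrCharacter G, (nn ψ : ℂ) =
        (Nat.card G : ℂ) + ((Nat.card ↥S.K : ℂ) - 1) * (Nat.card ↥S.K : ℂ) := by
      rw [h1]
      field_simp
    have h3 : ((Nat.card ↥S.K - 1 : ℕ) : ℂ) = (Nat.card ↥S.K : ℂ) - 1 := by
      rw [Nat.cast_sub (by omega)]
      simp
    rw [← h3] at h2
    exact_mod_cast h2
  have hθ : ∀ k, 2 * Nat.card ↥S.E ≤ nn (X.θ k) := by
    intro k
    have hch := isCharacter_of_irr (X.θ k).2
    have ha : ∀ j, ∃ a : ℕ, classInner (resN S (X.θ k : G → ℂ)) (X.ζ j : ↥S.N → ℂ) = a :=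
      fun j => inner_res_nat S hch (isCharacter_of_irr (X.ζ j).2)
    choose a ha using ha
    obtain ⟨n, hn, hle⟩ := X.norm_resK_ge hch a ha he
    have hnk : n = nn (X.θ k) := by
      have := hn.symm.trans (hnn (X.θ k))
      exact_mod_cast this
    have haj : ∀ j, j ≠ k → a j = c := by
      intro j hj
      have h1 := ha j
      rw [hc k j, if_neg (fun h => hj h.symm), add_zero] at h1
      exact_mod_cast h1.symm
    obtain ⟨j₁, j₂, hj₁, hj₂, hj₁₂⟩ := exists_two_ne hT3 k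
    have hsum : 2 ≤ ∑ j, a j * a j := by
      have h1 : a j₁ * a j₁ + a j₂ * a j₂ ≤ ∑ j, a j * a j :=
        Finset.add_le_sum (f := fun j => a j * a j) (fun _ _ => Nat.zero_le _)
          (Finset.mem_univ _) (Finset.mem_univ _) hj₁₂
      rw [haj j₁ hj₁, haj j₂ hj₂] at h1
      nlinarith
    rw [← hnk]
    calc 2 * Nat.card ↥S.E = Nat.card ↥S.E * 2 := by ring
      _ ≤ Nat.card ↥S.E * ∑ j, a j * a j := Nat.mul_le_mul_left _ hsum
      _ ≤ n := hle
  obtain ⟨Rest, hRest⟩ : ∃ R : Finset (IrrCharacter G), R = Finset.univ.filter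
      (fun ψ => (∀ k, X.θ k ≠ ψ) ∧ (ψ : G → ℂ) ≠ fun _ => 1) := ⟨_, rfl⟩
  have hrest : ∀ ψ ∈ Rest, Nat.card ↥S.K - 1 ≤ nn ψ := by
    intro ψ hψ
    rw [hRest, Finset.mem_filter] at hψ
    obtain ⟨cψ, hcψ, hall⟩ := X.rest_pos hK (by omega) ψ hψ.2.2 hψ.2.1
    obtain ⟨n, hn, hle⟩ := X.norm_resK_ge (isCharacter_of_irr ψ.2) (fun _ => cψ) hall he
    have hnk : n = nn ψ := by
      have := hn.symm.trans (hnn ψ)
      exact_mod_cast this
    rw [← hnk]
    have h1 : ∑ _j : Fin S.Z.card, cψ * cψ = S.Z.card * (cψ * cψ) := by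
      rw [Finset.sum_const, Finset.card_univ, Fintype.card_fin, smul_eq_mul]
    rw [h1] at hle
    have h2 : S.Z.card * 1 ≤ S.Z.card * (cψ * cψ) := Nat.mul_le_mul_left _ (by nlinarith)
    calc Nat.card ↥S.K - 1 = Nat.card ↥S.E * (S.Z.card * 1) := by
          rw [mul_one, mul_comm]
          omega
      _ ≤ Nat.card ↥S.E * (S.Z.card * (cψ * cψ)) := Nat.mul_le_mul_left _ h2
      _ ≤ n := hle
  have hRcard : Nat.card ↥S.E ≤ Rest.card := by
    have h1 := card_irr_ge S he hclass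
    have hci : Nat.card (IrrCharacter G) = (Finset.univ : Finset (IrrCharacter G)).card := by
      rw [Finset.card_univ, Nat.card_eq_fintype_card]
    rw [hci] at h1
    have hsub : (Finset.univ : Finset (IrrCharacter G)) ⊆ Rest ∪ (Finset.univ.image X.θ ∪
        {(⟨fun _ => 1, Ops.isIrrCharacter_one⟩ : IrrCharacter G)}) := by
      intro ψ _
      by_cases h1 : (ψ : G → ℂ) = fun _ => 1
      · apply Finset.mem_union_right
        apply Finset.mem_union_right
        rw [Finset.mem_singleton]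
        exact Subtype.ext h1
      · by_cases h2 : ∀ k, X.θ k ≠ ψ
        · apply Finset.mem_union_left
          rw [hRest, Finset.mem_filter]
          exact ⟨Finset.mem_univ _, h2, h1⟩
        · push Not at h2
          obtain ⟨k, hk⟩ := h2
          apply Finset.mem_union_right
          apply Finset.mem_union_left
          exact Finset.mem_image.2 ⟨k, Finset.mem_univ _, hk⟩
    have h2 := Finset.card_le_card hsub
    have h3 := Finset.card_union_le Rest (Finset.univ.image X.θ ∪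
      {(⟨fun _ => 1, Ops.isIrrCharacter_one⟩ : IrrCharacter G)})
    have h4 := Finset.card_union_le (Finset.univ.image X.θ)
      ({(⟨fun _ => 1, Ops.isIrrCharacter_one⟩ : IrrCharacter G)} : Finset (IrrCharacter G))
    have h5 : (Finset.univ.image X.θ).card ≤ S.Z.card := by
      have := Finset.card_image_le (s := (Finset.univ : Finset (Fin S.Z.card))) (f := X.θ)
      rw [Finset.card_univ, Fintype.card_fin] at this
      exact this
    rw [Finset.card_singleton] at h4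
    omega
  have hdisj : Disjoint (Finset.univ.image X.θ) Rest := by
    rw [Finset.disjoint_left]
    intro ψ h1 h2
    obtain ⟨k, -, hk⟩ := Finset.mem_image.1 h1
    rw [hRest, Finset.mem_filter] at h2
    exact h2.2.1 k hk
  have hlow : S.Z.card * (2 * Nat.card ↥S.E) + Nat.card ↥S.E * (Nat.card ↥S.K - 1) ≤
      ∑ ψ : IrrCharacter G, nn ψ := by
    calc S.Z.card * (2 * Nat.card ↥S.E) + Nat.card ↥S.E * (Nat.card ↥S.K - 1)
        ≤ ∑ ψ ∈ Finset.univ.image X.θ, nn ψ + ∑ ψ ∈ Rest, nn ψ := by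
          apply Nat.add_le_add
          · rw [Finset.sum_image (fun a _ b _ hab => X.hθ hab)]
            calc S.Z.card * (2 * Nat.card ↥S.E)
                = ∑ _k : Fin S.Z.card, 2 * Nat.card ↥S.E := by
                  rw [Finset.sum_const, Finset.card_univ, Fintype.card_fin, smul_eq_mul]
              _ ≤ ∑ k, nn (X.θ k) := Finset.sum_le_sum (fun k _ => hθ k)
          · calc Nat.card ↥S.E * (Nat.card ↥S.K - 1)
                ≤ Rest.card * (Nat.card ↥S.K - 1) := Nat.mul_le_mul_right _ hRcard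
              _ = ∑ _ψ ∈ Rest, (Nat.card ↥S.K - 1) := by rw [Finset.sum_const, smul_eq_mul]
              _ ≤ ∑ ψ ∈ Rest, nn ψ := Finset.sum_le_sum hrest
      _ = ∑ ψ ∈ Finset.univ.image X.θ ∪ Rest, nn ψ := (Finset.sum_union hdisj).symm
      _ ≤ ∑ ψ : IrrCharacter G, nn ψ := Finset.sum_le_sum_of_subset (Finset.subset_univ _)
  exact arith_c _ _ _ _ _ hG htot hTe hlow hlt

theorem Exc.eps_eq_one (hT : 0 < S.Z.card)
    (hc : ∀ k j : Fin S.Z.card, classInner (resN S (X.θ k : G → ℂ)) (X.ζ j : ↥S.N → ℂ) =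
      ((0 : ℕ) : ℂ) + (if k = j then X.ε else 0)) : X.ε = 1 := by
  rcases X.hε with h | h
  · exact h
  · exfalso
    obtain ⟨m, hm⟩ := inner_res_nat S (isCharacter_of_irr (X.θ ⟨0, hT⟩).2)
      (isCharacter_of_irr (X.ζ ⟨0, hT⟩).2)
    rw [hc, if_pos rfl, h] at hm
    have h1 : ((m + 1 : ℕ) : ℂ) = 0 := by
      push_cast
      rw [← hm]
      simp
    have h2 : m + 1 = 0 := by exact_mod_cast h1
    omega

/-- the exceptional characters restrict irreducibly to `N` -/
theorem Exc.res_eq (hT3 : 3 ≤ S.Z.card)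
    (hc : ∀ k j : Fin S.Z.card, classInner (resN S (X.θ k : G → ℂ)) (X.ζ j : ↥S.N → ℂ) =
      if k = j then 1 else 0)
    (hM2 : ∀ z ∈ S.M, ∃ n : ℕ, n ≤ 2 ∧
      classInner (indFun S.N (z : ↥S.N → ℂ)) (indFun S.N (z : ↥S.N → ℂ)) = n)
    (k : Fin S.Z.card) : resN S (X.θ k : G → ℂ) = (X.ζ k : ↥S.N → ℂ) := by
  classical
  have hMz : ∀ z ∈ S.M, classInner (resN S (X.θ k : G → ℂ)) (z : ↥S.N → ℂ) = 0 := by
    intro z hz
    have hzc := isCharacter_of_irr z.2
    obtain ⟨a, ha⟩ := inner_res_nat S (isCharacter_of_irr (X.θ k).2) hzc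
    have hz' := S.mem_M.1 hz
    have hall : ∀ l, classInner (resN S (X.θ l : G → ℂ)) (z : ↥S.N → ℂ) = a := by
      intro l
      have e := X.inner_res_sub l k z
      rw [if_neg (fun h => hz' (by rw [← h]; exact X.zeta_mem l)),
        if_neg (fun h => hz' (by rw [← h]; exact X.zeta_mem k)), sub_zero, mul_zero] at e
      rw [← ha]
      exact sub_eq_zero.1 e
    have hY : IsCharacter G (indFun S.N (z : ↥S.N → ℂ)) := IndChar.isCharacter_indFun S.N _ hzc
    obtain ⟨m, hm, hexp⟩ := NormOne.exists_mult_sum hY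
    have hnorm := NormOne.classInner_self_eq_sum m hm hexp
    obtain ⟨n, hn2, hn⟩ := hM2 z hz
    rw [hn] at hnorm
    have hnorm' : n = ∑ ψ : IrrCharacter G, m ψ * m ψ := by exact_mod_cast hnorm
    have hmθ : ∀ l, m (X.θ l) = a := by
      intro l
      have h1 := hm (X.θ l)
      rw [← inner_res_eq_ind S (isCharacter_of_irr (X.θ l).2) hzc, hall l] at h1
      exact_mod_cast h1.symm
    have hsum : S.Z.card * (a * a) ≤ ∑ ψ : IrrCharacter G, m ψ * m ψ := by
      calc S.Z.card * (a * a) = ∑ _l : Fin S.Z.card, a * a := by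
            rw [Finset.sum_const, Finset.card_univ, Fintype.card_fin, smul_eq_mul]
        _ = ∑ l : Fin S.Z.card, m (X.θ l) * m (X.θ l) := by
            apply Finset.sum_congr rfl
            intro l _
            rw [hmθ l]
        _ = ∑ ψ ∈ Finset.univ.image X.θ, m ψ * m ψ := by
            rw [Finset.sum_image (fun a _ b _ hab => X.hθ hab)]
        _ ≤ ∑ ψ : IrrCharacter G, m ψ * m ψ :=
            Finset.sum_le_sum_of_subset (Finset.subset_univ _)
    have ha0 : a = 0 := by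
      by_contra h
      have h1 : 1 ≤ a * a := by
        have : 1 ≤ a := by omega
        nlinarith
      have h2 : S.Z.card * 1 ≤ S.Z.card * (a * a) := Nat.mul_le_mul_left _ h1
      omega
    rw [ha, ha0, Nat.cast_zero]
  obtain ⟨m, hm, hexp⟩ :=
    NormOne.exists_mult_sum (isCharacter_resN S (isCharacter_of_irr (X.θ k).2))
  rw [hexp, Finset.sum_eq_single (X.ζ k)]
  · have h1 := hm (X.ζ k)
    rw [hc k k, if_pos rfl] at h1
    have h2 : m (X.ζ k) = 1 := by exact_mod_cast h1.symm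
    rw [h2]
    simp
  · intro z _ hz
    have h1 := hm z
    by_cases hzZ : z ∈ S.Z
    · obtain ⟨j, rfl⟩ := (X.hζZ z).1 hzZ
      rw [hc k j, if_neg (fun h => hz (by rw [h]))] at h1
      have h2 : m (X.ζ j) = 0 := by exact_mod_cast h1.symm
      rw [h2]
      simp
    · rw [hMz z (S.mem_M.2 hzZ)] at h1
      have h2 : m z = 0 := by exact_mod_cast h1.symm
      rw [h2]
      simp
  · intro h
    exact absurd (Finset.mem_univ _) h

end count

section final

variable {G : Type u} [Group G] [Fintype G] (S : FSetup G)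

/-- linear characters of `N` that are trivial on `K` -/
def IsLinK (μ : ↥S.N → ℂ) : Prop :=
  IsCharacter ↥S.N μ ∧ μ 1 = 1 ∧ ∀ k : ↥S.N, k ∈ S.K' → μ k = 1

theorem lin_pow_card {μ : ↥S.N → ℂ} (hμ : IsLinK S μ) (x : ↥S.N) :
    μ x ^ Nat.card ↥S.E = 1 := by
  obtain ⟨k, hk, y, hy, hxy⟩ := S.hprod x x.2
  have e : x = (⟨k, S.hKN hk⟩ : ↥S.N) * ⟨y, S.hEN hy⟩ := Subtype.ext hxy
  have h1 : μ x = μ (⟨y, S.hEN hy⟩ : ↥S.N) := by
    rw [e, LinChar.linear_mul hμ.1 hμ.2.1, hμ.2.2 _ (S.mem_K'.2 hk), one_mul]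
  rw [h1, ← LinChar.linear_pow hμ.1 hμ.2.1]
  have h2 : (⟨y, S.hEN hy⟩ : ↥S.N) ^ Nat.card ↥S.E = 1 := by
    have h3 : ((⟨y, hy⟩ : ↥S.E) ^ Nat.card ↥S.E : ↥S.E) = 1 := pow_card_eq_one'
    have h4 : y ^ Nat.card ↥S.E = 1 := by
      have h5 := congrArg Subtype.val h3
      rw [Subgroup.coe_pow, Subgroup.coe_one] at h5
      exact h5
    apply Subtype.ext
    rw [Subgroup.coe_pow, Subgroup.coe_one]
    exact h4
  rw [h2, hμ.2.1]

theorem lin_sq_ne (hodd : Odd (Nat.card ↥S.E)) {μ : ↥S.N → ℂ} (hμ : IsLinK S μ) (x : ↥S.N)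
    (hx : μ x ≠ 1) : μ x * μ x ≠ 1 := by
  intro h2
  obtain ⟨j, hj⟩ := hodd
  have h3 := lin_pow_card S hμ x
  rw [hj, pow_succ, pow_mul, pow_two, h2, one_pow, one_mul] at h3
  exact hx h3

variable [Fintype ↥S.N] [Fintype ↥S.K'] [Fintype (IrrCharacter ↥S.K')]
  [Fintype (IrrCharacter ↥S.N)] [Fintype (IrrCharacter G)]

open Classical in
/-- the final contradiction: an irreducible character of degree `e` restricting to an induced
character of `N` -/
theorem final_contra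
    (hG : Nat.card G = (Nat.card ↥S.K + 1) * Nat.card ↥S.K * Nat.card ↥S.E)
    (hM : ∀ μ μ' : ↥S.N → ℂ, IsLinK S μ → IsLinK S μ' →
      classInner (indFun S.N μ) (indFun S.N μ') =
        (if μ = μ' then 1 else 0) + (if ∀ x, μ x * μ' x = 1 then 1 else 0))
    (he : 1 < Nat.card ↥S.E) (hodd : Odd (Nat.card ↥S.E))
    (hlt : 2 * Nat.card ↥S.E < Nat.card ↥S.K - 1)
    (χ : IrrCharacter G) (ζ : IrrCharacter ↥S.N) (hζ : ζ ∈ S.Z)
    (hres : resN S (χ : G → ℂ) = (ζ : ↥S.N → ℂ)) : False := by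
  have hχc := isCharacter_of_irr χ.2
  obtain ⟨Φ, hΦdef⟩ : ∃ Φ : G → ℂ, Φ = fun g => (χ : G → ℂ) g * conj ((χ : G → ℂ) g) :=
    ⟨_, rfl⟩
  have hΦ : IsCharacter G Φ := by
    have h1 := Ops.isCharacter_mul hχc (Ops.isCharacter_inv_arg hχc)
    have h2 : Φ = (χ : G → ℂ) * fun g => (χ : G → ℂ) g⁻¹ := by
      rw [hΦdef]
      funext g
      rw [Pi.mul_apply, char_apply_inv hχc]
    rw [h2]
    exact h1
  have hΦcf := char_isClassFunction hΦ
  have hχn : ∀ n : ↥S.N, (χ : G → ℂ) n = (ζ : ↥S.N → ℂ) n := by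
    intro n
    rw [← hres, resN_apply]
  obtain ⟨m, hm, hexp⟩ := NormOne.exists_mult_sum hΦ
  have hdeg : ∀ ψ : IrrCharacter G, ∃ d : ℕ, 0 < d ∧ (ψ : G → ℂ) 1 = d :=
    fun ψ => irr_exists_apply_one_pos ψ.2
  choose d hdpos hd using hdeg
  -- the degree of Φ
  have hΦ1 : Φ 1 = ((Nat.card ↥S.E * Nat.card ↥S.E : ℕ) : ℂ) := by
    rw [hΦdef]
    have h1 : (χ : G → ℂ) 1 = (Nat.card ↥S.E : ℂ) := by
      have := hχn 1
      rw [S.Z_one hζ] at this
      exact this
    show (χ : G → ℂ) 1 * conj ((χ : G → ℂ) 1) = _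
    rw [h1, Complex.conj_natCast]
    push_cast
    ring
  have hsumd : Nat.card ↥S.E * Nat.card ↥S.E = ∑ ψ : IrrCharacter G, m ψ * d ψ := by
    have h1 := congrFun hexp 1
    rw [Finset.sum_apply, hΦ1] at h1
    have h2 : ∑ ψ : IrrCharacter G, ((m ψ : ℂ) • (ψ : G → ℂ)) 1 =
        ((∑ ψ : IrrCharacter G, m ψ * d ψ : ℕ) : ℂ) := by
      push_cast
      apply Finset.sum_congr rfl
      intro ψ _
      rw [Pi.smul_apply, smul_eq_mul, hd ψ]
    rw [h2] at h1
    exact_mod_cast h1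
  -- the trivial character
  obtain ⟨triv, htriv⟩ : ∃ t : IrrCharacter G, t = ⟨fun _ => 1, Ops.isIrrCharacter_one⟩ :=
    ⟨_, rfl⟩
  have hmtriv : m triv = 1 := by
    have h1 := hm triv
    have h2 : classInner Φ (triv : G → ℂ) = classInner (χ : G → ℂ) (χ : G → ℂ) := by
      rw [htriv, hΦdef]
      unfold classInner
      simp only [map_one, mul_one]
    rw [h2, NormOne.inner_self_eq_one_of_irr χ.2] at h1
    exact_mod_cast h1.symm
  have hdtriv : d triv = 1 := by
    have h1 := hd triv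
    rw [htriv] at h1
    have h2 : ((1 : ℕ) : ℂ) = ((d ⟨fun _ => 1, Ops.isIrrCharacter_one⟩ : ℕ) : ℂ) := by
      rw [← h1]
      simp
    rw [htriv]
    exact_mod_cast h2.symm
  -- the characters induced from `M`
  have hlin : ∀ z ∈ S.M, IsLinK S (z : ↥S.N → ℂ) := fun z hz =>
    ⟨isCharacter_of_irr z.2, (S.M_lin hz).2, (S.M_lin hz).1⟩
  have hΦz : ∀ z ∈ S.M, classInner Φ (indFun S.N (z : ↥S.N → ℂ)) = 1 := by
    intro z hz
    rw [FrobRec.frobenius_reciprocity' S.N _ Φ hΦcf]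
    have h1 := NormOne.inner_self_eq_one_of_irr ζ.2
    rw [← h1]
    unfold classInner
    congr 1
    apply Finset.sum_congr rfl
    intro n _
    rw [hΦdef]
    show (χ : G → ℂ) n * conj ((χ : G → ℂ) n) * conj ((z : ↥S.N → ℂ) n) = _
    rw [hχn n]
    by_cases hn : n ∈ S.K'
    · rw [(S.M_lin hz).1 n hn, map_one, mul_one]
    · rw [S.Z_vanish hζ hn, zero_mul, zero_mul]
  obtain ⟨trivN, htrivN⟩ : ∃ t : IrrCharacter ↥S.N, t = ⟨fun _ => 1, Ops.isIrrCharacter_one⟩ :=
    ⟨_, rfl⟩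
  have htrivM : trivN ∈ S.M := by
    rw [S.mem_M, htrivN]
    exact S.one_not_mem_Z he
  obtain ⟨Mp, hMp⟩ : ∃ Mp : Finset (IrrCharacter ↥S.N), Mp = S.M.erase trivN := ⟨_, rfl⟩
  have hMpM : ∀ z ∈ Mp, z ∈ S.M := by
    intro z hz
    rw [hMp] at hz
    exact Finset.mem_of_mem_erase hz
  have hMpcard : Mp.card + 1 = Nat.card ↥S.E := by
    rw [hMp, Finset.card_erase_of_mem htrivM, S.card_M he]
    omega
  have hnsq : ∀ z ∈ Mp, ¬ ∀ x, (z : ↥S.N → ℂ) x * (z : ↥S.N → ℂ) x = 1 := by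
    intro z hz hall
    have hne : z ≠ trivN := by
      rw [hMp] at hz
      exact Finset.ne_of_mem_erase hz
    have hex : ∃ x, (z : ↥S.N → ℂ) x ≠ 1 := by
      by_contra hcon
      push Not at hcon
      apply hne
      rw [htrivN]
      exact Subtype.ext (funext hcon)
    obtain ⟨x, hx⟩ := hex
    exact lin_sq_ne S hodd (hlin z (hMpM z hz)) x hx (hall x)
  have hself : ∀ z ∈ Mp, classInner (indFun S.N (z : ↥S.N → ℂ)) (indFun S.N (z : ↥S.N → ℂ)) = 1 := by
    intro z hz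
    rw [hM _ _ (hlin z (hMpM z hz)) (hlin z (hMpM z hz)), if_pos rfl, if_neg (hnsq z hz),
      add_zero]
  have hirr : ∀ z ∈ Mp, IsIrrCharacter G (indFun S.N (z : ↥S.N → ℂ)) := by
    intro z hz
    exact NormOne.irr_of_inner_self_eq_one
      (IndChar.isCharacter_indFun S.N _ (isCharacter_of_irr z.2)) (hself z hz)
  obtain ⟨Yf, hYf⟩ : ∃ Yf : IrrCharacter ↥S.N → IrrCharacter G,
      Yf = fun z : IrrCharacter ↥S.N =>
        if h : IsIrrCharacter G (indFun S.N (z : ↥S.N → ℂ)) then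
          (⟨indFun S.N (z : ↥S.N → ℂ), h⟩ : IrrCharacter G) else triv := ⟨_, rfl⟩
  have hYfc : ∀ z ∈ Mp, (Yf z : G → ℂ) = indFun S.N (z : ↥S.N → ℂ) := by
    intro z hz
    rw [hYf]
    simp only
    rw [dif_pos (hirr z hz)]
  have hmY : ∀ z ∈ Mp, m (Yf z) = 1 := by
    intro z hz
    have h1 := hm (Yf z)
    rw [hYfc z hz, hΦz z (hMpM z hz)] at h1
    exact_mod_cast h1.symm
  have hindex : S.N.index = Nat.card ↥S.K + 1 := by
    have h1 := S.N.card_mul_index
    rw [S.card_N, hG] at h1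
    have hpos : 0 < Nat.card ↥S.K * Nat.card ↥S.E := by
      have : 0 < Nat.card ↥S.K := Nat.card_pos
      have : 0 < Nat.card ↥S.E := Nat.card_pos
      positivity
    apply Nat.eq_of_mul_eq_mul_left hpos
    rw [h1]
    ring
  have hdY : ∀ z ∈ Mp, d (Yf z) = Nat.card ↥S.K + 1 := by
    intro z hz
    have h1 := hd (Yf z)
    rw [hYfc z hz, FrobRec.indFun_one, (S.M_lin (hMpM z hz)).2, mul_one, hindex] at h1
    exact_mod_cast h1.symm
  have htrivY : triv ∉ Mp.image Yf := by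
    intro h
    obtain ⟨z, hz, hzt⟩ := Finset.mem_image.1 h
    have h1 := hdY z hz
    rw [hzt, hdtriv] at h1
    omega
  -- fibres
  have hfib : ∀ y ∈ Mp.image Yf, (Mp.filter (fun z => Yf z = y)).card ≤ 2 := by
    intro y hy
    obtain ⟨z₀, hz₀, rfl⟩ := Finset.mem_image.1 hy
    have key : ∀ z ∈ Mp, Yf z = Yf z₀ → z = z₀ ∨
        ∀ x, (z₀ : ↥S.N → ℂ) x * (z : ↥S.N → ℂ) x = 1 := by
      intro z hz hY
      by_contra hcon
      push Not at hcon
      obtain ⟨hne, x, hx⟩ := hcon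
      have h1 := hM _ _ (hlin z₀ (hMpM z₀ hz₀)) (hlin z (hMpM z hz))
      rw [if_neg (fun h => hne (Subtype.ext h).symm), if_neg (fun hall => hx (hall x)),
        add_zero] at h1
      have e1 : indFun S.N (z : ↥S.N → ℂ) = indFun S.N (z₀ : ↥S.N → ℂ) := by
        rw [← hYfc z hz, ← hYfc z₀ hz₀, hY]
      rw [e1, hself z₀ hz₀] at h1
      exact one_ne_zero h1
    have uniq : ∀ z z' : IrrCharacter ↥S.N,
        (∀ x, (z₀ : ↥S.N → ℂ) x * (z : ↥S.N → ℂ) x = 1) →
        (∀ x, (z₀ : ↥S.N → ℂ) x * (z' : ↥S.N → ℂ) x = 1) → z = z' := by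
      intro z z' h1 h2
      apply Subtype.ext
      funext x
      have h3 : (z₀ : ↥S.N → ℂ) x ≠ 0 := by
        intro h0
        have := h1 x
        rw [h0, zero_mul] at this
        exact zero_ne_one this
      exact mul_left_cancel₀ h3 ((h1 x).trans (h2 x).symm)
    by_cases hex : ∃ z₁ ∈ Mp.filter (fun z => Yf z = Yf z₀), z₁ ≠ z₀
    · obtain ⟨z₁, hz₁, hne⟩ := hex
      rw [Finset.mem_filter] at hz₁
      have hsub : Mp.filter (fun z => Yf z = Yf z₀) ⊆ {z₀, z₁} := by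
        intro z hz
        rw [Finset.mem_filter] at hz
        rw [Finset.mem_insert, Finset.mem_singleton]
        rcases key z hz.1 hz.2 with h | h
        · exact Or.inl h
        · exact Or.inr (uniq z z₁ h ((key z₁ hz₁.1 hz₁.2).resolve_left hne))
      calc (Mp.filter (fun z => Yf z = Yf z₀)).card ≤ ({z₀, z₁} : Finset _).card :=
            Finset.card_le_card hsub
        _ ≤ 2 := Finset.card_le_two
    · push Not at hex
      have hsub : Mp.filter (fun z => Yf z = Yf z₀) ⊆ {z₀} :=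
        fun z hz => Finset.mem_singleton.2 (hex z hz)
      calc (Mp.filter (fun z => Yf z = Yf z₀)).card ≤ ({z₀} : Finset _).card :=
            Finset.card_le_card hsub
        _ = 1 := Finset.card_singleton _
        _ ≤ 2 := by norm_num
  have hYcard : Mp.card ≤ 2 * (Mp.image Yf).card := Finset.card_le_mul_card_image Mp 2 hfib
  -- the degree inequality
  have hlow : 1 + (Mp.image Yf).card * (Nat.card ↥S.K + 1) ≤
      ∑ ψ : IrrCharacter G, m ψ * d ψ := by
    calc 1 + (Mp.image Yf).card * (Nat.card ↥S.K + 1)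
        = m triv * d triv + ∑ _ψ ∈ Mp.image Yf, (Nat.card ↥S.K + 1) := by
          rw [hmtriv, hdtriv, Finset.sum_const, smul_eq_mul]
      _ = m triv * d triv + ∑ ψ ∈ Mp.image Yf, m ψ * d ψ := by
          congr 1
          apply Finset.sum_congr rfl
          intro ψ hψ
          obtain ⟨z, hz, rfl⟩ := Finset.mem_image.1 hψ
          rw [hmY z hz, hdY z hz, one_mul]
      _ = ∑ ψ ∈ insert triv (Mp.image Yf), m ψ * d ψ := by
          rw [Finset.sum_insert htrivY]
      _ ≤ ∑ ψ : IrrCharacter G, m ψ * d ψ :=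
          Finset.sum_le_sum_of_subset (Finset.subset_univ _)
  rw [← hsumd] at hlow
  -- arithmetic
  have key : ∀ e h Y P : ℕ, P + 1 = e → P ≤ 2 * Y → 1 + Y * (h + 1) ≤ e * e → 1 < e →
      2 * e < h - 1 → False := by
    intro e h Y P hP hY hlow he hlt
    subst hP
    have h1 : P * (h + 1) ≤ 2 * Y * (h + 1) := Nat.mul_le_mul_right _ hY
    have h2 : P * (2 * (P + 1) + 3) ≤ P * (h + 1) := Nat.mul_le_mul_left _ (by omega)
    nlinarith
  exact key _ _ _ _ hMpcard hYcard hlow he hlt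

open Classical in
/-- **Feit's theorem** (abelian kernel, odd complement), abstract form. -/
theorem feit_core [IsSimpleGroup G]
    (hG : Nat.card G = (Nat.card ↥S.K + 1) * Nat.card ↥S.K * Nat.card ↥S.E)
    (hclass : Nat.card ↥S.E ≤
      Nat.card {C : ConjClasses G // ∀ g : G, ConjClasses.mk g = C → g ∉ S.K})
    (hM : ∀ μ μ' : ↥S.N → ℂ, IsLinK S μ → IsLinK S μ' →
      classInner (indFun S.N μ) (indFun S.N μ') =
        (if μ = μ' then 1 else 0) + (if ∀ x, μ x * μ' x = 1 then 1 else 0))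
    (he : 1 < Nat.card ↥S.E) (hodd : Odd (Nat.card ↥S.E)) :
    Nat.card ↥S.K - 1 ≤ 2 * Nat.card ↥S.E := by
  by_contra hlt
  push Not at hlt
  have hTe := S.card_Z_mul he
  have hT3 : 3 ≤ S.Z.card := by
    by_contra hcon
    have h1 : S.Z.card ≤ 2 := by omega
    have h2 : S.Z.card * Nat.card ↥S.E ≤ 2 * Nat.card ↥S.E := Nat.mul_le_mul_right _ h1
    omega
  have hK : ∃ u ∈ S.K, u ≠ 1 := by
    have h2 : 1 < Nat.card ↥S.K := by omega
    have : Finite ↥S.K := Nat.finite_of_card_ne_zero (by omega)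
    have := Finite.one_lt_card_iff_nontrivial.1 h2
    obtain ⟨x, hx⟩ := exists_ne (1 : ↥S.K)
    exact ⟨x, x.2, fun h => hx (Subtype.ext h)⟩
  obtain ⟨X⟩ := exists_exc S (by omega) hK
  obtain ⟨c, hc⟩ := X.exists_c (by omega)
  have hc0 := X.c_eq_zero hG hclass he hlt c hc
  subst hc0
  have hε := X.eps_eq_one (by omega) hc
  have hc' : ∀ k j : Fin S.Z.card,
      classInner (resN S (X.θ k : G → ℂ)) (X.ζ j : ↥S.N → ℂ) = if k = j then 1 else 0 := by
    intro k j
    rw [hc k j, hε]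
    simp
  have hM2 : ∀ z ∈ S.M, ∃ n : ℕ, n ≤ 2 ∧
      classInner (indFun S.N (z : ↥S.N → ℂ)) (indFun S.N (z : ↥S.N → ℂ)) = n := by
    intro z hz
    have hl : IsLinK S (z : ↥S.N → ℂ) :=
      ⟨isCharacter_of_irr z.2, (S.M_lin hz).2, (S.M_lin hz).1⟩
    rw [hM _ _ hl hl, if_pos rfl]
    by_cases h : ∀ x, (z : ↥S.N → ℂ) x * (z : ↥S.N → ℂ) x = 1
    · refine ⟨2, le_refl _, ?_⟩
      rw [if_pos h]
      norm_num
    · refine ⟨1, by omega, ?_⟩
      rw [if_neg h]
      norm_num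
  have hres := X.res_eq hT3 hc' hM2 ⟨0, by omega⟩
  exact final_contra S hG hM he hodd hlt (X.θ ⟨0, by omega⟩) (X.ζ ⟨0, by omega⟩)
    (X.zeta_mem _) hres

end final

/-- **Feit's theorem** (abelian kernel, odd complement), abstract form, without auxiliary
instances. -/
theorem feit {G : Type u} [Group G] [Fintype G] (S : FSetup G) [IsSimpleGroup G]
    (hG : Nat.card G = (Nat.card ↥S.K + 1) * Nat.card ↥S.K * Nat.card ↥S.E)
    (hclass : Nat.card ↥S.E ≤
      Nat.card {C : ConjClasses G // ∀ g : G, ConjClasses.mk g = C → g ∉ S.K})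
    (hM : ∀ μ μ' : ↥S.N → ℂ, IsLinK S μ → IsLinK S μ' →
      (μ = μ' → (∀ x, μ x * μ' x = 1) →
        classInner (indFun S.N μ) (indFun S.N μ') = 2) ∧
      (μ = μ' → (¬ ∀ x, μ x * μ' x = 1) →
        classInner (indFun S.N μ) (indFun S.N μ') = 1) ∧
      (μ ≠ μ' → (∀ x, μ x * μ' x = 1) →
        classInner (indFun S.N μ) (indFun S.N μ') = 1) ∧
      (μ ≠ μ' → (¬ ∀ x, μ x * μ' x = 1) →
        classInner (indFun S.N μ) (indFun S.N μ') = 0))
    (he : 1 < Nat.card ↥S.E) (hodd : Odd (Nat.card ↥S.E)) :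
    Nat.card ↥S.K - 1 ≤ 2 * Nat.card ↥S.E := by
  classical
  have : Fintype ↥S.N := Fintype.ofFinite _
  have : Fintype ↥S.K' := Fintype.ofFinite _
  have := finite_irrCharacter ↥S.K'
  have := finite_irrCharacter ↥S.N
  have := finite_irrCharacter G
  have : Fintype (IrrCharacter ↥S.K') := Fintype.ofFinite _
  have : Fintype (IrrCharacter ↥S.N) := Fintype.ofFinite _
  have : Fintype (IrrCharacter G) := Fintype.ofFinite _
  apply feit_core S hG hclass _ he hodd
  intro μ μ' hμ hμ'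
  obtain ⟨h1, h2, h3, h4⟩ := hM μ μ' hμ hμ'
  by_cases ha : μ = μ'
  · by_cases hb : ∀ x, μ x * μ' x = 1
    · rw [if_pos ha, if_pos hb, h1 ha hb]
      norm_num
    · rw [if_pos ha, if_neg hb, h2 ha hb]
      norm_num
  · by_cases hb : ∀ x, μ x * μ' x = 1
    · rw [if_neg ha, if_pos hb, h3 ha hb]
      norm_num
    · rw [if_neg ha, if_neg hb, h4 ha hb]
      norm_num

end Cfsg.Agent.Lib.Helper52.FeitG
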