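import Mathlib

/-!
Odd-order Z-groups with an automorphism inverting (up to inner automorphisms) every Sylow subgroup
that is central in its normaliser: such a group is cyclic and the automorphism is inversion
(`cyclic_inverted`). Also: an involutory automorphism of a cyclic `q`-group, `q` odd, is the
identity or inversion (`inv_of_involutive`).
-/

set_option autoImplicit false

namespace Cfsg.Agent.Lib.Helper52.ZInv

/-- An endomorphism of a finite cyclic `q`-group (`q` odd) whose square is the identity is the
identity or inversion. -/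
theorem inv_of_involutive {Q : Type*} [Group Q] [Finite Q] [IsCyclic Q] {q : ℕ} (hq : q.Prime)
    (hq2 : q ≠ 2) (hQ : IsPGroup q Q) (σ : Q →* Q) (hσ2 : ∀ x, σ (σ x) = x)
    (hne : ∃ x, σ x ≠ x) : ∀ x, σ x = x⁻¹ := by
  obtain ⟨m, hm⟩ := MonoidHom.map_cyclic σ
  obtain ⟨c, hc⟩ := IsCyclic.exists_generator (α := Q)
  have : Fact q.Prime := ⟨hq⟩
  obtain ⟨k, hk⟩ := IsPGroup.iff_card.1 hQ
  have hoc : orderOf c = q ^ k := by rw [orderOf_eq_card_of_forall_mem_zpowers hc, hk]
  have h1 : c ^ (m * m - 1) = 1 := by
    have h2 := hσ2 c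
    rw [hm c, hm (c ^ m), ← zpow_mul] at h2
    rw [zpow_sub, zpow_one, h2, mul_inv_cancel]
  have h3 : ((q : ℤ)) ^ k ∣ (m - 1) * (m + 1) := by
    have h4 := orderOf_dvd_iff_zpow_eq_one.2 h1
    rw [hoc] at h4
    have e : (m - 1) * (m + 1) = m * m - 1 := by ring
    rw [e]
    exact_mod_cast h4
  have hqp : Prime (q : ℤ) := Nat.prime_iff_prime_int.mp hq
  have hall : ∀ (x : Q) (j : ℤ), ((q : ℤ)) ^ k ∣ j → x ^ j = 1 := by
    intro x j hj
    apply orderOf_dvd_iff_zpow_eq_one.1
    have h5 : orderOf x ∣ q ^ k := by rw [← hk]; exact orderOf_dvd_natCard x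
    have h6 : ((orderOf x : ℕ) : ℤ) ∣ ((q ^ k : ℕ) : ℤ) := Int.natCast_dvd_natCast.2 h5
    refine h6.trans ?_
    exact_mod_cast hj
  by_cases hd : (q : ℤ) ∣ m - 1
  · exfalso
    have hnd : ¬ (q : ℤ) ∣ m + 1 := by
      intro h7
      have h8 : (q : ℤ) ∣ 2 := by
        have := dvd_sub h7 hd
        have e : m + 1 - (m - 1) = 2 := by ring
        rwa [e] at this
      have h9 : q ∣ 2 := by exact_mod_cast h8
      exact hq2 ((Nat.prime_dvd_prime_iff_eq hq Nat.prime_two).1 h9)
    have h10 : ((q : ℤ)) ^ k ∣ m - 1 := hqp.pow_dvd_of_dvd_mul_right k hnd h3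
    obtain ⟨x, hx⟩ := hne
    apply hx
    rw [hm x]
    have h11 := hall x _ h10
    rw [zpow_sub, zpow_one, mul_inv_eq_one] at h11
    exact h11
  · have h10 : ((q : ℤ)) ^ k ∣ m + 1 := hqp.pow_dvd_of_dvd_mul_left k hd h3
    intro x
    rw [hm x]
    have h11 := hall x _ h10
    rw [zpow_add, zpow_one] at h11
    exact eq_inv_of_mul_eq_one_left h11

/-- An element of odd order commuting-squared: if `y * y` commutes with `x` and `y` has odd
order then `y` commutes with `x`. -/
theorem commute_of_sq {H : Type*} [Group H] [Finite H] (hodd : Odd (Nat.card H)) {x y : H}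
    (h : Commute (y * y) x) : Commute y x := by
  have hn : Odd (orderOf y) := hodd.of_dvd_nat (orderOf_dvd_natCard y)
  obtain ⟨k, hk⟩ := hn
  have e : y = (y * y) ^ (k + 1) := by
    rw [← pow_two, ← pow_mul]
    have e2 : 2 * (k + 1) = orderOf y + 1 := by omega
    rw [e2, pow_succ, pow_orderOf_eq_one, one_mul]
  rw [e]
  exact h.pow_left _

/-- Odd-order Z-group, `τ` an injective endomorphism such that every Sylow subgroup central in
its normaliser is inverted by `τ` followed by an inner automorphism: the group is cyclic and `τ`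
is inversion. -/
theorem cyclic_inverted {H : Type*} [Group H] [Finite H] [IsZGroup H] (hodd : Odd (Nat.card H))
    (τ : H →* H) (hτ : Function.Injective τ)
    (hstar : ∀ (q : ℕ) [Fact q.Prime] (Q : Sylow q H),
      Subgroup.normalizer (Q : Set H) ≤ Subgroup.centralizer (Q : Set H) →
      ∃ h : H, ∀ y ∈ Q, h * τ y * h⁻¹ = y⁻¹) :
    IsCyclic H ∧ ∀ x : H, τ x = x⁻¹ := by
  classical
  have hDcyc : IsCyclic (commutator H) := IsZGroup.isCyclic_commutator H
  have hDcomm : ∀ x ∈ commutator H, ∀ y ∈ commutator H, x * y = y * x := by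
    intro x hx y hy
    obtain ⟨c, hc⟩ := IsCyclic.exists_generator (α := commutator H)
    obtain ⟨i, hi⟩ := Subgroup.mem_zpowers_iff.1 (hc ⟨x, hx⟩)
    obtain ⟨j, hj⟩ := Subgroup.mem_zpowers_iff.1 (hc ⟨y, hy⟩)
    have e1 : x = (c : H) ^ i := by
      have := congrArg Subtype.val hi; simpa using this.symm
    have e2 : y = (c : H) ^ j := by
      have := congrArg Subtype.val hj; simpa using this.symm
    rw [e1, e2, ← zpow_add, ← zpow_add, add_comm]
  have hDτ : ∀ x ∈ commutator H, τ x ∈ commutator H := by
    intro x hx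
    have h1 : τ x ∈ (commutator H).map τ := Subgroup.mem_map_of_mem τ hx
    rw [commutator_def, Subgroup.map_commutator] at h1
    rw [commutator_def]
    exact Subgroup.commutator_mono le_top le_top h1
  -- the centraliser of the commutator subgroup is everything
  have hCtop : ∀ (q : ℕ) [Fact q.Prime] (Q : Sylow q H),
      (Q : Subgroup H) ≤ Subgroup.centralizer (commutator H : Set H) := by
    intro q _ Q
    rcases Sylow.normalizer_le_centralizer_or_le_commutator Q with hNC | hQD
    · obtain ⟨h, hh⟩ := hstar q Q hNC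
      intro y hy
      rw [Subgroup.mem_centralizer_iff]
      intro x hx
      have hx' : x ∈ commutator H := hx
      -- conjugation by y on the commutator subgroup is a power map
      have hnorm : ∀ g : H, ∀ z ∈ commutator H, g * z * g⁻¹ ∈ commutator H := by
        intro g z hz
        exact (inferInstance : (commutator H).Normal).conj_mem z hz g
      let cy : commutator H →* commutator H :=
        { toFun := fun z => ⟨y * z * y⁻¹, hnorm y z z.2⟩
          map_one' := by ext; simp
          map_mul' := by intro z w; ext; simp }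
      obtain ⟨r, hr⟩ := MonoidHom.map_cyclic cy
      have hr' : ∀ z ∈ commutator H, y * z * y⁻¹ = z ^ r := by
        intro z hz
        have := congrArg Subtype.val (hr ⟨z, hz⟩)
        simpa [cy] using this
      -- β = conj h ∘ τ maps the commutator subgroup onto itself
      let β : commutator H → commutator H :=
        fun z => ⟨h * τ z * h⁻¹, hnorm h _ (hDτ z z.2)⟩
      have hβinj : Function.Injective β := by
        intro z w hzw
        have h1 : h * τ z * h⁻¹ = h * τ w * h⁻¹ := congrArg Subtype.val hzw
        have h2 : τ (z : H) = τ (w : H) := by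
          have := congrArg (fun t => h⁻¹ * t * h) h1
          simpa [mul_assoc] using this
        exact Subtype.ext (hτ h2)
      have hβsurj : Function.Surjective β := Finite.surjective_of_injective hβinj
      have hr'' : ∀ z ∈ commutator H, y⁻¹ * z * y = z ^ r := by
        intro z hz
        obtain ⟨w, hw⟩ := hβsurj ⟨z, hz⟩
        have hw' : h * τ w * h⁻¹ = z := congrArg Subtype.val hw
        have h1 := hr' w w.2
        have h2 : h * τ (y * w * y⁻¹) * h⁻¹ = h * τ ((w : H) ^ r) * h⁻¹ := by rw [h1]
        rw [map_mul, map_mul, map_inv, map_zpow] at h2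
        have h3 : h * τ y * h⁻¹ = y⁻¹ := hh y hy
        have h4 : h * (τ y * τ w * (τ y)⁻¹) * h⁻¹ =
            (h * τ y * h⁻¹) * (h * τ w * h⁻¹) * (h * τ y * h⁻¹)⁻¹ := by group
        have h5 : h * τ (w : H) ^ r * h⁻¹ = (h * τ w * h⁻¹) ^ r := by
          rw [← MulAut.conj_apply, ← MulAut.conj_apply, map_zpow]
        rw [h4, h5, h3, hw', inv_inv] at h2
        exact h2
      have hzr : ∀ z ∈ commutator H, z ^ r ∈ commutator H := fun z hz =>
        (commutator H).zpow_mem hz r
      have e1 : y * (y * x * y⁻¹) * y⁻¹ = (x ^ r) ^ r := by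
        rw [hr' x hx', hr' _ (hzr x hx')]
      have e2 : y⁻¹ * (y * x * y⁻¹) * y = (x ^ r) ^ r := by
        rw [hr' x hx', hr'' _ (hzr x hx')]
      have e3 : y * (y * x * y⁻¹) * y⁻¹ = x := by
        rw [e1, ← e2]; group
      have hc : Commute (y * y) x := by
        show y * y * x = x * (y * y)
        have : y * y * x = (y * (y * x * y⁻¹) * y⁻¹) * (y * y) := by group
        rw [this, e3]
      exact ((commute_of_sq hodd hc).eq).symm
    · intro y hy
      rw [Subgroup.mem_centralizer_iff]
      intro x hx
      exact hDcomm x hx y (hQD hy)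
  have hC : Subgroup.centralizer (commutator H : Set H) = ⊤ := by
    rw [← Subgroup.index_eq_one]
    by_contra hne
    obtain ⟨q, hq, hqd⟩ := Nat.exists_prime_and_dvd hne
    have : Fact q.Prime := ⟨hq⟩
    have Q : Sylow q H := default
    exact Q.not_dvd_index (hqd.trans (Subgroup.index_dvd_of_le (hCtop q Q)))
  have hDZ : commutator H ≤ Subgroup.center H := by
    intro x hx
    rw [Subgroup.mem_center_iff]
    intro g
    have hg : g ∈ Subgroup.centralizer (commutator H : Set H) := by rw [hC]; trivial
    rw [Subgroup.mem_centralizer_iff] at hg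
    exact (hg x hx).symm
  have hnil : Group.IsNilpotent H := by
    apply Subgroup.isNilpotent_of_ker_le_center (Abelianization.of (G := H))
    rw [Abelianization.ker_of]; exact hDZ
  have hcyc : IsCyclic H := inferInstance
  refine ⟨hcyc, ?_⟩
  have hcomm : ∀ x y : H, x * y = y * x := by
    intro x y
    obtain ⟨c, hc⟩ := IsCyclic.exists_generator (α := H)
    obtain ⟨i, hi⟩ := Subgroup.mem_zpowers_iff.1 (hc x)
    obtain ⟨j, hj⟩ := Subgroup.mem_zpowers_iff.1 (hc y)
    rw [← hi, ← hj, ← zpow_add, ← zpow_add, add_comm]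
  let S : Subgroup H :=
    { carrier := {x | τ x = x⁻¹}
      one_mem' := by simp
      mul_mem' := by
        intro x y hx hy
        simp only [Set.mem_ofPred_eq] at hx hy ⊢
        rw [map_mul, hx, hy, mul_inv_rev, hcomm]
      inv_mem' := by
        intro x hx
        simp only [Set.mem_ofPred_eq] at hx ⊢
        rw [map_inv, hx] }
  have hSle : ∀ (q : ℕ) [Fact q.Prime] (Q : Sylow q H), (Q : Subgroup H) ≤ S := by
    intro q _ Q y hy
    have hNC : Subgroup.normalizer (Q : Set H) ≤ Subgroup.centralizer (Q : Set H) := by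
      intro g _
      rw [Subgroup.mem_centralizer_iff]
      intro z _
      exact hcomm z g
    obtain ⟨h, hh⟩ := hstar q Q hNC
    have h3 := hh y hy
    rw [hcomm h (τ y), mul_assoc, mul_inv_cancel, mul_one] at h3
    exact h3
  have hS : S = ⊤ := by
    rw [← Subgroup.index_eq_one]
    by_contra hne
    obtain ⟨q, hq, hqd⟩ := Nat.exists_prime_and_dvd hne
    have : Fact q.Prime := ⟨hq⟩
    have Q : Sylow q H := default
    exact Q.not_dvd_index (hqd.trans (Subgroup.index_dvd_of_le (hSle q Q)))
  intro x
  have hx : x ∈ S := by rw [hS]; trivial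
  exact hx

end Cfsg.Agent.Lib.Helper52.ZInv
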