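import Mathlib
import Cfsg.Agent.Lib.Helper52.PGLIso

/-!
Recognising `PSL(2, K)` from a Möbius-type action.

`iso_PSL`: if a group `G` acts on a set `Ω` identified with `OnePoint K` (`K` a field) such that
only the identity fixes the three points `∞, 0, 1`, the group contains elements acting as the
translations `x ↦ x + t`, the square dilations `x ↦ μ² x` and the map `x ↦ -1/x`, and every
element fixing `∞` and `0` acts as a square dilation, then `G ≃* PSL(2, K)`.
-/

set_option autoImplicit false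

namespace Cfsg.Agent.Lib.Helper52.PSLIso

open OnePoint Matrix

universe u v w

variable {K : Type w} [Field K] [DecidableEq K]

/-- the translation `x ↦ x + t` -/
noncomputable def T (t : K) : SpecialLinearGroup (Fin 2) K :=
  ⟨!![1, t; 0, 1], by simp [Matrix.det_fin_two]⟩

/-- the dilation `x ↦ μ² x` -/
noncomputable def S (μ : K) (hμ : μ ≠ 0) : SpecialLinearGroup (Fin 2) K :=
  ⟨!![μ, 0; 0, μ⁻¹], by simp [Matrix.det_fin_two, hμ]⟩

/-- the map `x ↦ -1/x` -/
noncomputable def W₀ : SpecialLinearGroup (Fin 2) K :=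
  ⟨!![0, -1; 1, 0], by simp [Matrix.det_fin_two]⟩

omit [DecidableEq K] in
theorem T_val (t : K) : (T t).1 = !![1, t; 0, 1] := rfl

omit [DecidableEq K] in
theorem S_val (μ : K) (hμ : μ ≠ 0) : (S μ hμ).1 = !![μ, 0; 0, μ⁻¹] := rfl

omit [DecidableEq K] in
theorem W₀_val : (W₀ : SpecialLinearGroup (Fin 2) K).1 = !![0, -1; 1, 0] := rfl

theorem sl_infty (m : SpecialLinearGroup (Fin 2) K) :
    SpecialLinearGroup.toGL m • (∞ : OnePoint K) =
      if m.1 1 0 = 0 then ∞ else ((m.1 0 0 / m.1 1 0 : K) : OnePoint K) :=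
  OnePoint.smul_infty_eq_ite _

theorem sl_some (m : SpecialLinearGroup (Fin 2) K) (k : K) :
    SpecialLinearGroup.toGL m • (k : OnePoint K) =
      if m.1 1 0 * k + m.1 1 1 = 0 then ∞ else
        (((m.1 0 0 * k + m.1 0 1) / (m.1 1 0 * k + m.1 1 1) : K) : OnePoint K) :=
  OnePoint.smul_some_eq_ite

theorem T_infty (t : K) : SpecialLinearGroup.toGL (T t) • (∞ : OnePoint K) = ∞ := by
  rw [sl_infty, T_val]
  simp

theorem T_some (t x : K) :
    SpecialLinearGroup.toGL (T t) • (x : OnePoint K) = ((x + t : K) : OnePoint K) := by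
  rw [sl_some, T_val]
  simp

theorem S_infty (μ : K) (hμ : μ ≠ 0) :
    SpecialLinearGroup.toGL (S μ hμ) • (∞ : OnePoint K) = ∞ := by
  rw [sl_infty, S_val]
  simp

theorem S_some (μ : K) (hμ : μ ≠ 0) (x : K) :
    SpecialLinearGroup.toGL (S μ hμ) • (x : OnePoint K) = ((μ * μ * x : K) : OnePoint K) := by
  rw [sl_some, S_val]
  simp [hμ]
  field_simp

theorem W₀_infty : SpecialLinearGroup.toGL (W₀ : SpecialLinearGroup (Fin 2) K) •
    (∞ : OnePoint K) = ((0 : K) : OnePoint K) := by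
  rw [sl_infty, W₀_val]
  simp

theorem W₀_zero : SpecialLinearGroup.toGL (W₀ : SpecialLinearGroup (Fin 2) K) •
    ((0 : K) : OnePoint K) = ∞ := by
  rw [sl_some, W₀_val]
  simp

theorem W₀_some (x : K) (hx : x ≠ 0) :
    SpecialLinearGroup.toGL (W₀ : SpecialLinearGroup (Fin 2) K) • (x : OnePoint K) =
      ((-x⁻¹ : K) : OnePoint K) := by
  rw [sl_some, W₀_val]
  simp [hx]
  field_simp

omit [DecidableEq K] in
theorem bruhat0 (m : SpecialLinearGroup (Fin 2) K) (h : m.1 1 0 = 0) (h0 : m.1 0 0 ≠ 0) :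
    m = T (m.1 0 0 * m.1 0 1) * S (m.1 0 0) h0 := by
  have hdet := m.2
  rw [Matrix.det_fin_two, h, mul_zero, sub_zero] at hdet
  refine Matrix.SpecialLinearGroup.ext _ _ (fun i j => ?_)
  show m.1 i j = ((T (m.1 0 0 * m.1 0 1)).1 * (S (m.1 0 0) h0).1) i j
  rw [T_val, S_val]
  fin_cases i <;> fin_cases j <;> simp [h, Matrix.mul_apply, Fin.sum_univ_two]
  · field_simp
  · exact (eq_inv_of_mul_eq_one_right hdet)

omit [DecidableEq K] in
theorem bruhat1 (m : SpecialLinearGroup (Fin 2) K) (h : m.1 1 0 ≠ 0) :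
    m = T (m.1 0 0 / m.1 1 0) * W₀ * S (m.1 1 0) h * T (m.1 1 1 / m.1 1 0) := by
  have hdet := m.2
  rw [Matrix.det_fin_two] at hdet
  refine Matrix.SpecialLinearGroup.ext _ _ (fun i j => ?_)
  show m.1 i j = ((T (m.1 0 0 / m.1 1 0)).1 * (W₀ : SpecialLinearGroup (Fin 2) K).1 *
    (S (m.1 1 0) h).1 * (T (m.1 1 1 / m.1 1 0)).1) i j
  rw [T_val, S_val, W₀_val, T_val]
  fin_cases i <;> fin_cases j <;> simp [h, Matrix.mul_apply, Fin.sum_univ_two] <;> field_simp
  linear_combination -hdet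

/-- A matrix of `SL(2, K)` acting trivially on the projective line is central. -/
theorem mem_center_of_act (m : SpecialLinearGroup (Fin 2) K)
    (h : ∀ x : OnePoint K, SpecialLinearGroup.toGL m • x = x) :
    m ∈ Subgroup.center (SpecialLinearGroup (Fin 2) K) := by
  have hc : SpecialLinearGroup.toGL m ∈ Subgroup.center (GL (Fin 2) K) :=
    PGLIso.mem_center_of_fix _ (h _) (h _) (h _)
  rw [Subgroup.mem_center_iff] at hc ⊢
  intro g
  apply SpecialLinearGroup.toGL_injective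
  rw [map_mul, map_mul]
  exact hc (SpecialLinearGroup.toGL g)

/-- Central matrices of `SL(2, K)` act trivially. -/
theorem act_of_mem_center (m : SpecialLinearGroup (Fin 2) K)
    (h : m ∈ Subgroup.center (SpecialLinearGroup (Fin 2) K)) (x : OnePoint K) :
    SpecialLinearGroup.toGL m • x = x := by
  rw [Matrix.SpecialLinearGroup.mem_center_iff] at h
  obtain ⟨r, hr, hm⟩ := h
  have h10 : m.1 1 0 = 0 := by rw [← hm]; simp
  have h01 : m.1 0 1 = 0 := by rw [← hm]; simp
  have h00 : m.1 0 0 = r := by rw [← hm]; simp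
  have h11 : m.1 1 1 = r := by rw [← hm]; simp
  have hr0 : r ≠ 0 := by
    rintro rfl
    simp at hr
  induction x using OnePoint.rec with
  | infty => rw [sl_infty, if_pos h10]
  | coe x =>
    rw [sl_some, h10, h11, h00, h01, zero_mul, zero_add, if_neg hr0, add_zero,
      mul_div_cancel_left₀ _ hr0]

theorem iso_PSL {G : Type u} [Group G] {Ω : Type v} [MulAction G Ω] (ι : OnePoint K ≃ Ω)
    (hfix3 : ∀ g : G, g • ι ∞ = ι ∞ → g • ι ((0 : K) : OnePoint K) = ι ((0 : K) : OnePoint K) →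
      g • ι ((1 : K) : OnePoint K) = ι ((1 : K) : OnePoint K) → g = 1)
    (htr : ∀ t : K, ∃ g : G, g • ι ∞ = ι ∞ ∧
      ∀ x : K, g • ι (x : OnePoint K) = ι ((x + t : K) : OnePoint K))
    (hdil : ∀ μ : K, μ ≠ 0 → ∃ g : G, g • ι ∞ = ι ∞ ∧
      ∀ x : K, g • ι (x : OnePoint K) = ι ((μ * μ * x : K) : OnePoint K))
    (hinv : ∃ g : G, g • ι ∞ = ι ((0 : K) : OnePoint K) ∧ g • ι ((0 : K) : OnePoint K) = ι ∞ ∧
      ∀ x : K, x ≠ 0 → g • ι (x : OnePoint K) = ι ((-x⁻¹ : K) : OnePoint K))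
    (hstab : ∀ g : G, g • ι ∞ = ι ∞ → g • ι ((0 : K) : OnePoint K) = ι ((0 : K) : OnePoint K) →
      ∃ μ : K, μ ≠ 0 ∧ ∀ x : K, g • ι (x : OnePoint K) = ι ((μ * μ * x : K) : OnePoint K)) :
    Nonempty (G ≃* Matrix.ProjectiveSpecialLinearGroup (Fin 2) K) := by
  let R : G → SpecialLinearGroup (Fin 2) K → Prop :=
    fun g m => ∀ x : OnePoint K, g • ι x = ι (SpecialLinearGroup.toGL m • x)
  have R_mul : ∀ g g' m m', R g m → R g' m' → R (g * g') (m * m') := by
    intro g g' m m' h h' x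
    rw [mul_smul, h' x, h (SpecialLinearGroup.toGL m' • x), map_mul, mul_smul]
  have R_inv : ∀ g m, R g m → R g⁻¹ m⁻¹ := by
    intro g m h x
    rw [inv_smul_eq_iff, h, map_inv, smul_inv_smul]
  have R_T : ∀ t : K, ∃ g, R g (T t) := by
    intro t
    obtain ⟨g, h1, h2⟩ := htr t
    refine ⟨g, fun x => ?_⟩
    induction x using OnePoint.rec with
    | infty => rw [T_infty, h1]
    | coe x => rw [T_some, h2]
  have R_S : ∀ (μ : K) (hμ : μ ≠ 0), ∃ g, R g (S μ hμ) := by
    intro μ hμ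
    obtain ⟨g, h1, h2⟩ := hdil μ hμ
    refine ⟨g, fun x => ?_⟩
    induction x using OnePoint.rec with
    | infty => rw [S_infty, h1]
    | coe x => rw [S_some, h2]
  have R_W : ∃ g, R g (W₀ : SpecialLinearGroup (Fin 2) K) := by
    obtain ⟨g, h1, h2, h3⟩ := hinv
    refine ⟨g, fun x => ?_⟩
    induction x using OnePoint.rec with
    | infty => rw [W₀_infty, h1]
    | coe x =>
      by_cases hx : x = 0
      · subst hx
        rw [W₀_zero, h2]
      · rw [W₀_some x hx, h3 x hx]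
  have R_uniq : ∀ g g' m, R g m → R g' m → g = g' := by
    intro g g' m h h'
    have e : ∀ x : OnePoint K, (g'⁻¹ * g) • ι x = ι x := by
      intro x
      rw [mul_smul, h x, ← h' x, inv_smul_smul]
    have := hfix3 _ (e _) (e _) (e _)
    calc g = g' * (g'⁻¹ * g) := by group
      _ = g' := by rw [this, mul_one]
  have all_m : ∀ m : SpecialLinearGroup (Fin 2) K, ∃ g, R g m := by
    intro m
    by_cases h : m.1 1 0 = 0
    · have h0 : m.1 0 0 ≠ 0 := by
        intro h0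
        have hdet := m.2
        rw [Matrix.det_fin_two, h, h0] at hdet
        simp at hdet
      obtain ⟨g₁, h₁⟩ := R_T (m.1 0 0 * m.1 0 1)
      obtain ⟨g₂, h₂⟩ := R_S (m.1 0 0) h0
      refine ⟨g₁ * g₂, ?_⟩
      rw [bruhat0 m h h0]
      exact R_mul _ _ _ _ h₁ h₂
    · obtain ⟨g₁, h₁⟩ := R_T (m.1 0 0 / m.1 1 0)
      obtain ⟨g₂, h₂⟩ := R_W
      obtain ⟨g₃, h₃⟩ := R_S (m.1 1 0) h
      obtain ⟨g₄, h₄⟩ := R_T (m.1 1 1 / m.1 1 0)
      refine ⟨g₁ * g₂ * g₃ * g₄, ?_⟩
      rw [bruhat1 m h]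
      exact R_mul _ _ _ _ (R_mul _ _ _ _ (R_mul _ _ _ _ h₁ h₂) h₃) h₄
  have all_g_inf : ∀ g : G, g • ι ∞ = ι ∞ → ∃ m, R g m := by
    intro g hg
    have hy : ι.symm (g • ι ((0 : K) : OnePoint K)) ≠ ∞ := by
      intro h
      rw [Equiv.symm_apply_eq, ← hg] at h
      exact OnePoint.infty_ne_coe _ (ι.injective (smul_left_cancel _ h)).symm
    obtain ⟨t, ht⟩ := OnePoint.ne_infty_iff_exists.1 hy
    have ht' : g • ι ((0 : K) : OnePoint K) = ι (t : OnePoint K) := by
      rw [ht, Equiv.apply_symm_apply]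
    obtain ⟨g₁, h₁⟩ := R_T (-t)
    have e1 : (g₁ * g) • ι ∞ = ι ∞ := by
      rw [mul_smul, hg, h₁, T_infty]
    have e2 : (g₁ * g) • ι ((0 : K) : OnePoint K) = ι ((0 : K) : OnePoint K) := by
      rw [mul_smul, ht', h₁, T_some, add_neg_cancel]
    obtain ⟨μ, hμ, hact⟩ := hstab _ e1 e2
    have h₂ : R (g₁ * g) (S μ hμ) := by
      intro x
      induction x using OnePoint.rec with
      | infty => rw [S_infty, e1]
      | coe x => rw [S_some, hact]
    refine ⟨(T (-t))⁻¹ * S μ hμ, ?_⟩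
    have e3 : g = g₁⁻¹ * (g₁ * g) := by group
    rw [e3]
    exact R_mul _ _ _ _ (R_inv _ _ h₁) h₂
  have all_g : ∀ g : G, ∃ m, R g m := by
    intro g
    by_cases hg : g • ι ∞ = ι ∞
    · exact all_g_inf g hg
    · have hy : ι.symm (g • ι ∞) ≠ ∞ := by
        intro h
        rw [Equiv.symm_apply_eq] at h
        exact hg h
      obtain ⟨p, hp⟩ := OnePoint.ne_infty_iff_exists.1 hy
      have hp' : g • ι ∞ = ι (p : OnePoint K) := by
        rw [hp, Equiv.apply_symm_apply]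
      obtain ⟨g₁, h₁⟩ := R_T (-p)
      obtain ⟨g₂, h₂⟩ := R_W
      have e1 : (g₂ * g₁ * g) • ι ∞ = ι ∞ := by
        rw [mul_smul, mul_smul, hp', h₁, T_some, add_neg_cancel, h₂, W₀_zero]
      obtain ⟨m, hm⟩ := all_g_inf _ e1
      refine ⟨(W₀ * T (-p))⁻¹ * m, ?_⟩
      have e3 : g = (g₂ * g₁)⁻¹ * (g₂ * g₁ * g) := by group
      rw [e3]
      exact R_mul _ _ _ _ (R_inv _ _ (R_mul _ _ _ _ h₂ h₁)) hm
  choose φ hφ using all_m
  let Φ : SpecialLinearGroup (Fin 2) K →* G := MonoidHom.mk' φ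
    (fun m m' => R_uniq _ _ _ (hφ (m * m')) (R_mul _ _ _ _ (hφ m) (hφ m')))
  have hsurj : Function.Surjective Φ := by
    intro g
    obtain ⟨m, hm⟩ := all_g g
    exact ⟨m, R_uniq _ _ _ (hφ m) hm⟩
  have hker : Φ.ker = Subgroup.center (SpecialLinearGroup (Fin 2) K) := by
    ext m
    rw [MonoidHom.mem_ker]
    constructor
    · intro h
      have hR := hφ m
      have h' : φ m = 1 := h
      rw [h'] at hR
      apply mem_center_of_act
      intro x
      have := hR x
      rw [one_smul] at this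
      exact (ι.injective this).symm
    · intro h
      have h1 : R 1 m := by
        intro x
        rw [one_smul, act_of_mem_center m h x]
      exact R_uniq _ _ m (hφ m) h1
  exact ⟨((QuotientGroup.quotientMulEquivOfEq hker).symm.trans
    (QuotientGroup.quotientKerEquivOfSurjective Φ hsurj)).symm⟩

end Cfsg.Agent.Lib.Helper52.PSLIso
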