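import Mathlib
import Cfsg.Agent.Lib.Helper52.PSLIso

/-!
Recognising `PSL(2, F)` from an action on the projective line in which the two-point stabiliser
acts by half of the dilations.

`HalfModel G Ω F`: `Ω` is identified with the projective line over the finite field `F`; `G`
contains the translations, every element fixing `∞` and `0` is a dilation `x ↦ s x`, the stabiliser
`H` of `∞` and `0` has `(|F| - 1) / 2` elements, and an involution `w` interchanging `∞` and `0`
inverts `H`.  Then `H` consists of the dilations by squares (`exists_dil`, `isSquare_lam`),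
`w` acts as `x ↦ c₁ / x` on squares and `x ↦ c₂ / x` on non-squares (`exists_c`), and
`G ≃* PSL(2, F)` if `|H|` is odd and `w` has no fixed point (`iso_odd`), or if `|H|` is even and
`w` fixes `1` (`iso_even`).
-/

set_option autoImplicit false

namespace Cfsg.Agent.Lib.Helper52.PSLHalf

open OnePoint

universe u v w

/-- product of two non-squares of a finite field of odd characteristic -/
theorem isSquare_mul_of_not {F : Type*} [Field F] [Fintype F] (hF : ringChar F ≠ 2) {x y : F}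
    (hx : ¬ IsSquare x) (hy : ¬ IsSquare y) : IsSquare (x * y) := by
  have hx0 : x ≠ 0 := by
    rintro rfl
    exact hx ⟨0, by simp⟩
  have hy0 : y ≠ 0 := by
    rintro rfl
    exact hy ⟨0, by simp⟩
  rw [FiniteField.isSquare_iff hF (mul_ne_zero hx0 hy0), mul_pow]
  have h1 := (FiniteField.pow_dichotomy hF hx0).resolve_left
    (fun h => hx ((FiniteField.isSquare_iff hF hx0).2 h))
  have h2 := (FiniteField.pow_dichotomy hF hy0).resolve_left
    (fun h => hy ((FiniteField.isSquare_iff hF hy0).2 h))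
  rw [h1, h2]
  ring

/-- A group acting on the projective line over `F`, containing the translations, whose two-point
stabiliser consists of dilations, has half the size of `Fˣ` and is inverted by an involution
`w` interchanging `∞` and `0`. -/
structure HalfModel (G : Type u) [Group G] (Ω : Type v) [MulAction G Ω] (F : Type w)
    [Field F] where
  ι : OnePoint F ≃ Ω
  hfix : ∀ (g : G) (x y z : Ω), x ≠ y → x ≠ z → y ≠ z → g • x = x → g • y = y → g • z = z → g = 1
  htr : ∀ t : F, ∃ g : G, g • ι ∞ = ι ∞ ∧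
    ∀ x : F, g • ι (x : OnePoint F) = ι ((x + t : F) : OnePoint F)
  hdil : ∀ g : G, g • ι ∞ = ι ∞ → g • ι ((0 : F) : OnePoint F) = ι ((0 : F) : OnePoint F) →
    ∃ s : F, ∀ x : F, g • ι (x : OnePoint F) = ι ((s * x : F) : OnePoint F)
  hcard : Nat.card F = 2 * Nat.card ↥(MulAction.stabilizer G (ι ∞) ⊓
    MulAction.stabilizer G (ι ((0 : F) : OnePoint F))) + 1
  w : G
  hw_inf : w • ι ∞ = ι ((0 : F) : OnePoint F)
  hw_zero : w • ι ((0 : F) : OnePoint F) = ι ∞
  hw2 : w * w = 1
  hwinv : ∀ g : G, g • ι ∞ = ι ∞ → g • ι ((0 : F) : OnePoint F) = ι ((0 : F) : OnePoint F) →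
    w * g * w⁻¹ = g⁻¹

namespace HalfModel

variable {G : Type u} [Group G] {Ω : Type v} [MulAction G Ω] {F : Type w} [Field F]
  (M : HalfModel G Ω F)

/-- the two-point stabiliser -/
def H : Subgroup G :=
  MulAction.stabilizer G (M.ι ∞) ⊓ MulAction.stabilizer G (M.ι ((0 : F) : OnePoint F))

theorem H_inf (g : ↥M.H) : (g : G) • M.ι ∞ = M.ι ∞ := (Subgroup.mem_inf.1 g.2).1

theorem H_zero (g : ↥M.H) :
    (g : G) • M.ι ((0 : F) : OnePoint F) = M.ι ((0 : F) : OnePoint F) :=
  (Subgroup.mem_inf.1 g.2).2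

theorem mem_H {g : G} (h1 : g • M.ι ∞ = M.ι ∞)
    (h2 : g • M.ι ((0 : F) : OnePoint F) = M.ι ((0 : F) : OnePoint F)) : g ∈ M.H :=
  Subgroup.mem_inf.2 ⟨h1, h2⟩

theorem inf_ne_coe (x : F) : M.ι ∞ ≠ M.ι (x : OnePoint F) :=
  fun h => OnePoint.infty_ne_coe x (M.ι.injective h)

theorem coe_ne {x y : F} (h : x ≠ y) : M.ι (x : OnePoint F) ≠ M.ι (y : OnePoint F) :=
  fun h' => h (OnePoint.coe_injective (M.ι.injective h'))

/-- the multiplier of an element of the two-point stabiliser -/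
noncomputable def lam (g : ↥M.H) : F := Classical.choose (M.hdil g (M.H_inf g) (M.H_zero g))

theorem lam_spec (g : ↥M.H) (x : F) :
    (g : G) • M.ι (x : OnePoint F) = M.ι ((M.lam g * x : F) : OnePoint F) :=
  Classical.choose_spec (M.hdil g (M.H_inf g) (M.H_zero g)) x

theorem lam_eq (g : ↥M.H) {s : F}
    (h : (g : G) • M.ι ((1 : F) : OnePoint F) = M.ι (s : OnePoint F)) : M.lam g = s := by
  have := M.lam_spec g 1
  rw [h, mul_one] at this
  exact (OnePoint.coe_injective (M.ι.injective this)).symm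

theorem lam_one : M.lam 1 = 1 := M.lam_eq 1 (by rw [Subgroup.coe_one, one_smul])

theorem lam_mul (g g' : ↥M.H) : M.lam (g * g') = M.lam g * M.lam g' := by
  apply M.lam_eq
  rw [Subgroup.coe_mul, mul_smul, M.lam_spec g' 1, M.lam_spec g, mul_one]

theorem lam_ne_zero (g : ↥M.H) : M.lam g ≠ 0 := by
  intro h
  have h1 := M.lam_spec g 1
  rw [h, zero_mul, ← M.H_zero g] at h1
  exact one_ne_zero (OnePoint.coe_injective (M.ι.injective (smul_left_cancel _ h1)))

/-- the multiplier as a monoid homomorphism -/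
noncomputable def lamHom : ↥M.H →* F where
  toFun := M.lam
  map_one' := M.lam_one
  map_mul' := M.lam_mul

/-- the multiplier as a homomorphism to the unit group -/
noncomputable def lamU : ↥M.H →* Fˣ := M.lamHom.toHomUnits

theorem lamU_coe (g : ↥M.H) : ((M.lamU g : Fˣ) : F) = M.lam g := rfl

theorem lamU_injective : Function.Injective M.lamU := by
  rw [injective_iff_map_eq_one]
  intro g hg
  have h1 : M.lam g = 1 := by rw [← M.lamU_coe, hg, Units.val_one]
  have h2 := M.lam_spec g 1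
  rw [h1, mul_one] at h2
  apply Subtype.ext
  rw [Subgroup.coe_one]
  exact M.hfix g _ _ _ (M.inf_ne_coe 0) (M.inf_ne_coe 1) (M.coe_ne zero_ne_one) (M.H_inf g)
    (M.H_zero g) h2

variable [Fintype F]

theorem finite_H : Finite ↥M.H := Finite.of_injective _ M.lamU_injective

theorem card_F : Fintype.card F = 2 * Nat.card ↥M.H + 1 := by
  rw [← Nat.card_eq_fintype_card]
  exact M.hcard

theorem ringChar_ne_two (M' : HalfModel G Ω F) : ringChar F ≠ 2 := by
  intro h
  have := FiniteField.even_card_of_char_two h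
  rw [M'.card_F] at this
  omega

theorem card_half : Fintype.card F / 2 = Nat.card ↥M.H := by
  rw [M.card_F]
  omega

theorem index_range : M.lamU.range.index = 2 := by
  have := M.finite_H
  have h1 : Nat.card ↥M.lamU.range = Nat.card ↥M.H :=
    (Nat.card_congr (MonoidHom.ofInjective M.lamU_injective).toEquiv).symm
  have h2 : Nat.card Fˣ = 2 * Nat.card ↥M.H := by
    rw [Nat.card_units, Nat.card_eq_fintype_card, M.card_F]
    omega
  have h3 := M.lamU.range.index_mul_card
  rw [h1, h2] at h3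
  have hpos : 0 < Nat.card ↥M.H := Nat.card_pos
  exact Nat.eq_of_mul_eq_mul_right hpos h3

/-- Every dilation by a nonzero square is induced by an element of the two-point stabiliser. -/
theorem exists_dil (μ : F) (hμ : μ ≠ 0) : ∃ g : G, g • M.ι ∞ = M.ι ∞ ∧
    g • M.ι ((0 : F) : OnePoint F) = M.ι ((0 : F) : OnePoint F) ∧
    ∀ x : F, g • M.ι (x : OnePoint F) = M.ι ((μ * μ * x : F) : OnePoint F) := by
  obtain ⟨g, hg⟩ := Subgroup.mul_self_mem_of_index_two M.index_range (Units.mk0 μ hμ)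
  refine ⟨g, M.H_inf g, M.H_zero g, fun x => ?_⟩
  have : M.lam g = μ * μ := by
    rw [← M.lamU_coe, hg]
    rfl
  rw [M.lam_spec, this]

/-- The multipliers are squares. -/
theorem isSquare_lam (g : ↥M.H) : IsSquare (M.lam g) := by
  have := M.finite_H
  rw [FiniteField.isSquare_iff M.ringChar_ne_two (M.lam_ne_zero g), M.card_half]
  have h1 : g ^ Nat.card ↥M.H = 1 := pow_card_eq_one'
  have h2 : M.lamHom (g ^ Nat.card ↥M.H) = M.lam g ^ Nat.card ↥M.H := map_pow M.lamHom g _
  rw [← h2, h1]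
  exact M.lam_one

omit [Fintype F] in
theorem w_inv : M.w⁻¹ = M.w := inv_eq_of_mul_eq_one_right M.hw2

theorem w_sq_mul {s x y : F} (hs0 : s ≠ 0) (hs : IsSquare s)
    (h : M.w • M.ι (x : OnePoint F) = M.ι (y : OnePoint F)) :
    M.w • M.ι ((s * x : F) : OnePoint F) = M.ι ((s⁻¹ * y : F) : OnePoint F) := by
  obtain ⟨μ, rfl⟩ := hs
  have hμ : μ ≠ 0 := by
    rintro rfl
    simp at hs0
  obtain ⟨g, g1, g2, g3⟩ := M.exists_dil μ hμ
  have e1 := M.hwinv g g1 g2
  have e2 : M.w * g = g⁻¹ * M.w := by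
    calc M.w * g = (M.w * g * M.w⁻¹) * M.w := by group
      _ = g⁻¹ * M.w := by rw [e1]
  rw [← g3, smul_smul, e2, mul_smul, h, inv_smul_eq_iff, g3]
  congr 2
  field_simp

omit [Fintype F] in
theorem w_coe (x : F) (hx : x ≠ 0) :
    ∃ y : F, y ≠ 0 ∧ M.w • M.ι (x : OnePoint F) = M.ι (y : OnePoint F) := by
  have h1 : M.w • M.ι (x : OnePoint F) ≠ M.ι ∞ := by
    intro h
    rw [← M.hw_zero] at h
    exact hx (OnePoint.coe_injective (M.ι.injective (smul_left_cancel _ h)))
  have h2 : M.w • M.ι (x : OnePoint F) ≠ M.ι ((0 : F) : OnePoint F) := by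
    intro h
    rw [← M.hw_inf] at h
    exact OnePoint.coe_ne_infty x (M.ι.injective (smul_left_cancel _ h))
  obtain ⟨p, hp⟩ : ∃ p, M.ι p = M.w • M.ι (x : OnePoint F) :=
    ⟨M.ι.symm _, M.ι.apply_symm_apply _⟩
  induction p using OnePoint.rec with
  | infty => exact absurd hp.symm h1
  | coe y =>
    refine ⟨y, ?_, hp.symm⟩
    rintro rfl
    exact h2 hp.symm

/-- `w` acts as `x ↦ c₁ / x` on the squares and as `x ↦ c₂ / x` on the non-squares. -/
theorem exists_c : ∃ c1 c2 : F, c1 ≠ 0 ∧ c2 ≠ 0 ∧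
    (∀ x : F, x ≠ 0 → IsSquare x →
      M.w • M.ι (x : OnePoint F) = M.ι ((c1 / x : F) : OnePoint F)) ∧
    (∀ x : F, ¬ IsSquare x → M.w • M.ι (x : OnePoint F) = M.ι ((c2 / x : F) : OnePoint F)) := by
  have hF := M.ringChar_ne_two
  obtain ⟨c1, hc1, h1⟩ := M.w_coe 1 one_ne_zero
  obtain ⟨n0, hn0⟩ := FiniteField.exists_nonsquare hF
  have hn00 : n0 ≠ 0 := by
    rintro rfl
    exact hn0 ⟨0, by simp⟩
  obtain ⟨d, hd, h2⟩ := M.w_coe n0 hn00
  refine ⟨c1, n0 * d, hc1, mul_ne_zero hn00 hd, ?_, ?_⟩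
  · intro x hx hsq
    have := M.w_sq_mul hx hsq h1
    rw [mul_one] at this
    rw [this]
    congr 2
    rw [div_eq_mul_inv, mul_comm]
  · intro x hx
    have hx0 : x ≠ 0 := by
      rintro rfl
      exact hx ⟨0, by simp⟩
    have hni : ¬ IsSquare n0⁻¹ := by
      rintro ⟨r, hr⟩
      apply hn0
      refine ⟨r⁻¹, ?_⟩
      rw [← mul_inv, ← hr, inv_inv]
    have hsq : IsSquare (x * n0⁻¹) := isSquare_mul_of_not hF hx hni
    have := M.w_sq_mul (mul_ne_zero hx0 (inv_ne_zero hn00)) hsq h2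
    have e : x * n0⁻¹ * n0 = x := by field_simp
    rw [e] at this
    rw [this]
    congr 2
    field_simp

/-- If `w` acts as `x ↦ c / x` with `-c` a square, the group is `PSL(2, F)`. -/
theorem iso_of_c (c : F) (hc : IsSquare (-c))
    (hw : ∀ x : F, x ≠ 0 → M.w • M.ι (x : OnePoint F) = M.ι ((c / x : F) : OnePoint F)) :
    Nonempty (G ≃* Matrix.ProjectiveSpecialLinearGroup (Fin 2) F) := by
  classical
  have hc0 : c ≠ 0 := by
    rintro rfl
    have := hw 1 one_ne_zero
    rw [zero_div, ← M.hw_inf] at this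
    exact OnePoint.coe_ne_infty _ (M.ι.injective (smul_left_cancel _ this))
  obtain ⟨ν, hν⟩ := hc
  have hν0 : ν ≠ 0 := by
    rintro rfl
    rw [mul_zero, neg_eq_zero] at hν
    exact hc0 hν
  obtain ⟨g, g1, g2, g3⟩ := M.exists_dil ν hν0
  apply PSLIso.iso_PSL M.ι
  · intro k k1 k2 k3
    exact M.hfix k _ _ _ (M.inf_ne_coe 0) (M.inf_ne_coe 1) (M.coe_ne zero_ne_one) k1 k2 k3
  · exact M.htr
  · intro μ hμ
    obtain ⟨k, k1, -, k3⟩ := M.exists_dil μ hμ
    exact ⟨k, k1, k3⟩
  · refine ⟨g⁻¹ * M.w, ?_, ?_, ?_⟩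
    · rw [mul_smul, M.hw_inf, inv_smul_eq_iff, g2]
    · rw [mul_smul, M.hw_zero, inv_smul_eq_iff, g1]
    · intro x hx
      rw [mul_smul, hw x hx, inv_smul_eq_iff, g3, ← hν]
      congr 2
      field_simp
  · intro k k1 k2
    obtain ⟨μ, hμ⟩ := M.isSquare_lam ⟨k, M.mem_H k1 k2⟩
    refine ⟨μ, ?_, fun x => ?_⟩
    · rintro rfl
      exact M.lam_ne_zero ⟨k, M.mem_H k1 k2⟩ (by rw [hμ, mul_zero])
    · rw [← hμ]
      exact M.lam_spec ⟨k, M.mem_H k1 k2⟩ x

/-- Odd case: the two-point stabiliser has odd order and `w` has no fixed point. -/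
theorem iso_odd (hodd : Odd (Nat.card ↥M.H)) (hfpf : ∀ x : Ω, M.w • x ≠ x) :
    Nonempty (G ≃* Matrix.ProjectiveSpecialLinearGroup (Fin 2) F) := by
  have hF := M.ringChar_ne_two
  have hneg : ¬ IsSquare (-1 : F) := by
    rw [FiniteField.isSquare_neg_one_iff, M.card_F]
    obtain ⟨k, hk⟩ := hodd
    rw [hk]
    omega
  obtain ⟨c1, c2, hc1, hc2, hsq, hnsq⟩ := M.exists_c
  have hc1n : ¬ IsSquare c1 := by
    rintro ⟨d, hd⟩
    have hd0 : d ≠ 0 := by
      rintro rfl
      exact hc1 (by rw [hd, mul_zero])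
    by_cases hds : IsSquare d
    · have := hsq d hd0 hds
      rw [hd, mul_div_assoc, div_self hd0, mul_one] at this
      exact hfpf _ this
    · have hds' : IsSquare (-d) := by
        have := isSquare_mul_of_not hF hneg hds
        rwa [neg_one_mul] at this
      have := hsq (-d) (neg_ne_zero.2 hd0) hds'
      have e : c1 / -d = -d := by
        rw [hd]
        field_simp
      rw [e] at this
      exact hfpf _ this
  have h3 := hnsq c1 hc1n
  have h4 := hsq 1 one_ne_zero ⟨1, (mul_one 1).symm⟩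
  rw [div_one] at h4
  have h5 : M.w • M.ι (c1 : OnePoint F) = M.ι ((1 : F) : OnePoint F) := by
    rw [← h4, smul_smul, M.hw2, one_smul]
  rw [h5] at h3
  have h6 : c2 / c1 = 1 := (OnePoint.coe_injective (M.ι.injective h3)).symm
  have h7 : c2 = c1 := by rwa [div_eq_one_iff_eq hc1] at h6
  subst h7
  apply M.iso_of_c c2
  · have := isSquare_mul_of_not hF hneg hc1n
    rwa [neg_one_mul] at this
  · intro x hx
    by_cases hxs : IsSquare x
    · exact hsq x hx hxs
    · exact hnsq x hxs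

/-- Even case: the two-point stabiliser has even order and `w` fixes the point `1`. -/
theorem iso_even (heven : Even (Nat.card ↥M.H))
    (hw1 : M.w • M.ι ((1 : F) : OnePoint F) = M.ι ((1 : F) : OnePoint F)) :
    Nonempty (G ≃* Matrix.ProjectiveSpecialLinearGroup (Fin 2) F) := by
  have hF := M.ringChar_ne_two
  have hneg : IsSquare (-1 : F) := by
    rw [FiniteField.isSquare_neg_one_iff, M.card_F]
    obtain ⟨k, hk⟩ := heven
    rw [hk]
    omega
  obtain ⟨c1, c2, hc1, hc2, hsq, hnsq⟩ := M.exists_c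
  have h4 := hsq 1 one_ne_zero ⟨1, (mul_one 1).symm⟩
  rw [div_one, hw1] at h4
  have hc1' : c1 = 1 := (OnePoint.coe_injective (M.ι.injective h4)).symm
  subst hc1'
  obtain ⟨u1, u1a, u1b⟩ := M.htr 1
  obtain ⟨k, ka, kb⟩ := M.htr (-1)
  have hwm1 : M.w • M.ι ((-1 : F) : OnePoint F) = M.ι ((-1 : F) : OnePoint F) := by
    have := hsq (-1) (neg_ne_zero.2 one_ne_zero) hneg
    rw [this]
    congr 2
    field_simp
  obtain ⟨g', hg'⟩ : ∃ g' : G, g' = (u1 * M.w)⁻¹ * (M.w * u1 * M.w) := ⟨_, rfl⟩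
  have g'inf : g' • M.ι ∞ = M.ι ∞ := by
    rw [hg', mul_smul, inv_smul_eq_iff, mul_smul, mul_smul, mul_smul, M.hw_inf, u1b, zero_add,
      hw1]
  have g'zero : g' • M.ι ((0 : F) : OnePoint F) = M.ι ((-1 : F) : OnePoint F) := by
    rw [hg', mul_smul, inv_smul_eq_iff, mul_smul, mul_smul, mul_smul, M.hw_zero, u1a, M.hw_inf,
      hwm1, u1b, neg_add_cancel]
  have hk0 : (k⁻¹ * g') • M.ι ((0 : F) : OnePoint F) = M.ι ((0 : F) : OnePoint F) := by
    rw [mul_smul, g'zero, inv_smul_eq_iff, kb, zero_add]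
  have hkinf : (k⁻¹ * g') • M.ι ∞ = M.ι ∞ := by
    rw [mul_smul, g'inf, inv_smul_eq_iff, ka]
  obtain ⟨s, hs⟩ := M.hdil _ hkinf hk0
  have hrel : ∀ x : F, (M.w * u1 * M.w) • M.ι (x : OnePoint F) =
      (u1 * M.w) • M.ι ((s * x - 1 : F) : OnePoint F) := by
    intro x
    have e1 : g' • M.ι (x : OnePoint F) = M.ι ((s * x - 1 : F) : OnePoint F) := by
      have := hs x
      rw [mul_smul, inv_smul_eq_iff, kb] at this
      rw [this, sub_eq_add_neg]
    have e2 : (M.w * u1 * M.w) = (u1 * M.w) * g' := by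
      rw [hg']
      group
    rw [e2, mul_smul, e1]
  have hs1 : s = -1 := by
    have h := hrel (-1)
    rw [mul_smul, mul_smul, hwm1, u1b, neg_add_cancel, M.hw_zero] at h
    by_contra hne
    have hz : s * -1 - 1 ≠ 0 := by
      intro hz
      apply hne
      linear_combination -hz
    obtain ⟨y, -, hy⟩ := M.w_coe _ hz
    rw [mul_smul, hy, u1b] at h
    exact M.inf_ne_coe _ h
  obtain ⟨n0, hn0⟩ := FiniteField.exists_nonsquare hF
  obtain ⟨a, b, hab⟩ : ∃ a b : F, a * a + b * b = n0 := by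
    obtain ⟨a, b, h⟩ := FiniteField.exists_root_sum_quadratic (f := Polynomial.X ^ 2)
      (g := Polynomial.X ^ 2 - Polynomial.C n0) (Polynomial.degree_X_pow 2)
      (Polynomial.degree_X_pow_sub_C (by norm_num) n0) (FiniteField.odd_card_of_char_ne_two hF)
    refine ⟨a, b, ?_⟩
    simp at h
    linear_combination h
  have ha0 : a ≠ 0 := by
    rintro rfl
    apply hn0
    rw [← hab, mul_zero, zero_add]
    exact ⟨b, rfl⟩
  have hb0 : b ≠ 0 := by
    rintro rfl
    apply hn0
    rw [← hab, mul_zero, add_zero]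
    exact ⟨a, rfl⟩
  obtain ⟨x, hx⟩ : ∃ x : F, x = (b / a) * (b / a) := ⟨_, rfl⟩
  have hxsq : IsSquare x := ⟨b / a, hx⟩
  have hx0 : x ≠ 0 := by
    rw [hx]
    exact mul_ne_zero (div_ne_zero hb0 ha0) (div_ne_zero hb0 ha0)
  have hx1 : ¬ IsSquare (x + 1) := by
    intro h
    apply hn0
    have e : n0 = (x + 1) * (a * a) := by
      rw [hx, ← hab]
      field_simp
      ring
    rw [e]
    exact h.mul ⟨a, rfl⟩
  have hx10 : x + 1 ≠ 0 := by
    intro h
    exact hx1 (by rw [h]; exact ⟨0, by simp⟩)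
  have hxi : ¬ IsSquare (1 / x + 1) := by
    intro h
    apply hx1
    have e : x + 1 = (1 / x + 1) * x := by
      rw [add_mul, one_div, inv_mul_cancel₀ hx0, one_mul, add_comm]
    rw [e]
    exact h.mul hxsq
  have hL : (M.w * u1 * M.w) • M.ι (x : OnePoint F) =
      M.ι ((c2 / (1 / x + 1) : F) : OnePoint F) := by
    rw [mul_smul, mul_smul, hsq x hx0 hxsq, u1b, hnsq _ hxi]
  have hneg' : ¬ IsSquare (s * x - 1) := by
    rw [hs1]
    intro h
    apply hx1
    have e : x + 1 = (-1) * (-1 * x - 1) := by ring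
    rw [e]
    exact hneg.mul h
  have hR : (u1 * M.w) • M.ι ((s * x - 1 : F) : OnePoint F) =
      M.ι ((c2 / (s * x - 1) + 1 : F) : OnePoint F) := by
    rw [mul_smul, hnsq _ hneg', u1b]
  have hfin := hrel x
  rw [hL, hR] at hfin
  have heq : c2 / (1 / x + 1) = c2 / (s * x - 1) + 1 :=
    OnePoint.coe_injective (M.ι.injective hfin)
  have hc2' : c2 = 1 := by
    rw [hs1] at heq
    have e1 : c2 / (1 / x + 1) = c2 * x / (x + 1) := by
      have hh : 1 / x + 1 = (x + 1) / x := by
        rw [add_div, div_self hx0, add_comm]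
      rw [hh, div_div_eq_mul_div]
    have e2 : c2 / (-1 * x - 1) + 1 = (x + 1 - c2) / (x + 1) := by
      have h3 : -1 * x - 1 = -(x + 1) := by ring
      rw [h3, div_neg, sub_div, div_self hx10]
      ring
    rw [e1, e2, div_left_inj' hx10] at heq
    have : c2 * (x + 1) = 1 * (x + 1) := by linear_combination heq
    exact mul_right_cancel₀ hx10 this
  subst hc2'
  apply M.iso_of_c 1 hneg
  intro y hy
  by_cases hys : IsSquare y
  · exact hsq y hy hys
  · exact hnsq y hys

end HalfModel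

end Cfsg.Agent.Lib.Helper52.PSLHalf
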