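import Mathlib
import Cfsg.Agent.Lib.Helper52.PSLHalf
import Cfsg.Agent.Lib.Helper52.S3TField
import Cfsg.Agent.Lib.Helper99.PSLCongr

/-!
The field of a Zassenhaus group whose two-point stabiliser has half the size of `|U| - 1`.

`PConfig G Ω`: only the identity of `G` fixes three points; `U` is an abelian subgroup fixing the
point `a`, regular on the other points and normalised by the stabiliser of `a`; the stabiliser
`H` of `a` and `b` satisfies `|U| = 2 |H| + 1` and is inverted by an involution `w`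
interchanging `a` and `b`.

`PConfig.exists_psl`: if `|H|` is odd and `w` has no fixed point, or `|H|` is even and `w` fixes
a third point, then `G ≃* PSL(2, F)` for a finite field `F` with `|F| = |U|`
(`exists_psl_type0` gives `F : Type`).
-/

set_option autoImplicit false

namespace Cfsg.Agent.Lib.Helper52.PSLField

open OnePoint
open Cfsg.Agent.Lib.Helper52.PSLHalf

universe u v

/-- A finite field is isomorphic to a field in `Type`. -/
theorem field_type0 (F : Type u) [Field F] [Fintype F] :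
    ∃ (K : Type) (_ : Field K) (_ : Fintype K), Fintype.card K = Fintype.card F ∧
      Nonempty (K ≃+* F) := by
  let e : Fin (Fintype.card F) ≃ F := (Fintype.equivFin F).symm
  let _ : Field (Fin (Fintype.card F)) := e.field
  exact ⟨Fin (Fintype.card F), inferInstance, inferInstance, Fintype.card_fin _, ⟨e.ringEquiv⟩⟩

/-- The configuration. -/
structure PConfig (G : Type u) [Group G] (Ω : Type v) [MulAction G Ω] where
  a : Ω
  b : Ω
  hab : a ≠ b
  U : Subgroup G
  u1 : G
  hu1 : u1 ∈ U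
  hu1ne : u1 ≠ 1
  hfix : ∀ (g : G) (x y z : Ω), x ≠ y → x ≠ z → y ≠ z → g • x = x → g • y = y → g • z = z → g = 1
  hUa : ∀ u ∈ U, u • a = a
  hUtr : ∀ x y : Ω, x ≠ a → y ≠ a → ∃ u ∈ U, u • x = y
  hUfree : ∀ u ∈ U, ∀ x : Ω, x ≠ a → u • x = x → u = 1
  hUnorm : ∀ g : G, g • a = a → ∀ u ∈ U, g * u * g⁻¹ ∈ U
  hUcomm : ∀ u ∈ U, ∀ u' ∈ U, u * u' = u' * u
  hcard : Nat.card ↥U = 2 * Nat.card ↥(MulAction.stabilizer G a ⊓ MulAction.stabilizer G b) + 1
  w : G
  hwa : w • a = b
  hwb : w • b = a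
  hw2 : w * w = 1
  hwinv : ∀ h : G, h • a = a → h • b = b → w * h * w⁻¹ = h⁻¹

namespace PConfig

variable {G : Type u} [Group G] {Ω : Type v} [MulAction G Ω] (C : PConfig G Ω)

theorem smul_b_ne_a {u : G} (hu : u ∈ C.U) : u • C.b ≠ C.a := by
  intro h
  have h' : u • C.b = u • C.a := by rw [C.hUa u hu]; exact h
  exact C.hab (smul_left_cancel _ h').symm

theorem smul_b_ne_b {u : G} (hu : u ∈ C.U) (hu1 : u ≠ 1) : u • C.b ≠ C.b :=
  fun h => hu1 (C.hUfree u hu _ (Ne.symm C.hab) h)

theorem finite_group (C : PConfig G Ω) [Finite Ω] : Finite G := by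
  apply Finite.of_injective (fun g : G => (g • C.a, g • C.b, g • (C.u1 • C.b)))
  intro g g' h
  simp only [Prod.mk.injEq] at h
  obtain ⟨h1, h2, h3⟩ := h
  have : g'⁻¹ * g = 1 := C.hfix _ C.a C.b (C.u1 • C.b) C.hab (Ne.symm (C.smul_b_ne_a C.hu1))
    (Ne.symm (C.smul_b_ne_b C.hu1 C.hu1ne))
    (by rw [mul_smul, h1, inv_smul_smul]) (by rw [mul_smul, h2, inv_smul_smul])
    (by rw [mul_smul, h3, inv_smul_smul])
  calc g = g' * (g'⁻¹ * g) := by group
    _ = g' := by rw [this, mul_one]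

theorem conj_mem_U {g u : G} (hg : g • C.a = C.a) (hu : u ∈ C.U) : g * u * g⁻¹ ∈ C.U :=
  C.hUnorm g hg u hu

theorem U_comm {u u' : G} (hu : u ∈ C.U) (hu' : u' ∈ C.U) : u * u' = u' * u :=
  C.hUcomm u hu u' hu'

theorem H_comm {h k : G} (ha : h • C.a = C.a) (hb : h • C.b = C.b)
    (ka : k • C.a = C.a) (kb : k • C.b = C.b) : h * k = k * h :=
  S3TField.comm_of_inverted C.w h k (C.hwinv h ha hb) (C.hwinv k ka kb)
    (C.hwinv (h * k) (by rw [mul_smul, ka, ha]) (by rw [mul_smul, kb, hb]))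

/-- An element of the two-point stabiliser centralising a nonidentity element of `U` is
trivial. -/
theorem H_free {h u : G} (ha : h • C.a = C.a) (hb : h • C.b = C.b) (hu : u ∈ C.U)
    (hu1 : u ≠ 1) (hc : h * u * h⁻¹ = u) : h = 1 := by
  apply C.hfix h C.a C.b (u • C.b) C.hab (Ne.symm (C.smul_b_ne_a hu))
    (Ne.symm (C.smul_b_ne_b hu hu1)) ha hb
  have e : h * u = u * h := by
    calc h * u = (h * u * h⁻¹) * h := by group
      _ = u * h := by rw [hc]
  rw [smul_smul, e, mul_smul, hb]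

/-- Irreducibility: a subgroup of `U` invariant under the two-point stabiliser is trivial or
`U`. -/
theorem irr [Finite Ω] (W : Subgroup G) (hWU : W ≤ C.U)
    (hW : ∀ h : G, h • C.a = C.a → h • C.b = C.b → ∀ u ∈ W, h * u * h⁻¹ ∈ W) :
    W = ⊥ ∨ W = C.U := by
  classical
  have := C.finite_group
  let _ : MulAction ↥(MulAction.stabilizer G C.a ⊓ MulAction.stabilizer G C.b)
      ↥((W : Set G) \ {1}) :=
    { smul := fun h u => ⟨(h : G) * u * (h : G)⁻¹,
        hW h (Subgroup.mem_inf.1 h.2).1 (Subgroup.mem_inf.1 h.2).2 u u.2.1, fun h1 => u.2.2 (by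
          have h1' : (h : G) * u * (h : G)⁻¹ = 1 := h1
          have e : (u : G) = (h : G)⁻¹ * ((h : G) * u * (h : G)⁻¹) * (h : G) := by group
          rw [e, h1']
          simp)⟩
      one_smul := fun u => by
        apply Subtype.ext
        show ((1 : ↥(MulAction.stabilizer G C.a ⊓ MulAction.stabilizer G C.b)) : G) * u *
          ((1 : ↥(MulAction.stabilizer G C.a ⊓ MulAction.stabilizer G C.b)) : G)⁻¹ = u
        simp
      mul_smul := fun h k u => by
        apply Subtype.ext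
        show ((h * k : ↥(MulAction.stabilizer G C.a ⊓ MulAction.stabilizer G C.b)) : G) * u *
          ((h * k : ↥(MulAction.stabilizer G C.a ⊓ MulAction.stabilizer G C.b)) : G)⁻¹ =
          (h : G) * ((k : G) * u * (k : G)⁻¹) * (h : G)⁻¹
        rw [Subgroup.coe_mul]
        group }
  have hfree : ∀ u : ↥((W : Set G) \ {1}),
      MulAction.stabilizer ↥(MulAction.stabilizer G C.a ⊓ MulAction.stabilizer G C.b) u = ⊥ := by
    intro u
    rw [eq_bot_iff]
    intro h hh
    rw [MulAction.mem_stabilizer_iff] at hh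
    have hh' : (h : G) * u * (h : G)⁻¹ = u := congrArg Subtype.val hh
    rw [Subgroup.mem_bot]
    apply Subtype.ext
    rw [Subgroup.coe_one]
    exact C.H_free (Subgroup.mem_inf.1 h.2).1 (Subgroup.mem_inf.1 h.2).2 (hWU u.2.1) u.2.2 hh'
  have hdvd : Nat.card ↥(MulAction.stabilizer G C.a ⊓ MulAction.stabilizer G C.b) ∣
      Nat.card ↥((W : Set G) \ {1}) := by
    have e := MulAction.selfEquivOrbitsQuotientProd hfree
    rw [Nat.card_congr e, Nat.card_prod]
    exact dvd_mul_left _ _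
  have hcW : Nat.card ↥((W : Set G) \ {1}) + 1 = Nat.card ↥W := by
    rw [Nat.card_coe_set_eq, Set.ncard_sdiff_singleton_add_one W.one_mem (Set.toFinite _)]
    exact (Nat.card_coe_set_eq _).symm
  have hWd : Nat.card ↥W ∣ Nat.card ↥C.U := Subgroup.card_dvd_of_le hWU
  have hpos : 0 < Nat.card ↥(MulAction.stabilizer G C.a ⊓ MulAction.stabilizer G C.b) :=
    Nat.card_pos
  have hUc := C.hcard
  obtain ⟨k, hk⟩ := hdvd
  obtain ⟨j, hj⟩ := hWd
  rcases Nat.lt_or_ge k 1 with hk0 | hk1
  · left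
    have hk0' : k = 0 := by omega
    rw [hk0', mul_zero] at hk
    apply Subgroup.eq_bot_of_card_eq
    omega
  · right
    rcases Nat.lt_or_ge k 2 with hk2 | hk2
    · exfalso
      have hk1' : k = 1 := by omega
      rw [hk1', mul_one] at hk
      have hj' : (Nat.card ↥(MulAction.stabilizer G C.a ⊓ MulAction.stabilizer G C.b) + 1) * j =
          2 * Nat.card ↥(MulAction.stabilizer G C.a ⊓ MulAction.stabilizer G C.b) + 1 := by
        rw [← hUc, hj, ← hcW, hk]
      have hj1 : j ≤ 1 := by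
        by_contra hcon
        have : 2 ≤ j := by omega
        nlinarith
      interval_cases j <;> omega
    · apply Subgroup.eq_of_le_of_card_ge hWU
      have : 2 * Nat.card ↥(MulAction.stabilizer G C.a ⊓ MulAction.stabilizer G C.b) ≤
          Nat.card ↥(MulAction.stabilizer G C.a ⊓ MulAction.stabilizer G C.b) * k :=
        by nlinarith
      omega

/-- the commutative group structure on `U` -/
@[reducible] def commGroupU : CommGroup ↥C.U :=
  { (inferInstance : Group ↥C.U) with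
    mul_comm := fun x y => Subtype.ext (C.U_comm x.2 y.2) }

attribute [local instance] commGroupU

/-- conjugation by an element of the stabiliser of `a`, on `U` -/
def conjHom (h : G) (hh : h • C.a = C.a) : ↥C.U →* ↥C.U where
  toFun x := ⟨h * x * h⁻¹, C.conj_mem_U hh x.2⟩
  map_one' := by
    apply Subtype.ext
    simp
  map_mul' := by
    intro x y
    apply Subtype.ext
    simp

/-- conjugation as an additive endomorphism -/
def conjEnd (h : G) (hh : h • C.a = C.a) : AddMonoid.End (Additive ↥C.U) :=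
  MonoidHom.toAdditive (C.conjHom h hh)

theorem End_add_apply (ψ₁ ψ₂ : AddMonoid.End (Additive ↥C.U)) (x : Additive ↥C.U) :
    (ψ₁ + ψ₂) x = ψ₁ x + ψ₂ x := rfl

theorem End_neg_apply (ψ : AddMonoid.End (Additive ↥C.U)) (x : Additive ↥C.U) :
    (-ψ) x = -(ψ x) := rfl

theorem End_mul_apply (ψ₁ ψ₂ : AddMonoid.End (Additive ↥C.U)) (x : Additive ↥C.U) :
    (ψ₁ * ψ₂) x = ψ₁ (ψ₂ x) := rfl

theorem conjEnd_apply (h : G) (hh : h • C.a = C.a) (x : Additive ↥C.U) :
    C.conjEnd h hh x = Additive.ofMul (C.conjHom h hh (Additive.toMul x)) := rfl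

theorem conjHom_coe (h : G) (hh : h • C.a = C.a) (x : ↥C.U) :
    ((C.conjHom h hh x : ↥C.U) : G) = h * x * h⁻¹ := rfl

theorem conjEnd_congr {h h' : G} (e : h = h') (hh : h • C.a = C.a) (hh' : h' • C.a = C.a) :
    C.conjEnd h hh = C.conjEnd h' hh' := by
  subst e
  rfl

theorem conjEnd_one : C.conjEnd 1 (one_smul G C.a) = 1 := by
  apply AddMonoid.End.ext
  intro x
  rw [conjEnd_apply]
  show Additive.ofMul (C.conjHom 1 (one_smul G C.a) (Additive.toMul x)) = x
  have : C.conjHom 1 (one_smul G C.a) (Additive.toMul x) = Additive.toMul x := by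
    apply Subtype.ext
    rw [conjHom_coe]
    group
  rw [this]
  rfl

theorem conjEnd_mul (h k : G) (hh : h • C.a = C.a) (hk : k • C.a = C.a)
    (hhk : (h * k) • C.a = C.a) :
    C.conjEnd (h * k) hhk = C.conjEnd h hh * C.conjEnd k hk := by
  apply AddMonoid.End.ext
  intro x
  show C.conjEnd (h * k) hhk x = C.conjEnd h hh (C.conjEnd k hk x)
  rw [conjEnd_apply, conjEnd_apply, conjEnd_apply]
  congr 1
  apply Subtype.ext
  rw [conjHom_coe, conjHom_coe]
  show h * k * ((Additive.toMul x : ↥C.U) : G) * (h * k)⁻¹ =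
    h * (k * ((Additive.toMul x : ↥C.U) : G) * k⁻¹) * h⁻¹
  group

theorem conj_comm {g m : G} (ga : g • C.a = C.a) (gb : g • C.b = C.b)
    (ma : m • C.a = C.a) (mb : m • C.b = C.b) (x : Additive ↥C.U) :
    C.conjEnd g ga (C.conjEnd m ma x) = C.conjEnd m ma (C.conjEnd g ga x) := by
  have hgm : (g * m) • C.a = C.a := by rw [mul_smul, ma, ga]
  have hmg : (m * g) • C.a = C.a := by rw [mul_smul, ga, ma]
  have e1 : C.conjEnd g ga (C.conjEnd m ma x) = C.conjEnd (g * m) hgm x := by
    rw [conjEnd_mul C g m ga ma hgm]; rfl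
  have e2 : C.conjEnd m ma (C.conjEnd g ga x) = C.conjEnd (m * g) hmg x := by
    rw [conjEnd_mul C m g ma ga hmg]; rfl
  rw [e1, e2, conjEnd_congr C (C.H_comm ga gb ma mb) hgm hmg]

/-- the field: the endomorphisms of `U` commuting with the two-point stabiliser -/
def E : Subring (AddMonoid.End (Additive ↥C.U)) where
  carrier := {ψ | ∀ (h : G) (ha : h • C.a = C.a), h • C.b = C.b →
    ∀ x : Additive ↥C.U, ψ (C.conjEnd h ha x) = C.conjEnd h ha (ψ x)}
  mul_mem' := by
    intro ψ₁ ψ₂ h₁ h₂ h ha hb x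
    rw [C.End_mul_apply, C.End_mul_apply, h₂ h ha hb, h₁ h ha hb]
  one_mem' := by
    intro h ha hb x
    rfl
  add_mem' := by
    intro ψ₁ ψ₂ h₁ h₂ h ha hb x
    rw [C.End_add_apply, C.End_add_apply, map_add, h₁ h ha hb, h₂ h ha hb]
  zero_mem' := by
    intro h ha hb x
    show (0 : Additive ↥C.U) = C.conjEnd h ha 0
    rw [map_zero]
  neg_mem' := by
    intro ψ h₁ h ha hb x
    rw [C.End_neg_apply, C.End_neg_apply, map_neg, h₁ h ha hb]

theorem mem_E {ψ : AddMonoid.End (Additive ↥C.U)} : ψ ∈ C.E ↔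
    ∀ (h : G) (ha : h • C.a = C.a), h • C.b = C.b →
      ∀ x : Additive ↥C.U, ψ (C.conjEnd h ha x) = C.conjEnd h ha (ψ x) := Iff.rfl

theorem conjEnd_mem {h : G} (ha : h • C.a = C.a) (hb : h • C.b = C.b) : C.conjEnd h ha ∈ C.E := by
  intro k ka kb x
  exact C.conj_comm ha hb ka kb x

/-- the kernel of an endomorphism, as a subgroup of `G` -/
def kerSub (ψ : AddMonoid.End (Additive ↥C.U)) : Subgroup G where
  carrier := {g | ∃ hg : g ∈ C.U, ψ (Additive.ofMul (⟨g, hg⟩ : ↥C.U)) = 0}
  mul_mem' := by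
    rintro x y ⟨hx, hx0⟩ ⟨hy, hy0⟩
    refine ⟨C.U.mul_mem hx hy, ?_⟩
    have : (Additive.ofMul (⟨x * y, C.U.mul_mem hx hy⟩ : ↥C.U)) =
        Additive.ofMul (⟨x, hx⟩ : ↥C.U) + Additive.ofMul (⟨y, hy⟩ : ↥C.U) := rfl
    rw [this, map_add, hx0, hy0, add_zero]
  one_mem' := ⟨C.U.one_mem, map_zero ψ⟩
  inv_mem' := by
    rintro x ⟨hx, hx0⟩
    refine ⟨C.U.inv_mem hx, ?_⟩
    have : (Additive.ofMul (⟨x⁻¹, C.U.inv_mem hx⟩ : ↥C.U)) =
        -Additive.ofMul (⟨x, hx⟩ : ↥C.U) := rfl
    rw [this, map_neg, hx0, neg_zero]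

/-- Nonzero elements of the field are injective. -/
theorem eq_zero_of_apply [Finite Ω] {ψ : AddMonoid.End (Additive ↥C.U)} (hψ : ψ ∈ C.E)
    (h0 : ψ ≠ 0) {x : Additive ↥C.U} (hx : ψ x = 0) : x = 0 := by
  have hW : C.kerSub ψ = ⊥ ∨ C.kerSub ψ = C.U := by
    apply C.irr
    · rintro g ⟨hg, -⟩
      exact hg
    · rintro h ha hb u ⟨hu, hu0⟩
      refine ⟨C.conj_mem_U ha hu, ?_⟩
      have e : (Additive.ofMul (⟨h * u * h⁻¹, C.conj_mem_U ha hu⟩ : ↥C.U)) =
          C.conjEnd h ha (Additive.ofMul (⟨u, hu⟩ : ↥C.U)) := rfl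
      rw [e, hψ h ha hb, hu0, map_zero]
  rcases hW with hW | hW
  · have hmem : ((Additive.toMul x : ↥C.U) : G) ∈ C.kerSub ψ := ⟨(Additive.toMul x).2, hx⟩
    rw [hW, Subgroup.mem_bot] at hmem
    have : Additive.toMul x = 1 := Subtype.ext hmem
    exact this
  · exfalso
    apply h0
    apply AddMonoid.End.ext
    intro y
    have hmem : ((Additive.toMul y : ↥C.U) : G) ∈ C.kerSub ψ := by
      rw [hW]
      exact (Additive.toMul y).2
    obtain ⟨_, hy⟩ := hmem
    exact hy

theorem zero_ne_one_E : (0 : ↥C.E) ≠ 1 := by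
  intro h
  have h' : (0 : AddMonoid.End (Additive ↥C.U)) = 1 := congrArg Subtype.val h
  have h'' := DFunLike.congr_fun h' (Additive.ofMul (⟨C.u1, C.hu1⟩ : ↥C.U))
  apply C.hu1ne
  have h3 : (1 : ↥C.U) = ⟨C.u1, C.hu1⟩ := h''
  exact (congrArg Subtype.val h3).symm

theorem finite_E [Finite Ω] : Finite ↥C.E := by
  have := C.finite_group
  apply Finite.of_injective (fun ψ : ↥C.E => ((ψ : AddMonoid.End (Additive ↥C.U)) :
    Additive ↥C.U → Additive ↥C.U))
  intro ψ ψ' h
  apply Subtype.ext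
  apply AddMonoid.End.ext
  intro x
  exact congrFun h x

theorem isField [Finite Ω] : IsField ↥C.E := by
  have := C.finite_E
  have : Nontrivial ↥C.E := ⟨⟨0, 1, C.zero_ne_one_E⟩⟩
  have : NoZeroDivisors ↥C.E := by
    constructor
    intro x y hxy
    by_cases hx : x = 0
    · exact Or.inl hx
    · right
      apply Subtype.ext
      apply AddMonoid.End.ext
      intro z
      have h1 : ((x * y : ↥C.E) : AddMonoid.End (Additive ↥C.U)) z = 0 := by
        rw [hxy]
        rfl
      have h2 : (x : AddMonoid.End (Additive ↥C.U)) ((y : AddMonoid.End (Additive ↥C.U)) z) = 0 :=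
        h1
      exact C.eq_zero_of_apply x.2 (fun h => hx (Subtype.ext h)) h2
  have : IsDomain ↥C.E := NoZeroDivisors.to_isDomain _
  exact Finite.isDomain_to_isField _

/-- the base element of `U` -/
def u1' : ↥C.U := ⟨C.u1, C.hu1⟩

/-- evaluation at the base element: a bijection from the field onto `U` -/
def ev (ψ : ↥C.E) : ↥C.U :=
  Additive.toMul ((ψ : AddMonoid.End (Additive ↥C.U)) (Additive.ofMul C.u1'))

theorem ev_zero : C.ev 0 = 1 := rfl

theorem ev_one : C.ev 1 = C.u1' := rfl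

theorem ev_add (x y : ↥C.E) : C.ev (x + y) = C.ev x * C.ev y := rfl

theorem ev_neg (x : ↥C.E) : C.ev (-x) = (C.ev x)⁻¹ := rfl

/-- the multiplier of an element of the two-point stabiliser -/
def lam (h : G) (ha : h • C.a = C.a) (hb : h • C.b = C.b) : ↥C.E :=
  ⟨C.conjEnd h ha, C.conjEnd_mem ha hb⟩

theorem ev_lam_mul (h : G) (ha : h • C.a = C.a) (hb : h • C.b = C.b) (y : ↥C.E) :
    ((C.ev (C.lam h ha hb * y) : ↥C.U) : G) = h * (C.ev y : ↥C.U) * h⁻¹ := rfl

theorem ev_injective [Finite Ω] : Function.Injective C.ev := by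
  intro ψ ψ' h
  by_contra hne
  have hd : ((ψ + -ψ' : ↥C.E) : AddMonoid.End (Additive ↥C.U)) ≠ 0 := by
    intro h0
    apply hne
    have h0' : ψ + -ψ' = 0 := Subtype.ext h0
    calc ψ = ψ + -ψ' + ψ' := by abel
      _ = ψ' := by rw [h0', zero_add]
  have hz : ((ψ + -ψ' : ↥C.E) : AddMonoid.End (Additive ↥C.U)) (Additive.ofMul C.u1') = 0 := by
    show (ψ : AddMonoid.End (Additive ↥C.U)) (Additive.ofMul C.u1') +
      -((ψ' : AddMonoid.End (Additive ↥C.U)) (Additive.ofMul C.u1')) = 0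
    have h' : (ψ : AddMonoid.End (Additive ↥C.U)) (Additive.ofMul C.u1') =
        (ψ' : AddMonoid.End (Additive ↥C.U)) (Additive.ofMul C.u1') := h
    rw [h', add_neg_cancel]
  have := C.eq_zero_of_apply (ψ + -ψ').2 hd hz
  apply C.hu1ne
  have h3 : C.u1' = 1 := this
  exact congrArg Subtype.val h3

/-- the image of the evaluation, as a subgroup of `G` -/
def imgSub : Subgroup G where
  carrier := {g | ∃ ψ : ↥C.E, ((C.ev ψ : ↥C.U) : G) = g}
  mul_mem' := by
    rintro x y ⟨ψ, rfl⟩ ⟨ψ', rfl⟩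
    exact ⟨ψ + ψ', by rw [ev_add]; rfl⟩
  one_mem' := ⟨0, by rw [ev_zero]; rfl⟩
  inv_mem' := by
    rintro x ⟨ψ, rfl⟩
    exact ⟨-ψ, by rw [ev_neg]; rfl⟩

theorem ev_surjective [Finite Ω] : Function.Surjective C.ev := by
  have hW : C.imgSub = ⊥ ∨ C.imgSub = C.U := by
    apply C.irr
    · rintro g ⟨ψ, rfl⟩
      exact (C.ev ψ).2
    · rintro h ha hb u ⟨ψ, rfl⟩
      exact ⟨C.lam h ha hb * ψ, C.ev_lam_mul h ha hb ψ⟩
  rcases hW with hW | hW
  · exfalso
    have hmem : C.u1 ∈ C.imgSub := ⟨1, rfl⟩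
    rw [hW, Subgroup.mem_bot] at hmem
    exact C.hu1ne hmem
  · intro u
    have hmem : (u : G) ∈ C.imgSub := by
      rw [hW]
      exact u.2
    obtain ⟨ψ, hψ⟩ := hmem
    exact ⟨ψ, Subtype.ext hψ⟩

/-- the identification of the projective line over the field with `Ω` -/
noncomputable def iotaFun : OnePoint ↥C.E → Ω :=
  fun p => p.elim C.a (fun ψ => ((C.ev ψ : ↥C.U) : G) • C.b)

theorem iotaFun_infty : C.iotaFun ∞ = C.a := rfl

theorem iotaFun_coe (ψ : ↥C.E) :
    C.iotaFun (ψ : OnePoint ↥C.E) = ((C.ev ψ : ↥C.U) : G) • C.b := rfl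

theorem iotaFun_bijective [Finite Ω] : Function.Bijective C.iotaFun := by
  constructor
  · intro p q h
    induction p using OnePoint.rec with
    | infty =>
      induction q using OnePoint.rec with
      | infty => rfl
      | coe q =>
        rw [iotaFun_infty, iotaFun_coe] at h
        exact absurd h.symm (C.smul_b_ne_a (C.ev q).2)
    | coe p =>
      induction q using OnePoint.rec with
      | infty =>
        rw [iotaFun_infty, iotaFun_coe] at h
        exact absurd h (C.smul_b_ne_a (C.ev p).2)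
      | coe q =>
        rw [iotaFun_coe, iotaFun_coe] at h
        have hmem : ((C.ev q : ↥C.U) : G)⁻¹ * (C.ev p : ↥C.U) ∈ C.U :=
          C.U.mul_mem (C.U.inv_mem (C.ev q).2) (C.ev p).2
        have hfix : (((C.ev q : ↥C.U) : G)⁻¹ * (C.ev p : ↥C.U)) • C.b = C.b := by
          rw [mul_smul, h, inv_smul_smul]
        have h1 := C.hUfree _ hmem _ (Ne.symm C.hab) hfix
        have h2 : C.ev p = C.ev q := by
          apply Subtype.ext
          calc ((C.ev p : ↥C.U) : G)
              = (C.ev q : ↥C.U) * (((C.ev q : ↥C.U) : G)⁻¹ * (C.ev p : ↥C.U)) := by group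
            _ = (C.ev q : ↥C.U) := by rw [h1, mul_one]
        rw [C.ev_injective h2]
  · intro y
    by_cases hy : y = C.a
    · exact ⟨∞, by rw [hy]; rfl⟩
    · obtain ⟨u, hu, huy⟩ := C.hUtr C.b y (Ne.symm C.hab) hy
      obtain ⟨ψ, hψ⟩ := C.ev_surjective ⟨u, hu⟩
      refine ⟨(ψ : OnePoint ↥C.E), ?_⟩
      rw [iotaFun_coe, hψ]
      exact huy

/-- the identification as an equivalence -/
noncomputable def iota [Finite Ω] : OnePoint ↥C.E ≃ Ω :=
  Equiv.ofBijective C.iotaFun C.iotaFun_bijective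

theorem iota_infty [Finite Ω] : C.iota ∞ = C.a := rfl

theorem iota_coe [Finite Ω] (ψ : ↥C.E) :
    C.iota (ψ : OnePoint ↥C.E) = ((C.ev ψ : ↥C.U) : G) • C.b := rfl

theorem iota_zero [Finite Ω] : C.iota ((0 : ↥C.E) : OnePoint ↥C.E) = C.b := by
  rw [iota_coe, ev_zero]
  exact one_smul G C.b

theorem iota_one [Finite Ω] : C.iota ((1 : ↥C.E) : OnePoint ↥C.E) = C.u1 • C.b := by
  rw [iota_coe, ev_one]
  rfl

theorem tr_action [Finite Ω] (t x : ↥C.E) :
    ((C.ev t : ↥C.U) : G) • C.iota (x : OnePoint ↥C.E) =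
      C.iota ((x + t : ↥C.E) : OnePoint ↥C.E) := by
  rw [iota_coe, iota_coe, ev_add, smul_smul]
  congr 1
  exact C.U_comm (C.ev t).2 (C.ev x).2

theorem dil_action [Finite Ω] (x : ↥C.E) {h : G} (ha : h • C.a = C.a) (hb : h • C.b = C.b) :
    h • C.iota (x : OnePoint ↥C.E) = C.iota ((C.lam h ha hb * x : ↥C.E) : OnePoint ↥C.E) := by
  rw [iota_coe, iota_coe, C.ev_lam_mul h ha hb x, mul_smul, mul_smul,
    inv_smul_eq_iff.2 hb.symm]

theorem card_E [Finite Ω] : Nat.card ↥C.E = Nat.card ↥C.U :=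
  Nat.card_eq_of_bijective C.ev ⟨C.ev_injective, C.ev_surjective⟩

/-- **Main theorem**: the group of a `PConfig` is `PSL(2, F)` for a finite field `F` of the size
of `U`, if `|H|` is odd and `w` has no fixed point, or `|H|` is even and `w` fixes the point
`u₁ • b`. -/
theorem exists_psl [Finite Ω]
    (hcase : (Odd (Nat.card ↥(MulAction.stabilizer G C.a ⊓ MulAction.stabilizer G C.b)) ∧
        ∀ x : Ω, C.w • x ≠ x) ∨
      (Even (Nat.card ↥(MulAction.stabilizer G C.a ⊓ MulAction.stabilizer G C.b)) ∧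
        C.w • (C.u1 • C.b) = C.u1 • C.b)) :
    ∃ (F : Type u) (_ : Field F) (_ : Fintype F),
      Fintype.card F = Nat.card ↥C.U ∧
      Nonempty (G ≃* Matrix.ProjectiveSpecialLinearGroup (Fin 2) F) := by
  classical
  let _ : Field ↥C.E := C.isField.toField
  have hfin := C.finite_E
  let _ : Fintype ↥C.E := Fintype.ofFinite _
  refine ⟨↥C.E, inferInstance, inferInstance, ?_, ?_⟩
  · rw [← Nat.card_eq_fintype_card]
    exact C.card_E
  · let M : HalfModel G Ω ↥C.E :=
      { ι := C.iota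
        hfix := C.hfix
        htr := by
          intro t
          refine ⟨((C.ev t : ↥C.U) : G), ?_, fun x => C.tr_action t x⟩
          rw [C.iota_infty]
          exact C.hUa _ (C.ev t).2
        hdil := by
          intro g g1 g2
          rw [C.iota_infty] at g1
          have g2' : g • C.b = C.b := by
            have := g2
            rw [C.iota_zero] at this
            exact this
          exact ⟨C.lam g g1 g2', fun x => C.dil_action x g1 g2'⟩
        hcard := by
          have h1 : C.iota ((0 : ↥C.E) : OnePoint ↥C.E) = C.b := C.iota_zero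
          rw [h1, C.iota_infty, C.card_E]
          exact C.hcard
        w := C.w
        hw_inf := by
          have h1 : C.iota ((0 : ↥C.E) : OnePoint ↥C.E) = C.b := C.iota_zero
          rw [h1, C.iota_infty]
          exact C.hwa
        hw_zero := by
          have h1 : C.iota ((0 : ↥C.E) : OnePoint ↥C.E) = C.b := C.iota_zero
          rw [h1, C.iota_infty]
          exact C.hwb
        hw2 := C.hw2
        hwinv := by
          intro g g1 g2
          rw [C.iota_infty] at g1
          have g2' : g • C.b = C.b := by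
            have := g2
            rw [C.iota_zero] at this
            exact this
          exact C.hwinv g g1 g2' }
    have hH : M.H = MulAction.stabilizer G C.a ⊓ MulAction.stabilizer G C.b := by
      have h1 : C.iota ((0 : ↥C.E) : OnePoint ↥C.E) = C.b := C.iota_zero
      show MulAction.stabilizer G (C.iota ∞) ⊓
        MulAction.stabilizer G (C.iota ((0 : ↥C.E) : OnePoint ↥C.E)) = _
      rw [h1, C.iota_infty]
    rcases hcase with ⟨hodd, hfpf⟩ | ⟨heven, hwc⟩
    · apply M.iso_odd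
      · rw [hH]
        exact hodd
      · exact hfpf
    · apply M.iso_even
      · rw [hH]
        exact heven
      · have h1 : C.iota ((1 : ↥C.E) : OnePoint ↥C.E) = C.u1 • C.b := C.iota_one
        show C.w • C.iota ((1 : ↥C.E) : OnePoint ↥C.E) = C.iota ((1 : ↥C.E) : OnePoint ↥C.E)
        rw [h1]
        exact hwc

/-- The same with the field in `Type`. -/
theorem exists_psl_type0 [Finite Ω]
    (hcase : (Odd (Nat.card ↥(MulAction.stabilizer G C.a ⊓ MulAction.stabilizer G C.b)) ∧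
        ∀ x : Ω, C.w • x ≠ x) ∨
      (Even (Nat.card ↥(MulAction.stabilizer G C.a ⊓ MulAction.stabilizer G C.b)) ∧
        C.w • (C.u1 • C.b) = C.u1 • C.b)) :
    ∃ (K : Type) (_ : Field K) (_ : Fintype K),
      Fintype.card K = Nat.card ↥C.U ∧
      Nonempty (G ≃* Matrix.ProjectiveSpecialLinearGroup (Fin 2) K) := by
  obtain ⟨F, _, _, hcard, ⟨iso⟩⟩ := C.exists_psl hcase
  obtain ⟨K, _, _, hK, ⟨e⟩⟩ := field_type0 F
  exact ⟨K, inferInstance, inferInstance, hK.trans hcard,
    ⟨iso.trans (Cfsg.Agent.Lib.Helper99.PSLCongr.pslCongr e).symm⟩⟩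

end PConfig

end Cfsg.Agent.Lib.Helper52.PSLField
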