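import Mathlib

set_option autoImplicit false
set_option linter.unusedSectionVars false

namespace Cfsg.Agent.Lib.Helper52.KleinFusion

variable {G : Type*} [Group G] [Finite G]

theorem mem_smul_iff (g x : G) (Q : Sylow 2 G) :
    x ∈ ((g • Q : Sylow 2 G) : Subgroup G) ↔ g⁻¹ * x * g ∈ (Q : Subgroup G) := by
  rw [Sylow.coe_subgroup_smul, Subgroup.mem_pointwise_smul_iff_inv_smul_mem]
  simp [MulAut.smul_def]

theorem conj_mem_of_mem_normalizer (P : Sylow 2 G) (n x : G)
    (hn : n ∈ Subgroup.normalizer (P : Set G)) (hx : x ∈ (P : Subgroup G)) :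
    n * x * n⁻¹ ∈ (P : Subgroup G) :=
  (Subgroup.mem_normalizer_iff.1 hn x).1 hx

theorem orderOf_conj' (n x : G) : orderOf (n * x * n⁻¹) = orderOf x :=
  MulEquiv.orderOf_eq (MulAut.conj n) x

/-- A 2-element of the normalizer of a Sylow 2-subgroup lies in it. -/
theorem mem_of_pow_two (P : Sylow 2 G) (n : G) (hn : n ∈ Subgroup.normalizer (P : Set G))
    (e : ℕ) (he : n ^ (2 ^ e) = 1) : n ∈ (P : Subgroup G) := by
  have hQ : IsPGroup 2 (Subgroup.zpowers n) := by
    apply IsPGroup.of_card_dvd_pow (n := e)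
    rw [Nat.card_zpowers]
    exact orderOf_dvd_of_pow_eq_one he
  have h := IsPGroup.inf_normalizer_sylow hQ P
  have h1 : n ∈ Subgroup.zpowers n ⊓ Subgroup.normalizer (P : Set G) :=
    ⟨Subgroup.mem_zpowers n, hn⟩
  rw [h] at h1
  exact h1.2

theorem exists_odd_pow_mem (P : Sylow 2 G) (n : G) (hn : n ∈ Subgroup.normalizer (P : Set G)) :
    ∃ k : ℕ, Odd k ∧ n ^ k ∈ (P : Subgroup G) := by
  have hpos : orderOf n ≠ 0 := (orderOf_pos n).ne'
  obtain ⟨e, k, hk, hek⟩ := Nat.exists_eq_two_pow_mul_odd hpos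
  refine ⟨k, hk, mem_of_pow_two P (n ^ k) (Subgroup.pow_mem _ hn k) e ?_⟩
  rw [← pow_mul, mul_comm, ← hek, pow_orderOf_eq_one]

/-- Every involution is conjugate into a given Sylow 2-subgroup. -/
theorem exists_conj_mem (P : Sylow 2 G) (t : G) (ht : orderOf t = 2) :
    ∃ g : G, g * t * g⁻¹ ∈ (P : Subgroup G) := by
  have hQ : IsPGroup 2 (Subgroup.zpowers t) := by
    apply IsPGroup.of_card_dvd_pow (n := 1)
    rw [Nat.card_zpowers, ht, pow_one]
  obtain ⟨Q, hQ'⟩ := hQ.exists_le_sylow
  obtain ⟨g, hg⟩ := MulAction.exists_smul_eq G Q P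
  refine ⟨g, ?_⟩
  rw [← hg, mem_smul_iff]
  have : g⁻¹ * (g * t * g⁻¹) * g = t := by group
  rw [this]
  exact hQ' (Subgroup.mem_zpowers t)

/-- The data: an abelian Sylow 2-subgroup with exactly three involutions `a`, `b`, `c`. -/
structure Omega (P : Sylow 2 G) (a b c : G) : Prop where
  comm : ∀ x ∈ (P : Subgroup G), ∀ y ∈ (P : Subgroup G), x * y = y * x
  ha : a ∈ (P : Subgroup G)
  hb : b ∈ (P : Subgroup G)
  hc : c ∈ (P : Subgroup G)
  oa : orderOf a = 2
  ob : orderOf b = 2
  oc : orderOf c = 2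
  hab : a ≠ b
  hac : a ≠ c
  hbc : b ≠ c
  all : ∀ x ∈ (P : Subgroup G), orderOf x = 2 → x = a ∨ x = b ∨ x = c

theorem sq_eq_one_of_order_two {x : G} (hx : orderOf x = 2) : x * x = 1 := by
  rw [← pow_two, ← hx, pow_orderOf_eq_one]

theorem conj_inj (n x y : G) (h : n * x * n⁻¹ = n * y * n⁻¹) : x = y := by
  have := congrArg (fun z => n⁻¹ * z * n) h
  simpa [mul_assoc] using this

theorem conj_pow_two (n x : G) (j : ℕ) (h : n * (n * x * n⁻¹) * n⁻¹ = x) :
    n ^ (2 * j) * x * (n ^ (2 * j))⁻¹ = x := by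
  induction j with
  | zero => simp
  | succ j ih =>
    have e : n ^ (2 * (j + 1)) = n ^ (2 * j) * (n * n) := by
      rw [mul_add, pow_add]; simp [pow_two]
    rw [e]
    calc n ^ (2 * j) * (n * n) * x * (n ^ (2 * j) * (n * n))⁻¹
        = n ^ (2 * j) * (n * (n * x * n⁻¹) * n⁻¹) * (n ^ (2 * j))⁻¹ := by group
      _ = x := by rw [h, ih]

variable {P : Sylow 2 G} {a b c : G}

/-- If `n` in the normalizer moves one involution of `P`, it moves all of them. -/
theorem move_all (h : Omega P a b c) (n : G) (hn : n ∈ Subgroup.normalizer (P : Set G))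
    (x : G) (hx : x ∈ (P : Subgroup G)) (ox : orderOf x = 2) (hmove : n * x * n⁻¹ ≠ x) :
    ∀ y ∈ (P : Subgroup G), orderOf y = 2 → n * y * n⁻¹ ≠ y := by
  intro y hy oy hfix
  have hx'P := conj_mem_of_mem_normalizer P n x hn hx
  have ox' : orderOf (n * x * n⁻¹) = 2 := by rw [orderOf_conj', ox]
  have hyx : y ≠ x := by
    rintro rfl; exact hmove hfix
  have hyx' : y ≠ n * x * n⁻¹ := by
    intro hh
    apply hyx
    apply conj_inj n
    rw [hfix]; exact hh
  have hx''P := conj_mem_of_mem_normalizer P n _ hn hx'P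
  have ox'' : orderOf (n * (n * x * n⁻¹) * n⁻¹) = 2 := by rw [orderOf_conj', ox']
  have h1 : n * (n * x * n⁻¹) * n⁻¹ ≠ n * x * n⁻¹ := by
    intro hh
    exact hmove (conj_inj n _ _ hh)
  have h2 : n * (n * x * n⁻¹) * n⁻¹ ≠ y := by
    intro hh
    rw [← hfix] at hh
    exact hyx' (conj_inj n _ _ hh).symm
  have h3 : n * (n * x * n⁻¹) * n⁻¹ = x := by
    have e1 := h.all x hx ox
    have e2 := h.all _ hx'P ox'
    have e3 := h.all y hy oy
    have e4 := h.all _ hx''P ox''
    have hab := h.hab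
    have hac := h.hac
    have hbc := h.hbc
    generalize n * (n * x * n⁻¹) * n⁻¹ = x'' at *
    generalize n * x * n⁻¹ = x' at *
    rcases e1 with rfl | rfl | rfl <;> rcases e2 with rfl | rfl | rfl <;>
      rcases e3 with rfl | rfl | rfl <;> rcases e4 with rfl | rfl | rfl <;>
      first | rfl | (exfalso; first | exact hmove rfl | exact hyx rfl | exact hyx' rfl | exact h1 rfl | exact h2 rfl)
  obtain ⟨k, hk, hkP⟩ := exists_odd_pow_mem P n hn
  obtain ⟨j, rfl⟩ := hk
  have h4 : n ^ (2 * j + 1) * x * (n ^ (2 * j + 1))⁻¹ = n * x * n⁻¹ := by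
    have e : n ^ (2 * j + 1) = n * n ^ (2 * j) := by rw [pow_succ']
    rw [e]
    calc n * n ^ (2 * j) * x * (n * n ^ (2 * j))⁻¹
        = n * (n ^ (2 * j) * x * (n ^ (2 * j))⁻¹) * n⁻¹ := by group
      _ = n * x * n⁻¹ := by rw [conj_pow_two n x j h3]
  have h5 : n ^ (2 * j + 1) * x * (n ^ (2 * j + 1))⁻¹ = x := by
    rw [h.comm _ hkP x hx, mul_assoc, mul_inv_cancel, mul_one]
  exact hmove (h4.symm.trans h5)

theorem fix_all (h : Omega P a b c) (n : G) (hn : n ∈ Subgroup.normalizer (P : Set G))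
    (x : G) (hx : x ∈ (P : Subgroup G)) (ox : orderOf x = 2) (hfix : n * x * n⁻¹ = x) :
    ∀ y ∈ (P : Subgroup G), orderOf y = 2 → n * y * n⁻¹ = y := by
  intro y hy oy
  by_contra hmove
  exact move_all h n hn y hy oy hmove x hx ox hfix

/-- If some element of the normalizer moves an involution, the three involutions are conjugate. -/
theorem conj_of_move (h : Omega P a b c) (n : G) (hn : n ∈ Subgroup.normalizer (P : Set G))
    (x : G) (hx : x ∈ (P : Subgroup G)) (ox : orderOf x = 2) (hmove : n * x * n⁻¹ ≠ x) :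
    IsConj a b ∧ IsConj a c ∧ IsConj b c := by
  have ma := move_all h n hn x hx ox hmove a h.ha h.oa
  have mb := move_all h n hn x hx ox hmove b h.hb h.ob
  have mc := move_all h n hn x hx ox hmove c h.hc h.oc
  have ea := h.all _ (conj_mem_of_mem_normalizer P n a hn h.ha) (by rw [orderOf_conj', h.oa])
  have eb := h.all _ (conj_mem_of_mem_normalizer P n b hn h.hb) (by rw [orderOf_conj', h.ob])
  have ec := h.all _ (conj_mem_of_mem_normalizer P n c hn h.hc) (by rw [orderOf_conj', h.oc])
  have iab : n * a * n⁻¹ ≠ n * b * n⁻¹ := fun hh => h.hab (conj_inj n _ _ hh)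
  have iac : n * a * n⁻¹ ≠ n * c * n⁻¹ := fun hh => h.hac (conj_inj n _ _ hh)
  have ibc : n * b * n⁻¹ ≠ n * c * n⁻¹ := fun hh => h.hbc (conj_inj n _ _ hh)
  have key : (n * a * n⁻¹ = b ∧ n * b * n⁻¹ = c) ∨ (n * a * n⁻¹ = c ∧ n * c * n⁻¹ = b) := by
    rcases ea with e1 | e1 | e1
    · exact absurd e1 ma
    · left
      refine ⟨e1, ?_⟩
      rcases eb with e2 | e2 | e2
      · exfalso
        rcases ec with e3 | e3 | e3
        · exact ibc (e2.trans e3.symm)
        · exact iac (e1.trans e3.symm)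
        · exact mc e3
      · exact absurd e2 mb
      · exact e2
    · right
      refine ⟨e1, ?_⟩
      rcases ec with e3 | e3 | e3
      · exfalso
        rcases eb with e2 | e2 | e2
        · exact ibc (e2.trans e3.symm)
        · exact mb e2
        · exact iab (e1.trans e2.symm)
      · exact e3
      · exact absurd e3 mc
  rcases key with ⟨k1, k2⟩ | ⟨k1, k2⟩
  · have hab : IsConj a b := isConj_iff.2 ⟨n, k1⟩
    have hbc : IsConj b c := isConj_iff.2 ⟨n, k2⟩
    exact ⟨hab, hab.trans hbc, hbc⟩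
  · have hac : IsConj a c := isConj_iff.2 ⟨n, k1⟩
    have hcb : IsConj c b := isConj_iff.2 ⟨n, k2⟩
    exact ⟨hac.trans hcb, hac, hcb.symm⟩

/-- Burnside's fusion lemma for an abelian Sylow 2-subgroup. -/
theorem fusion (h : Omega P a b c) (x y : G) (hx : x ∈ (P : Subgroup G))
    (hy : y ∈ (P : Subgroup G)) (hxy : IsConj x y) :
    ∃ n ∈ Subgroup.normalizer (P : Set G), n * x * n⁻¹ = y := by
  obtain ⟨g, hg⟩ := isConj_iff.1 hxy
  have : IsMulCommutative (P : Subgroup G) :=
    ⟨⟨fun u v => Subtype.ext (h.comm u u.2 v v.2)⟩⟩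
  have hy' : (g⁻¹)⁻¹ * x * g⁻¹ ∈ (P : Subgroup G) := by
    rw [inv_inv, hg]; exact hy
  obtain ⟨n, hn, hn'⟩ := P.conj_eq_normalizer_conj_of_mem x g⁻¹ hx hy'
  refine ⟨n⁻¹, inv_mem hn, ?_⟩
  rw [inv_inv, ← hn', inv_inv, hg]

/-- If two of the three involutions are conjugate, all three are. -/
theorem conj_all (h : Omega P a b c) (x y : G) (hx : x ∈ (P : Subgroup G))
    (hy : y ∈ (P : Subgroup G)) (ox : orderOf x = 2) (hne : x ≠ y) (hxy : IsConj x y) :
    IsConj a b ∧ IsConj a c ∧ IsConj b c := by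
  obtain ⟨n, hn, hn'⟩ := fusion h x y hx hy hxy
  exact conj_of_move h n hn x hx ox (by rw [hn']; exact hne.symm)

/-- Every involution of `G` is conjugate to `a`, `b` or `c`. -/
theorem conj_abc (h : Omega P a b c) (t : G) (ht : orderOf t = 2) :
    IsConj t a ∨ IsConj t b ∨ IsConj t c := by
  obtain ⟨g, hg⟩ := exists_conj_mem P t ht
  have := h.all _ hg (by rw [orderOf_conj', ht])
  rcases this with e | e | e
  · exact Or.inl (isConj_iff.2 ⟨g, e⟩)
  · exact Or.inr (Or.inl (isConj_iff.2 ⟨g, e⟩))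
  · exact Or.inr (Or.inr (isConj_iff.2 ⟨g, e⟩))

/-- An element of the normalizer fixing one involution centralizes `P`. -/
theorem centralize (h : Omega P a b c) (n : G) (hn : n ∈ Subgroup.normalizer (P : Set G))
    (x₀ : G) (hx₀ : x₀ ∈ (P : Subgroup G)) (ox₀ : orderOf x₀ = 2) (hfix : n * x₀ * n⁻¹ = x₀) :
    n ∈ Subgroup.centralizer (P : Set G) := by
  have hfixall := fix_all h n hn x₀ hx₀ ox₀ hfix
  obtain ⟨k, hk, hkP⟩ := exists_odd_pow_mem P n hn
  have key : ∀ j : ℕ, ∀ x ∈ (P : Subgroup G), x ^ (2 ^ j) = 1 → n * x * n⁻¹ = x := by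
    intro j
    induction j with
    | zero =>
      intro x _ hx1
      have : x = 1 := by simpa using hx1
      rw [this]; simp
    | succ j ih =>
      intro x hx hx1
      have hx2P : x * x ∈ (P : Subgroup G) := mul_mem hx hx
      have hx2 : n * (x * x) * n⁻¹ = x * x := by
        apply ih _ hx2P
        rw [← pow_two, ← pow_mul, ← pow_succ']; exact hx1
      have hx'P := conj_mem_of_mem_normalizer P n x hn hx
      obtain ⟨w, hw⟩ : ∃ w : G, w = n * x * n⁻¹ * x⁻¹ := ⟨_, rfl⟩
      have hwP : w ∈ (P : Subgroup G) := by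
        rw [hw]; exact mul_mem hx'P (inv_mem hx)
      have hw2 : w * w = 1 := by
        have hc := h.comm _ (inv_mem hx) _ hx'P
        have e2 : (n * x * n⁻¹) * (n * x * n⁻¹) = n * (x * x) * n⁻¹ := by group
        calc w * w = n * x * n⁻¹ * x⁻¹ * (n * x * n⁻¹ * x⁻¹) := by rw [hw]
          _ = n * x * n⁻¹ * (x⁻¹ * (n * x * n⁻¹)) * x⁻¹ := by group
          _ = n * x * n⁻¹ * ((n * x * n⁻¹) * x⁻¹) * x⁻¹ := by rw [hc]
          _ = (n * x * n⁻¹) * (n * x * n⁻¹) * (x⁻¹ * x⁻¹) := by group
          _ = x * x * (x⁻¹ * x⁻¹) := by rw [e2, hx2]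
          _ = 1 := by group
      have hwfix : n * w * n⁻¹ = w := by
        by_cases hw1 : w = 1
        · rw [hw1]; simp
        · exact hfixall w hwP (orderOf_eq_prime (by rw [pow_two]; exact hw2) hw1)
      have hconj : n * x * n⁻¹ = w * x := by rw [hw]; group
      have hpow : ∀ i : ℕ, n ^ i * x * (n ^ i)⁻¹ = w ^ i * x := by
        intro i
        induction i with
        | zero => simp
        | succ i ihi =>
          calc n ^ (i + 1) * x * (n ^ (i + 1))⁻¹ = n * (n ^ i * x * (n ^ i)⁻¹) * n⁻¹ := by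
                rw [pow_succ']; group
            _ = n * (w ^ i * x) * n⁻¹ := by rw [ihi]
            _ = (n * w * n⁻¹) ^ i * (n * x * n⁻¹) := by
                have := map_pow (MulAut.conj n) w i
                simp only [MulAut.conj_apply] at this
                rw [← this]; group
            _ = w ^ i * (w * x) := by rw [hwfix, hconj]
            _ = w ^ (i + 1) * x := by rw [pow_succ, mul_assoc]
      have h1 := hpow k
      have h2 : n ^ k * x * (n ^ k)⁻¹ = x := by
        rw [h.comm _ hkP x hx, mul_assoc, mul_inv_cancel, mul_one]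
      rw [h2] at h1
      have hwk : w ^ k = 1 := by
        have : w ^ k * x = 1 * x := by rw [one_mul]; exact h1.symm
        exact mul_right_cancel this
      obtain ⟨i, rfl⟩ := hk
      have hw1 : w = 1 := by
        have : w ^ (2 * i + 1) = w := by
          rw [pow_succ, pow_mul, pow_two, hw2, one_pow, one_mul]
        rw [this] at hwk; exact hwk
      rw [hconj, hw1, one_mul]
  rw [Subgroup.mem_centralizer_iff]
  intro x hx
  obtain ⟨j, hj⟩ := P.2 ⟨x, hx⟩
  have hj' : x ^ (2 ^ j) = 1 := by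
    have := congrArg Subtype.val hj
    simpa using this
  have := key j x hx hj'
  calc x * n = (n * x * n⁻¹) * n := by rw [this]
    _ = n * x := by group

/-- Burnside's normal complement theorem. -/
theorem exists_normal_complement (P : Sylow 2 G)
    (hNC : Subgroup.normalizer (P : Set G) ≤ Subgroup.centralizer (P : Set G)) :
    ∃ N : Subgroup G, N.Normal ∧ Subgroup.IsComplement' N (P : Subgroup G) :=
  ⟨(MonoidHom.transferSylow P hNC).ker, inferInstance,
    MonoidHom.ker_transferSylow_isComplement' P hNC⟩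

/-- With a normal complement and `P` abelian, distinct elements of `P` are not conjugate. -/
theorem eq_of_conj_of_complement (P : Sylow 2 G)
    (hcomm : ∀ x ∈ (P : Subgroup G), ∀ y ∈ (P : Subgroup G), x * y = y * x)
    (N : Subgroup G) (hN : N.Normal) (hNP : Subgroup.IsComplement' N (P : Subgroup G))
    (x y : G) (hx : x ∈ (P : Subgroup G)) (hy : y ∈ (P : Subgroup G)) (hxy : IsConj x y) :
    x = y := by
  obtain ⟨g, hg⟩ := isConj_iff.1 hxy
  -- write g = n * p
  obtain ⟨⟨⟨n, hn⟩, ⟨p, hp⟩⟩, hnp⟩ := hNP.2 g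
  have hnp' : n * p = g := hnp
  subst hnp'
  have hn : n ∈ N := hn
  have hp : p ∈ (P : Subgroup G) := hp
  -- y = n * (p x p⁻¹) * n⁻¹ = n * x * n⁻¹
  have h1 : p * x * p⁻¹ = x := by
    rw [hcomm p hp x hx, mul_assoc, mul_inv_cancel, mul_one]
  have h2 : n * x * n⁻¹ = y := by
    rw [← hg]
    calc n * x * n⁻¹ = n * (p * x * p⁻¹) * n⁻¹ := by rw [h1]
      _ = n * p * x * (n * p)⁻¹ := by group
  -- y * x⁻¹ = n * (x n⁻¹ x⁻¹) ∈ N ∩ P
  have h3 : y * x⁻¹ ∈ N := by
    rw [← h2]
    have : n * x * n⁻¹ * x⁻¹ = n * (x * n⁻¹ * x⁻¹) := by group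
    rw [this]
    exact N.mul_mem hn (hN.conj_mem _ (N.inv_mem hn) x)
  have h4 : y * x⁻¹ ∈ (P : Subgroup G) := mul_mem hy (inv_mem hx)
  have h5 : y * x⁻¹ ∈ N ⊓ (P : Subgroup G) := ⟨h3, h4⟩
  rw [hNP.disjoint.eq_bot, Subgroup.mem_bot] at h5
  exact (mul_inv_eq_one.1 h5).symm


/-- An element of the normalizer moving `a` permutes `a`, `b`, `c` cyclically. -/
theorem perm_of_move (h : Omega P a b c) (n : G) (hn : n ∈ Subgroup.normalizer (P : Set G))
    (hmove : n * a * n⁻¹ ≠ a) :
    (n * a * n⁻¹ = b ∧ n * b * n⁻¹ = c) ∨ (n * a * n⁻¹ = c ∧ n * c * n⁻¹ = b) := by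
  have ma := hmove
  have mb := move_all h n hn a h.ha h.oa hmove b h.hb h.ob
  have mc := move_all h n hn a h.ha h.oa hmove c h.hc h.oc
  have ea := h.all _ (conj_mem_of_mem_normalizer P n a hn h.ha) (by rw [orderOf_conj', h.oa])
  have eb := h.all _ (conj_mem_of_mem_normalizer P n b hn h.hb) (by rw [orderOf_conj', h.ob])
  have ec := h.all _ (conj_mem_of_mem_normalizer P n c hn h.hc) (by rw [orderOf_conj', h.oc])
  have iab : n * a * n⁻¹ ≠ n * b * n⁻¹ := fun hh => h.hab (conj_inj n _ _ hh)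
  have iac : n * a * n⁻¹ ≠ n * c * n⁻¹ := fun hh => h.hac (conj_inj n _ _ hh)
  have ibc : n * b * n⁻¹ ≠ n * c * n⁻¹ := fun hh => h.hbc (conj_inj n _ _ hh)
  rcases ea with e1 | e1 | e1
  · exact absurd e1 ma
  · left
    refine ⟨e1, ?_⟩
    rcases eb with e2 | e2 | e2
    · exfalso
      rcases ec with e3 | e3 | e3
      · exact ibc (e2.trans e3.symm)
      · exact iac (e1.trans e3.symm)
      · exact mc e3
    · exact absurd e2 mb
    · exact e2
  · right
    refine ⟨e1, ?_⟩
    rcases ec with e3 | e3 | e3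
    · exfalso
      rcases eb with e2 | e2 | e2
      · exact ibc (e2.trans e3.symm)
      · exact mb e2
      · exact iab (e1.trans e2.symm)
    · exact e3
    · exact absurd e3 mc

/-- The classes of involutions of `G` are the classes of `a`, `b`, `c`. -/
theorem classes_eq (h : Omega P a b c) :
    {C : ConjClasses G | ∃ t : G, orderOf t = 2 ∧ ConjClasses.mk t = C} =
      {ConjClasses.mk a, ConjClasses.mk b, ConjClasses.mk c} := by
  ext C
  simp only [Set.mem_ofPred_eq, Set.mem_insert_iff, Set.mem_singleton_iff]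
  constructor
  · rintro ⟨t, ht, rfl⟩
    rcases conj_abc h t ht with e | e | e
    · exact Or.inl (ConjClasses.mk_eq_mk_iff_isConj.2 e)
    · exact Or.inr (Or.inl (ConjClasses.mk_eq_mk_iff_isConj.2 e))
    · exact Or.inr (Or.inr (ConjClasses.mk_eq_mk_iff_isConj.2 e))
  · rintro (rfl | rfl | rfl)
    · exact ⟨a, h.oa, rfl⟩
    · exact ⟨b, h.ob, rfl⟩
    · exact ⟨c, h.oc, rfl⟩

/-- Either all involutions are conjugate (one class), or `a`, `b`, `c` are pairwise
non-conjugate (three classes). -/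
theorem card_classes (h : Omega P a b c) :
    (Nat.card {C : ConjClasses G // ∃ t : G, orderOf t = 2 ∧ ConjClasses.mk t = C} = 1 ∧
        IsConj a b ∧ IsConj a c ∧ IsConj b c) ∨
      (Nat.card {C : ConjClasses G // ∃ t : G, orderOf t = 2 ∧ ConjClasses.mk t = C} = 3 ∧
        ¬ IsConj a b ∧ ¬ IsConj a c ∧ ¬ IsConj b c) := by
  have hcard : Nat.card {C : ConjClasses G // ∃ t : G, orderOf t = 2 ∧ ConjClasses.mk t = C} =
      Set.ncard {C : ConjClasses G | ∃ t : G, orderOf t = 2 ∧ ConjClasses.mk t = C} :=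
    Nat.card_coe_set_eq _
  rw [hcard, classes_eq h]
  by_cases hconj : IsConj a b ∨ IsConj a c ∨ IsConj b c
  · left
    have hall : IsConj a b ∧ IsConj a c ∧ IsConj b c := by
      rcases hconj with e | e | e
      · exact conj_all h a b h.ha h.hb h.oa h.hab e
      · exact conj_all h a c h.ha h.hc h.oa h.hac e
      · exact conj_all h b c h.hb h.hc h.ob h.hbc e
    refine ⟨?_, hall⟩
    have e1 : (ConjClasses.mk b : ConjClasses G) = ConjClasses.mk a :=
      (ConjClasses.mk_eq_mk_iff_isConj.2 hall.1).symm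
    have e2 : (ConjClasses.mk c : ConjClasses G) = ConjClasses.mk a :=
      (ConjClasses.mk_eq_mk_iff_isConj.2 hall.2.1).symm
    rw [e1, e2]
    simp
  · right
    push Not at hconj
    refine ⟨?_, hconj⟩
    have n1 : (ConjClasses.mk a : ConjClasses G) ≠ ConjClasses.mk b :=
      fun hh => hconj.1 (ConjClasses.mk_eq_mk_iff_isConj.1 hh)
    have n2 : (ConjClasses.mk a : ConjClasses G) ≠ ConjClasses.mk c :=
      fun hh => hconj.2.1 (ConjClasses.mk_eq_mk_iff_isConj.1 hh)
    have n3 : (ConjClasses.mk b : ConjClasses G) ≠ ConjClasses.mk c :=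
      fun hh => hconj.2.2 (ConjClasses.mk_eq_mk_iff_isConj.1 hh)
    exact Set.ncard_eq_three.2 ⟨_, _, _, n1, n2, n3, rfl⟩

/-- If no element of the normalizer moves `a`, the normalizer centralizes `P`. -/
theorem normalizer_le_centralizer (h : Omega P a b c)
    (hfix : ∀ n ∈ Subgroup.normalizer (P : Set G), n * a * n⁻¹ = a) :
    Subgroup.normalizer (P : Set G) ≤ Subgroup.centralizer (P : Set G) :=
  fun n hn => centralize h n hn a h.ha h.oa (hfix n hn)

/-- All involutions are conjugate as soon as `a`, `b`, `c` are. -/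
theorem all_conj (h : Omega P a b c) (hab : IsConj a b) (hac : IsConj a c) (s t : G)
    (hs : orderOf s = 2) (ht : orderOf t = 2) : IsConj s t := by
  have hsa : IsConj s a := by
    rcases conj_abc h s hs with e | e | e
    · exact e
    · exact e.trans hab.symm
    · exact e.trans hac.symm
  have hta : IsConj t a := by
    rcases conj_abc h t ht with e | e | e
    · exact e
    · exact e.trans hab.symm
    · exact e.trans hac.symm
  exact hsa.trans hta.symm

/-- A Klein four Sylow 2-subgroup gives the data `Omega`. -/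
theorem omega_of_kleinFour (P : Sylow 2 G) (hP : IsKleinFour (P : Subgroup G)) :
    ∃ a b c : G, Omega P a b c := by
  obtain ⟨a, b, ha, hb, hab⟩ : ∃ a b : (P : Subgroup G), a ≠ 1 ∧ b ≠ 1 ∧ a ≠ b := by
    have f : Fin 4 ≃ (P : Subgroup G) := (Finite.equivFinOfCardEq hP.card_four).symm
    by_cases h0 : f 0 = 1
    · refine ⟨f 1, f 2, ?_, ?_, ?_⟩
      · rw [← h0]; exact fun hh => absurd (f.injective hh) (by decide)
      · rw [← h0]; exact fun hh => absurd (f.injective hh) (by decide)
      · exact fun hh => absurd (f.injective hh) (by decide)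
    · by_cases h1 : f 1 = 1
      · refine ⟨f 0, f 2, h0, ?_, ?_⟩
        · rw [← h1]; exact fun hh => absurd (f.injective hh) (by decide)
        · exact fun hh => absurd (f.injective hh) (by decide)
      · exact ⟨f 0, f 1, h0, h1, fun hh => absurd (f.injective hh) (by decide)⟩
  have hcomm : IsMulCommutative (P : Subgroup G) := IsKleinFour.isMulCommutative
  have ord : ∀ x : (P : Subgroup G), x ≠ 1 → orderOf (x : G) = 2 := by
    intro x hx
    rw [Subgroup.orderOf_coe]
    exact orderOf_eq_prime (by rw [pow_two]; exact IsKleinFour.mul_self x) hx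
  refine ⟨a, b, (a * b : (P : Subgroup G)), ?_⟩
  have hab1 : a * b ≠ 1 := by
    intro hh
    apply hab
    have := IsKleinFour.mul_self b
    exact mul_right_cancel (hh.trans this.symm)
  refine
    { comm := fun x hx y hy => congrArg Subtype.val (hcomm.is_comm.comm ⟨x, hx⟩ ⟨y, hy⟩)
      ha := a.2
      hb := b.2
      hc := (a * b).2
      oa := ord a ha
      ob := ord b hb
      oc := ord (a * b) hab1
      hab := fun hh => hab (Subtype.ext hh)
      hac := ?_
      hbc := ?_
      all := ?_ }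
  · intro hh
    have h1 : a = a * b := Subtype.ext hh
    exact hb (by simpa using h1)
  · intro hh
    have h1 : b = a * b := Subtype.ext hh
    exact ha (by simpa using h1)
  · intro x hx ox
    have hx1 : (⟨x, hx⟩ : (P : Subgroup G)) ≠ 1 := by
      intro hh
      have : x = 1 := congrArg Subtype.val hh
      rw [this, orderOf_one] at ox
      exact absurd ox (by norm_num)
    by_cases hxa : (⟨x, hx⟩ : (P : Subgroup G)) = a
    · exact Or.inl (congrArg Subtype.val hxa)
    · by_cases hxb : (⟨x, hx⟩ : (P : Subgroup G)) = b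
      · exact Or.inr (Or.inl (congrArg Subtype.val hxb))
      · exact Or.inr (Or.inr (congrArg Subtype.val
          (IsKleinFour.eq_mul_of_ne_all ha hb hab hx1 hxa hxb)))

/-- Transport of the data `Omega` along an isomorphism of `P` with an abelian group having
exactly three involutions. -/
theorem omega_of_equiv (P : Sylow 2 G) {A : Type*} [CommGroup A] (e : (P : Subgroup G) ≃* A)
    (a' b' c' : A) (oa : orderOf a' = 2) (ob : orderOf b' = 2) (oc : orderOf c' = 2)
    (hab : a' ≠ b') (hac : a' ≠ c') (hbc : b' ≠ c')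
    (hall : ∀ y : A, orderOf y = 2 → y = a' ∨ y = b' ∨ y = c') :
    Omega P (e.symm a' : G) (e.symm b' : G) (e.symm c' : G) := by
  have ord : ∀ y : A, orderOf ((e.symm y : (P : Subgroup G)) : G) = orderOf y := by
    intro y
    rw [Subgroup.orderOf_coe]
    exact MulEquiv.orderOf_eq e.symm y
  refine
    { comm := ?_
      ha := (e.symm a').2
      hb := (e.symm b').2
      hc := (e.symm c').2
      oa := by rw [ord, oa]
      ob := by rw [ord, ob]
      oc := by rw [ord, oc]
      hab := fun hh => hab (e.symm.injective (Subtype.ext hh))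
      hac := fun hh => hac (e.symm.injective (Subtype.ext hh))
      hbc := fun hh => hbc (e.symm.injective (Subtype.ext hh))
      all := ?_ }
  · intro x hx y hy
    have : (⟨x, hx⟩ : (P : Subgroup G)) * ⟨y, hy⟩ = ⟨y, hy⟩ * ⟨x, hx⟩ := by
      apply e.injective
      rw [map_mul, map_mul, mul_comm]
    exact congrArg Subtype.val this
  · intro x hx ox
    have h1 : orderOf (e ⟨x, hx⟩) = 2 := by
      rw [MulEquiv.orderOf_eq e, ← Subgroup.orderOf_coe]
      exact ox
    have h2 : ∀ y : A, e ⟨x, hx⟩ = y → x = ((e.symm y : (P : Subgroup G)) : G) := by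
      intro y hy
      rw [← hy, MulEquiv.symm_apply_apply]
    rcases hall _ h1 with e1 | e1 | e1
    · exact Or.inl (h2 _ e1)
    · exact Or.inr (Or.inl (h2 _ e1))
    · exact Or.inr (Or.inr (h2 _ e1))

theorem zmod_add_self {m : ℕ} (hm : 1 ≤ m) (u : ZMod (2 ^ m)) :
    u + u = 0 ↔ u = 0 ∨ u = ((2 ^ (m - 1) : ℕ) : ZMod (2 ^ m)) := by
  have hpow : 2 ^ m = 2 * 2 ^ (m - 1) := by
    rw [← pow_succ']; congr 1; omega
  have hne : NeZero (2 ^ m) := ⟨by positivity⟩
  constructor
  · intro hu
    have h1 : ((2 * u.val : ℕ) : ZMod (2 ^ m)) = 0 := by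
      rw [Nat.cast_mul, ZMod.natCast_zmod_val, Nat.cast_ofNat, two_mul]; exact hu
    rw [ZMod.natCast_eq_zero_iff] at h1
    have hlt : u.val < 2 ^ m := ZMod.val_lt u
    obtain ⟨v, hv⟩ : ∃ v : ℕ, v = u.val := ⟨_, rfl⟩
    rw [← hv] at h1 hlt
    rw [hpow] at h1 hlt
    have h2 : 2 ^ (m - 1) ∣ v := Nat.dvd_of_mul_dvd_mul_left (by norm_num) h1
    obtain ⟨k, hk⟩ := h2
    have hk2 : k < 2 := by
      by_contra hk2
      push Not at hk2
      have h3 : 2 ^ (m - 1) * 2 ≤ 2 ^ (m - 1) * k := Nat.mul_le_mul_left _ hk2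
      rw [hk] at hlt
      linarith
    rw [hv] at hk
    interval_cases k
    · left
      have : u.val = 0 := by simpa using hk
      exact (ZMod.val_eq_zero u).1 this
    · right
      rw [← ZMod.natCast_zmod_val u, hk, mul_one]
  · rintro (rfl | rfl)
    · simp
    · rw [← Nat.cast_add, ZMod.natCast_eq_zero_iff, ← two_mul, ← hpow]

theorem zmod_half_ne_zero {m : ℕ} (hm : 1 ≤ m) :
    ((2 ^ (m - 1) : ℕ) : ZMod (2 ^ m)) ≠ 0 := by
  have hpow : 2 ^ m = 2 * 2 ^ (m - 1) := by
    rw [← pow_succ']; congr 1; omega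
  intro hh
  rw [ZMod.natCast_eq_zero_iff] at hh
  have h1 : 0 < 2 ^ (m - 1) := by positivity
  have h2 := Nat.le_of_dvd h1 hh
  rw [hpow] at h2
  linarith

/-- A homocyclic Sylow 2-subgroup of rank two gives the data `Omega`. -/
theorem omega_of_homocyclic (P : Sylow 2 G) (m : ℕ) (hm : 1 ≤ m)
    (e : (P : Subgroup G) ≃* Multiplicative (ZMod (2 ^ m) × ZMod (2 ^ m))) :
    ∃ a b c : G, Omega P a b c := by
  obtain ⟨h, hh⟩ : ∃ h : ZMod (2 ^ m), h = ((2 ^ (m - 1) : ℕ) : ZMod (2 ^ m)) := ⟨_, rfl⟩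
  have h0 : h ≠ 0 := by rw [hh]; exact zmod_half_ne_zero hm
  have hhh : h + h = 0 := (zmod_add_self hm h).2 (Or.inr hh)
  have key : ∀ y : Multiplicative (ZMod (2 ^ m) × ZMod (2 ^ m)),
      orderOf y = 2 ↔ y ≠ 1 ∧
        ((Multiplicative.toAdd y).1 = 0 ∨ (Multiplicative.toAdd y).1 = h) ∧
        ((Multiplicative.toAdd y).2 = 0 ∨ (Multiplicative.toAdd y).2 = h) := by
    intro y
    have hy2 : y ^ 2 = 1 ↔ (Multiplicative.toAdd y).1 + (Multiplicative.toAdd y).1 = 0 ∧
        (Multiplicative.toAdd y).2 + (Multiplicative.toAdd y).2 = 0 := by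
      rw [pow_two]
      constructor
      · intro hy
        have := congrArg Multiplicative.toAdd hy
        rw [toAdd_mul, toAdd_one] at this
        exact ⟨congrArg Prod.fst this, congrArg Prod.snd this⟩
      · rintro ⟨h1, h2⟩
        apply Multiplicative.toAdd.injective
        rw [toAdd_mul, toAdd_one]
        exact Prod.ext h1 h2
    rw [orderOf_eq_prime_iff, hy2, zmod_add_self hm, zmod_add_self hm, ← hh]
    tauto
  have o1 : orderOf (Multiplicative.ofAdd ((h, 0) : ZMod (2 ^ m) × ZMod (2 ^ m))) = 2 := by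
    rw [key]
    refine ⟨?_, Or.inr rfl, Or.inl rfl⟩
    intro hc
    exact h0 (congrArg Prod.fst (congrArg Multiplicative.toAdd hc))
  have o2 : orderOf (Multiplicative.ofAdd ((0, h) : ZMod (2 ^ m) × ZMod (2 ^ m))) = 2 := by
    rw [key]
    refine ⟨?_, Or.inl rfl, Or.inr rfl⟩
    intro hc
    exact h0 (congrArg Prod.snd (congrArg Multiplicative.toAdd hc))
  have o3 : orderOf (Multiplicative.ofAdd ((h, h) : ZMod (2 ^ m) × ZMod (2 ^ m))) = 2 := by
    rw [key]
    refine ⟨?_, Or.inr rfl, Or.inr rfl⟩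
    intro hc
    exact h0 (congrArg Prod.fst (congrArg Multiplicative.toAdd hc))
  refine ⟨_, _, _, omega_of_equiv P e _ _ _ o1 o2 o3 ?_ ?_ ?_ ?_⟩
  · intro hc
    exact h0 (congrArg Prod.fst (congrArg Multiplicative.toAdd hc))
  · intro hc
    exact h0 (congrArg Prod.snd (congrArg Multiplicative.toAdd hc)).symm
  · intro hc
    exact h0 (congrArg Prod.fst (congrArg Multiplicative.toAdd hc)).symm
  · intro y hy
    rw [key] at hy
    obtain ⟨hy1, hy2 | hy2, hy3 | hy3⟩ := hy
    · exfalso
      apply hy1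
      apply Multiplicative.toAdd.injective
      exact Prod.ext hy2 hy3
    · right; left
      apply Multiplicative.toAdd.injective
      exact Prod.ext hy2 hy3
    · left
      apply Multiplicative.toAdd.injective
      exact Prod.ext hy2 hy3
    · right; right
      apply Multiplicative.toAdd.injective
      exact Prod.ext hy2 hy3

/-- A nontrivial element of `P` has a power of order two. -/
theorem exists_pow_orderOf_two (P : Sylow 2 G) (z : G) (hz : z ∈ (P : Subgroup G)) (hz1 : z ≠ 1) :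
    ∃ k : ℕ, orderOf (z ^ k) = 2 := by
  have hex : ∃ j : ℕ, z ^ (2 ^ j) = 1 := by
    obtain ⟨j, hj⟩ := P.2 ⟨z, hz⟩
    refine ⟨j, ?_⟩
    have := congrArg Subtype.val hj
    simpa using this
  classical
  have hmin := Nat.find_min hex (m := Nat.find hex - 1)
  have hspec := Nat.find_spec hex
  have hpos : Nat.find hex ≠ 0 := by
    intro h0
    rw [h0] at hspec
    exact hz1 (by simpa using hspec)
  refine ⟨2 ^ (Nat.find hex - 1), orderOf_eq_prime ?_ (hmin (by omega))⟩
  rw [← pow_mul, ← pow_succ]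
  have : Nat.find hex - 1 + 1 = Nat.find hex := by omega
  rw [this]
  exact hspec

/-- The centralizer of a nontrivial element of `P` meets the normalizer of `P` in the
centralizer of `P`. -/
theorem centralizer_inf_normalizer (h : Omega P a b c) (z : G) (hz : z ∈ (P : Subgroup G))
    (hz1 : z ≠ 1) :
    Subgroup.centralizer ({z} : Set G) ⊓ Subgroup.normalizer (P : Set G) =
      Subgroup.centralizer (P : Set G) := by
  apply le_antisymm
  · rintro n ⟨hn1, hn2⟩
    obtain ⟨k, hk⟩ := exists_pow_orderOf_two P z hz hz1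
    have hcz : z * n = n * z := Subgroup.mem_centralizer_iff.1 hn1 z (Set.mem_singleton z)
    have hczk : n * z ^ k = z ^ k * n := ((Commute.pow_left (show Commute z n from hcz) k).eq).symm
    apply centralize h n hn2 (z ^ k) (pow_mem hz k) hk
    rw [hczk, mul_assoc, mul_inv_cancel, mul_one]
  · intro n hn
    have hnz : n ∈ Subgroup.centralizer ({z} : Set G) := by
      rw [Subgroup.mem_centralizer_iff]
      intro y hy
      rw [Set.mem_singleton_iff] at hy
      rw [hy]
      exact Subgroup.mem_centralizer_iff.1 hn z hz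
    exact ⟨hnz, Subgroup.centralizer_le_normalizer _ hn⟩

/-- If some element of the normalizer moves `a`, then `|N(P) : C(P)| = 3`. -/
theorem relIndex_eq_three (h : Omega P a b c) (n₀ : G)
    (hn₀ : n₀ ∈ Subgroup.normalizer (P : Set G)) (hmove : n₀ * a * n₀⁻¹ ≠ a) :
    (Subgroup.centralizer (P : Set G)).relIndex (Subgroup.normalizer (P : Set G)) = 3 := by
  have hS : ∀ n : Subgroup.normalizer (P : Set G),
      (n : G) * a * (n : G)⁻¹ ∈ ({a, b, c} : Set G) := by
    intro n
    have := h.all _ (conj_mem_of_mem_normalizer P n a n.2 h.ha) (by rw [orderOf_conj', h.oa])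
    simpa using this
  have hrel : ∀ n n' : Subgroup.normalizer (P : Set G),
      (n : G) * a * (n : G)⁻¹ = (n' : G) * a * (n' : G)⁻¹ ↔
        n⁻¹ * n' ∈ (Subgroup.centralizer (P : Set G)).subgroupOf
          (Subgroup.normalizer (P : Set G)) := by
    intro n n'
    rw [Subgroup.mem_subgroupOf]
    constructor
    · intro hh
      have hmem : ((n⁻¹ * n' : Subgroup.normalizer (P : Set G)) : G) ∈
          Subgroup.normalizer (P : Set G) := (n⁻¹ * n').2
      apply centralize h _ hmem a h.ha h.oa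
      have : ((n⁻¹ * n' : Subgroup.normalizer (P : Set G)) : G) = (n : G)⁻¹ * (n' : G) := by
        simp
      rw [this]
      calc (n : G)⁻¹ * (n' : G) * a * ((n : G)⁻¹ * (n' : G))⁻¹
          = (n : G)⁻¹ * ((n' : G) * a * (n' : G)⁻¹) * (n : G) := by group
        _ = (n : G)⁻¹ * ((n : G) * a * (n : G)⁻¹) * (n : G) := by rw [hh]
        _ = a := by group
    · intro hh
      have : ((n⁻¹ * n' : Subgroup.normalizer (P : Set G)) : G) = (n : G)⁻¹ * (n' : G) := by
        simp
      rw [this] at hh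
      have hc := Subgroup.mem_centralizer_iff.1 hh a h.ha
      calc (n : G) * a * (n : G)⁻¹
          = (n : G) * (a * ((n : G)⁻¹ * (n' : G))) * (n' : G)⁻¹ := by group
        _ = (n : G) * (((n : G)⁻¹ * (n' : G)) * a) * (n' : G)⁻¹ := by rw [hc]
        _ = (n' : G) * a * (n' : G)⁻¹ := by group
  let φ : (Subgroup.normalizer (P : Set G)) ⧸
      ((Subgroup.centralizer (P : Set G)).subgroupOf (Subgroup.normalizer (P : Set G))) →
      ({a, b, c} : Set G) :=
    Quotient.lift (fun n => (⟨(n : G) * a * (n : G)⁻¹, hS n⟩ : ({a, b, c} : Set G)))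
      (fun n n' hnn' => Subtype.ext ((hrel n n').2 (QuotientGroup.leftRel_apply.1 hnn')))
  have hφ : Function.Bijective φ := by
    constructor
    · intro q q'
      induction q using Quotient.inductionOn with
      | _ n =>
        induction q' using Quotient.inductionOn with
        | _ n' =>
          intro hh
          apply Quotient.sound
          apply QuotientGroup.leftRel_apply.2
          exact (hrel n n').1 (congrArg Subtype.val hh)
    · have h1 : ∀ n : Subgroup.normalizer (P : Set G), ∀ y : ({a, b, c} : Set G),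
          (n : G) * a * (n : G)⁻¹ = y → ∃ q, φ q = y := by
        intro n y hy
        exact ⟨Quotient.mk _ n, Subtype.ext hy⟩
      have ha' : ∃ q, φ q = ⟨a, by simp⟩ := h1 1 _ (by simp)
      have hbc' : (∃ q, φ q = ⟨b, by simp⟩) ∧ (∃ q, φ q = ⟨c, by simp⟩) := by
        rcases perm_of_move h n₀ hn₀ hmove with ⟨k1, k2⟩ | ⟨k1, k2⟩
        · refine ⟨h1 ⟨n₀, hn₀⟩ _ k1, h1 (⟨n₀, hn₀⟩ * ⟨n₀, hn₀⟩) _ ?_⟩
          show n₀ * n₀ * a * (n₀ * n₀)⁻¹ = c
          rw [← k2, ← k1]; group
        · refine ⟨h1 (⟨n₀, hn₀⟩ * ⟨n₀, hn₀⟩) _ ?_, h1 ⟨n₀, hn₀⟩ _ k1⟩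
          show n₀ * n₀ * a * (n₀ * n₀)⁻¹ = b
          rw [← k2, ← k1]; group
      rintro ⟨y, hy⟩
      simp only [Set.mem_insert_iff, Set.mem_singleton_iff] at hy
      rcases hy with rfl | rfl | rfl
      · exact ha'
      · exact hbc'.1
      · exact hbc'.2
  have hcard : Nat.card (({a, b, c} : Set G)) = 3 := by
    rw [Nat.card_coe_set_eq]
    exact Set.ncard_eq_three.2 ⟨a, b, c, h.hab, h.hac, h.hbc, rfl⟩
  rw [Subgroup.relIndex, Subgroup.index, Nat.card_congr (Equiv.ofBijective φ hφ), hcard]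

/-- The index of the centralizer of `P` in its normalizer is one or three. -/
theorem relIndex_eq_one_or_three (h : Omega P a b c) :
    (Subgroup.centralizer (P : Set G)).relIndex (Subgroup.normalizer (P : Set G)) = 1 ∨
      (Subgroup.centralizer (P : Set G)).relIndex (Subgroup.normalizer (P : Set G)) = 3 := by
  by_cases hfix : ∀ n ∈ Subgroup.normalizer (P : Set G), n * a * n⁻¹ = a
  · left
    rw [Subgroup.relIndex_eq_one]
    exact normalizer_le_centralizer h hfix
  · right
    push Not at hfix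
    obtain ⟨n₀, hn₀, hmove⟩ := hfix
    exact relIndex_eq_three h n₀ hn₀ hmove

end Cfsg.Agent.Lib.Helper52.KleinFusion
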