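import Mathlib
import Cfsg.Agent.S1225
import Cfsg.Agent.Lib.Helper52.KleinFusion

set_option autoImplicit false
set_option linter.unusedSectionVars false
set_option linter.unusedVariables false

/-!
Groups in which the centralizer of every involution is an elementary abelian 2-group,
with a Sylow 2-subgroup that is neither cyclic nor normal.  The "points" are the Sylow
2-subgroups, on which the group acts by conjugation.
-/

namespace Cfsg.Agent.Lib.Helper52.EAC

open Cfsg.Agent.Lib.Helper52.KleinFusion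

variable {G : Type*} [Group G] [Finite G]

/-- The working hypotheses, in a convenient form. -/
structure Setup (G : Type*) [Group G] : Prop where
  hC : ∀ t : G, orderOf t = 2 → ∀ c : G, c * t = t * c → c * c = 1
  sq : ∀ S : Sylow 2 G, ∀ x ∈ (S : Subgroup G), x * x = 1
  comm : ∀ S : Sylow 2 G, ∀ x ∈ (S : Subgroup G), ∀ y ∈ (S : Subgroup G), x * y = y * x
  cent : ∀ S : Sylow 2 G, ∀ t ∈ (S : Subgroup G), orderOf t = 2 → ∀ c : G, c * t = t * c →
    c ∈ (S : Subgroup G)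
  two : ∀ S : Sylow 2 G, ∃ s t : G, s ∈ (S : Subgroup G) ∧ t ∈ (S : Subgroup G) ∧ s ≠ 1 ∧
    t ≠ 1 ∧ s ≠ t
  nn : ∃ S S' : Sylow 2 G, S ≠ S'

theorem setup_of (T : Sylow 2 G) (hnc : ¬ IsCyclic (T : Subgroup G))
    (hnn : ¬ (T : Subgroup G).Normal)
    (hC : ∀ t : G, orderOf t = 2 → IsMulCommutative (Subgroup.centralizer ({t} : Set G)) ∧
      ∀ c ∈ Subgroup.centralizer ({t} : Set G), c ^ 2 = 1) : Setup G := by
  have hmemC : ∀ t c : G, c * t = t * c → c ∈ Subgroup.centralizer ({t} : Set G) := by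
    intro t c hc
    rw [Subgroup.mem_centralizer_iff]
    intro y hy
    rw [Set.mem_singleton_iff] at hy
    rw [hy]; exact hc.symm
  have hC' : ∀ t : G, orderOf t = 2 → ∀ c : G, c * t = t * c → c * c = 1 := by
    intro t ht c hc
    have := (hC t ht).2 c (hmemC t c hc)
    rwa [pow_two] at this
  have hncS : ∀ S : Sylow 2 G, ¬ IsCyclic (S : Subgroup G) := by
    intro S hcyc
    apply hnc
    exact (MulEquiv.isCyclic (Sylow.equiv S T)).1 hcyc
  have hpg : ∀ t : G, orderOf t = 2 → IsPGroup 2 (Subgroup.centralizer ({t} : Set G)) := by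
    intro t ht
    rintro ⟨c, hc⟩
    refine ⟨1, Subtype.ext ?_⟩
    have := (hC t ht).2 c hc
    simpa using this
  have key : ∀ S : Sylow 2 G, (∀ x ∈ (S : Subgroup G), x * x = 1) ∧
      (∀ x ∈ (S : Subgroup G), ∀ y ∈ (S : Subgroup G), x * y = y * x) ∧
      (∀ t ∈ (S : Subgroup G), orderOf t = 2 → ∀ c : G, c * t = t * c →
        c ∈ (S : Subgroup G)) := by
    intro S
    have hnt : Nontrivial (S : Subgroup G) := by
      by_contra hnt
      rw [not_nontrivial_iff_subsingleton] at hnt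
      exact hncS S isCyclic_of_subsingleton
    have hcn : Nontrivial (Subgroup.center (S : Subgroup G)) :=
      IsPGroup.center_nontrivial S.isPGroup'
    obtain ⟨z, hz1⟩ := exists_ne (1 : Subgroup.center (S : Subgroup G))
    have hzS : ((z : (S : Subgroup G)) : G) ∈ (S : Subgroup G) := (z : (S : Subgroup G)).2
    have hz1' : ((z : (S : Subgroup G)) : G) ≠ 1 := by
      intro h
      apply hz1
      apply Subtype.ext
      apply Subtype.ext
      exact h
    obtain ⟨k, hk⟩ := exists_pow_orderOf_two S _ hzS hz1'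
    have hzc : ∀ y ∈ (S : Subgroup G), y * ((z : (S : Subgroup G)) : G) =
        ((z : (S : Subgroup G)) : G) * y := by
      intro y hy
      have := Subgroup.mem_center_iff.1 z.2 ⟨y, hy⟩
      exact congrArg Subtype.val this
    have hzk : ∀ y ∈ (S : Subgroup G), y * ((z : (S : Subgroup G)) : G) ^ k =
        ((z : (S : Subgroup G)) : G) ^ k * y := by
      intro y hy
      exact (Commute.pow_right (show Commute y _ from hzc y hy) k).eq
    have hle : (S : Subgroup G) ≤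
        Subgroup.centralizer ({((z : (S : Subgroup G)) : G) ^ k} : Set G) :=
      fun y hy => hmemC _ y (hzk y hy)
    have heq := S.is_maximal' (hpg _ hk) hle
    have hsq : ∀ x ∈ (S : Subgroup G), x * x = 1 := by
      intro x hx
      have hx' : x ∈ Subgroup.centralizer ({((z : (S : Subgroup G)) : G) ^ k} : Set G) :=
        hle hx
      have := (hC _ hk).2 x hx'
      rwa [pow_two] at this
    have hcomm : ∀ x ∈ (S : Subgroup G), ∀ y ∈ (S : Subgroup G), x * y = y * x := by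
      intro x hx y hy
      have hc := (hC _ hk).1
      exact congrArg Subtype.val (hc.is_comm.comm ⟨x, hle hx⟩ ⟨y, hle hy⟩)
    refine ⟨hsq, hcomm, ?_⟩
    intro t ht ot c hc
    have hle' : (S : Subgroup G) ≤ Subgroup.centralizer ({t} : Set G) :=
      fun y hy => hmemC _ y (hcomm y hy t ht)
    have heq' := S.is_maximal' (hpg t ot) hle'
    have : c ∈ Subgroup.centralizer ({t} : Set G) := hmemC t c hc
    rw [heq'] at this
    exact this
  refine
    { hC := hC'
      sq := fun S => (key S).1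
      comm := fun S => (key S).2.1
      cent := fun S => (key S).2.2
      two := ?_
      nn := ?_ }
  · intro S
    by_contra h
    push Not at h
    apply hncS S
    by_cases hex : ∃ s : (S : Subgroup G), s ≠ 1
    · obtain ⟨s, hs⟩ := hex
      refine isCyclic_iff_exists_zpowers_eq_top.2 ⟨s, eq_top_iff.2 fun x _ => ?_⟩
      by_cases hx : x = 1
      · rw [hx]; exact one_mem _
      · have hxs : x = s := by
          by_contra hne
          have hx' : (x : G) ≠ 1 := fun hh => hx (Subtype.ext hh)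
          have hs' : (s : G) ≠ 1 := fun hh => hs (Subtype.ext hh)
          exact hne (Subtype.ext (h x s x.2 s.2 hx' hs'))
        rw [hxs]; exact Subgroup.mem_zpowers s
    · push Not at hex
      refine isCyclic_iff_exists_zpowers_eq_top.2 ⟨1, eq_top_iff.2 fun x _ => ?_⟩
      rw [hex x]; exact one_mem _
  · by_contra h
    push Not at h
    have : Subsingleton (Sylow 2 G) := ⟨h⟩
    exact hnn (Sylow.normal_of_subsingleton T)

theorem ord_two (hG : Setup G) (S : Sylow 2 G) (x : G) (hx : x ∈ (S : Subgroup G))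
    (hx1 : x ≠ 1) : orderOf x = 2 :=
  orderOf_eq_prime (by rw [pow_two]; exact hG.sq S x hx) hx1

theorem inv_eq_self_of_sq {w : G} (hw : w * w = 1) : w⁻¹ = w := by
  rw [inv_eq_iff_mul_eq_one]; exact hw

/-- Every involution lies in a unique Sylow 2-subgroup. -/
theorem uniq (hG : Setup G) (S S' : Sylow 2 G) (t : G) (ht : t ≠ 1)
    (h1 : t ∈ (S : Subgroup G)) (h2 : t ∈ (S' : Subgroup G)) : S = S' := by
  have o := ord_two hG S t h1 ht
  have hle : (S : Subgroup G) ≤ (S' : Subgroup G) := fun x hx =>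
    hG.cent S' t h2 o x (hG.comm S x hx t h1)
  exact Sylow.ext (S.is_maximal' S'.isPGroup' hle).symm

theorem fix_of_mem (S : Sylow 2 G) (t : G) (ht : t ∈ (S : Subgroup G)) : t • S = S :=
  Sylow.smul_eq_iff_mem_normalizer.2 (Subgroup.le_normalizer ht)

theorem mem_of_sq_fix (S : Sylow 2 G) (t : G) (ht : t * t = 1) (hn : t • S = S) :
    t ∈ (S : Subgroup G) :=
  mem_of_pow_two S t (Sylow.smul_eq_iff_mem_normalizer.1 hn) 1
    (by rw [pow_one, pow_two]; exact ht)

theorem conj_mem_smul (g x : G) (S : Sylow 2 G) (hx : x ∈ (S : Subgroup G)) :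
    g * x * g⁻¹ ∈ ((g • S : Sylow 2 G) : Subgroup G) := by
  rw [mem_smul_iff]
  have : g⁻¹ * (g * x * g⁻¹) * g = x := by group
  rw [this]; exact hx

theorem conj_mem_of_fix (g x : G) (S : Sylow 2 G) (hg : g • S = S)
    (hx : x ∈ (S : Subgroup G)) : g * x * g⁻¹ ∈ (S : Subgroup G) := by
  have := conj_mem_smul g x S hx
  rwa [hg] at this

theorem inv_fix (g : G) (S : Sylow 2 G) (hg : g • S = S) : g⁻¹ • S = S := by
  rw [inv_smul_eq_iff, hg]

theorem mul_fix (g h : G) (S : Sylow 2 G) (hg : g • S = S) (hh : h • S = S) :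
    (g * h) • S = S := by
  rw [mul_smul, hh, hg]

theorem swap_symm (w : G) (hw : w * w = 1) (S S' : Sylow 2 G) (h : w • S = S') :
    w • S' = S := by
  rw [← h, ← mul_smul, hw, one_smul]

/-- Two distinct Sylow 2-subgroups are swapped by an involution, which can be chosen to
conjugate a given involution of the first to a given involution of the second. -/
theorem exists_swap (hG : Setup G) (S S' : Sylow 2 G) (hne : S ≠ S') (s : G)
    (hs : s ∈ (S : Subgroup G)) (hs1 : s ≠ 1) (t : G) (ht : t ∈ (S' : Subgroup G))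
    (ht1 : t ≠ 1) : ∃ w : G, w * w = 1 ∧ w * s * w⁻¹ = t ∧ w • S = S' := by
  have os := ord_two hG S s hs hs1
  have ot := ord_two hG S' t ht ht1
  have hodd : Odd (orderOf (s * t)) := by
    by_contra hodd
    rw [Nat.not_odd_iff_even] at hodd
    obtain ⟨z, hz, hzs, hzt⟩ := Cfsg.Agent.S1225.dihedral_even os ot hodd
    have hz1 : z ≠ 1 := by
      intro h; rw [h, orderOf_one] at hz; exact absurd hz (by norm_num)
    exact hne (uniq hG S S' z hz1 (hG.cent S s hs os z hzs) (hG.cent S' t ht ot z hzt))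
  obtain ⟨w, hw2, hw⟩ := Cfsg.Agent.S1225.dihedral_odd os ot hodd
  have hwinv := inv_eq_self_of_sq hw2
  have hconj : w * s * w⁻¹ = t := by rw [hwinv]; exact hw
  refine ⟨w, hw2, hconj, ?_⟩
  have hmem := conj_mem_smul w s S hs
  rw [hconj] at hmem
  exact uniq hG _ _ t ht1 hmem ht

/-- The two-point stabilizer has no involutions. -/
theorem D_sq (hG : Setup G) (S S' : Sylow 2 G) (hne : S ≠ S') (d : G) (h1 : d • S = S)
    (h2 : d • S' = S') (hd : d * d = 1) : d = 1 := by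
  by_contra hd1
  exact hne (uniq hG S S' d hd1 (mem_of_sq_fix S d hd h1) (mem_of_sq_fix S' d hd h2))

/-- An involution acting without fixed points on a finite group inverts it. -/
theorem inverts_of_fpf (K : Subgroup G) (w : G) (hw : w * w = 1)
    (hK : ∀ c ∈ K, w * c * w⁻¹ ∈ K) (fpf : ∀ c ∈ K, w * c = c * w → c = 1) :
    ∀ c ∈ K, w * c * w⁻¹ = c⁻¹ := by
  let φ : K → K := fun c => ⟨(c : G)⁻¹ * (w * c * w⁻¹), K.mul_mem (K.inv_mem c.2) (hK c c.2)⟩
  have hinj : Function.Injective φ := by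
    intro c e hce
    have h' : (c : G)⁻¹ * (w * c * w⁻¹) = (e : G)⁻¹ * (w * e * w⁻¹) := congrArg Subtype.val hce
    have hcomm : w * ((e : G) * (c : G)⁻¹) = ((e : G) * (c : G)⁻¹) * w := by
      have : (e : G) * (c : G)⁻¹ = w * ((e : G) * (c : G)⁻¹) * w⁻¹ := by
        calc (e : G) * (c : G)⁻¹
            = (e : G) * ((c : G)⁻¹ * (w * c * w⁻¹)) * (w * c * w⁻¹)⁻¹ := by group
          _ = (e : G) * ((e : G)⁻¹ * (w * e * w⁻¹)) * (w * c * w⁻¹)⁻¹ := by rw [h']
          _ = w * ((e : G) * (c : G)⁻¹) * w⁻¹ := by group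
      calc w * ((e : G) * (c : G)⁻¹) = (w * ((e : G) * (c : G)⁻¹) * w⁻¹) * w := by group
        _ = ((e : G) * (c : G)⁻¹) * w := by rw [← this]
    have := fpf _ (K.mul_mem e.2 (K.inv_mem c.2)) hcomm
    exact Subtype.ext (mul_inv_eq_one.1 this).symm
  have hsurj := Finite.surjective_of_injective hinj
  intro c hc
  obtain ⟨e, he⟩ := hsurj ⟨c, hc⟩
  have he' : (e : G)⁻¹ * (w * e * w⁻¹) = c := congrArg Subtype.val he
  rw [← he']
  calc w * ((e : G)⁻¹ * (w * e * w⁻¹)) * w⁻¹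
      = w * (e : G)⁻¹ * w⁻¹ * ((w * w) * e * (w * w)⁻¹) := by group
    _ = ((e : G)⁻¹ * (w * e * w⁻¹))⁻¹ := by rw [hw]; group

theorem comm_of_inverted (w x y : G) (i1 : w * x * w⁻¹ = x⁻¹) (i2 : w * y * w⁻¹ = y⁻¹)
    (i3 : w * (x * y) * w⁻¹ = (x * y)⁻¹) : x * y = y * x := by
  have : x⁻¹ * y⁻¹ = y⁻¹ * x⁻¹ := by
    calc x⁻¹ * y⁻¹ = (w * x * w⁻¹) * (w * y * w⁻¹) := by rw [i1, i2]
      _ = w * (x * y) * w⁻¹ := by group
      _ = y⁻¹ * x⁻¹ := by rw [i3, mul_inv_rev]
  calc x * y = (y⁻¹ * x⁻¹)⁻¹ := by group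
    _ = (x⁻¹ * y⁻¹)⁻¹ := by rw [this]
    _ = y * x := by group

/-- An involution swapping two Sylow 2-subgroups inverts their two-point stabilizer. -/
theorem swap_inverts (hG : Setup G) (S S' : Sylow 2 G) (hne : S ≠ S') (w : G)
    (hw : w * w = 1) (hsw : w • S = S') (d : G) (h1 : d • S = S) (h2 : d • S' = S') :
    w * d * w⁻¹ = d⁻¹ := by
  have hsw' := swap_symm w hw S S' hsw
  have hwinv := inv_eq_self_of_sq hw
  have hw1 : w ≠ 1 := by
    intro h; rw [h, one_smul] at hsw; exact hne hsw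
  have ow : orderOf w = 2 := orderOf_eq_prime (by rw [pow_two]; exact hw) hw1
  have hK : ∀ c ∈ MulAction.stabilizer G S ⊓ MulAction.stabilizer G S',
      w * c * w⁻¹ ∈ MulAction.stabilizer G S ⊓ MulAction.stabilizer G S' := by
    intro c hc
    obtain ⟨hc1, hc2⟩ := Subgroup.mem_inf.1 hc
    rw [MulAction.mem_stabilizer_iff] at hc1 hc2
    refine Subgroup.mem_inf.2
      ⟨MulAction.mem_stabilizer_iff.2 ?_, MulAction.mem_stabilizer_iff.2 ?_⟩
    · rw [mul_smul, mul_smul, hwinv, hsw, hc2, hsw']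
    · rw [mul_smul, mul_smul, hwinv, hsw', hc1, hsw]
  have hfpf : ∀ c ∈ MulAction.stabilizer G S ⊓ MulAction.stabilizer G S',
      w * c = c * w → c = 1 := by
    intro c hc hcw
    obtain ⟨hc1, hc2⟩ := Subgroup.mem_inf.1 hc
    rw [MulAction.mem_stabilizer_iff] at hc1 hc2
    exact D_sq hG S S' hne c hc1 hc2 (hG.hC w ow c hcw.symm)
  exact inverts_of_fpf _ w hw hK hfpf d
    (Subgroup.mem_inf.2 ⟨MulAction.mem_stabilizer_iff.2 h1, MulAction.mem_stabilizer_iff.2 h2⟩)

/-- The two-point stabilizer is abelian. -/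
theorem D_comm (hG : Setup G) (S S' : Sylow 2 G) (hne : S ≠ S') (d e : G) (hd1 : d • S = S)
    (hd2 : d • S' = S') (he1 : e • S = S) (he2 : e • S' = S') : d * e = e * d := by
  obtain ⟨s, _, hs, _, hs1, _, _⟩ := hG.two S
  obtain ⟨t, _, ht, _, ht1, _, _⟩ := hG.two S'
  obtain ⟨w, hw, _, hsw⟩ := exists_swap hG S S' hne s hs hs1 t ht ht1
  exact comm_of_inverted w d e (swap_inverts hG S S' hne w hw hsw d hd1 hd2)
    (swap_inverts hG S S' hne w hw hsw e he1 he2)
    (swap_inverts hG S S' hne w hw hsw (d * e) (mul_fix d e S hd1 he1) (mul_fix d e S' hd2 he2))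

/-- The two-point stabilizer is transitive on the involutions of `S`. -/
theorem D_trans (hG : Setup G) (S S' : Sylow 2 G) (hne : S ≠ S') (s t : G)
    (hs : s ∈ (S : Subgroup G)) (ht : t ∈ (S : Subgroup G)) (hs1 : s ≠ 1) (ht1 : t ≠ 1) :
    ∃ d : G, d • S = S ∧ d • S' = S' ∧ d * s * d⁻¹ = t := by
  obtain ⟨s', _, hs', _, hs'1, _, _⟩ := hG.two S'
  obtain ⟨u, hu, _, hsu⟩ := exists_swap hG S S' hne s hs hs1 s' hs' hs'1
  have hsu' := swap_symm u hu S S' hsu
  have ht' : u * t * u⁻¹ ∈ (S' : Subgroup G) := by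
    have := conj_mem_smul u t S ht
    rwa [hsu] at this
  have ht'1 : u * t * u⁻¹ ≠ 1 := by
    intro h
    apply ht1
    have : t = u⁻¹ * (u * t * u⁻¹) * u := by group
    rw [this, h]; group
  obtain ⟨w, hw, hwc, hsw⟩ := exists_swap hG S S' hne s hs hs1 (u * t * u⁻¹) ht' ht'1
  have hsw' := swap_symm w hw S S' hsw
  refine ⟨u * w, ?_, ?_, ?_⟩
  · rw [mul_smul, hsw, hsu']
  · rw [mul_smul, hsw', hsu]
  · calc u * w * s * (u * w)⁻¹ = u * (w * s * w⁻¹) * u⁻¹ := by group
      _ = u * (u * t * u⁻¹) * u⁻¹ := by rw [hwc]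
      _ = (u * u) * t * (u * u)⁻¹ := by group
      _ = t := by rw [hu]; group

/-- The two-point stabilizer acts semiregularly on the involutions of `S`. -/
theorem D_semireg (hG : Setup G) (S S' : Sylow 2 G) (hne : S ≠ S') (d : G) (h1 : d • S = S)
    (h2 : d • S' = S') (s : G) (hs : s ∈ (S : Subgroup G)) (hs1 : s ≠ 1)
    (hfix : d * s * d⁻¹ = s) : d = 1 := by
  have hcomm : d * s = s * d := by
    calc d * s = (d * s * d⁻¹) * d := by group
      _ = s * d := by rw [hfix]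
  have hdS := hG.cent S s hs (ord_two hG S s hs hs1) d hcomm
  exact D_sq hG S S' hne d h1 h2 (hG.sq S d hdS)

/-- `N(S) = D · S`. -/
theorem N_eq (hG : Setup G) (S S' : Sylow 2 G) (hne : S ≠ S') (h : G) (hh : h • S = S) :
    ∃ d t : G, d • S = S ∧ d • S' = S' ∧ t ∈ (S : Subgroup G) ∧ h = d * t := by
  obtain ⟨s, _, hs, _, hs1, _, _⟩ := hG.two S
  have hs' : h * s * h⁻¹ ∈ (S : Subgroup G) := conj_mem_of_fix h s S hh hs
  have hs'1 : h * s * h⁻¹ ≠ 1 := by
    intro hc; apply hs1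
    have : s = h⁻¹ * (h * s * h⁻¹) * h := by group
    rw [this, hc]; group
  obtain ⟨d, hd1, hd2, hd⟩ := D_trans hG S S' hne s (h * s * h⁻¹) hs hs' hs1 hs'1
  refine ⟨d, d⁻¹ * h, hd1, hd2, ?_, by group⟩
  apply hG.cent S s hs (ord_two hG S s hs hs1)
  calc d⁻¹ * h * s = d⁻¹ * (h * s * h⁻¹) * h := by group
    _ = d⁻¹ * (d * s * d⁻¹) * h := by rw [hd]
    _ = s * (d⁻¹ * h) := by group

theorem D_ne_one (hG : Setup G) (S S' : Sylow 2 G) (hne : S ≠ S') :
    ∃ d : G, d • S = S ∧ d • S' = S' ∧ d ≠ 1 := by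
  obtain ⟨s, t, hs, ht, hs1, ht1, hst⟩ := hG.two S
  obtain ⟨d, hd1, hd2, hd⟩ := D_trans hG S S' hne s t hs ht hs1 ht1
  refine ⟨d, hd1, hd2, ?_⟩
  rintro rfl
  apply hst
  simpa using hd

/-- An element of `N(S)` conjugating one nontrivial element of `D` into `D` lies in `D`. -/
theorem mem_D_of_conj (hG : Setup G) (S S' : Sylow 2 G) (hne : S ≠ S') (x : G)
    (hx : x • S = S) (d : G) (hd1 : d ≠ 1) (hdS : d • S = S) (hdS' : d • S' = S')
    (hconj : (x * d * x⁻¹) • S' = S') : x • S' = S' := by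
  obtain ⟨d₀, t, hd₀S, hd₀S', ht, rfl⟩ := N_eq hG S S' hne x hx
  have htS : t • S = S := fix_of_mem S t ht
  have e1 : t * d * t⁻¹ = d₀⁻¹ * (d₀ * t * d * (d₀ * t)⁻¹) * d₀ := by group
  have c1 : (t * d * t⁻¹) • S' = S' := by
    rw [e1, mul_smul, mul_smul, hd₀S', hconj, inv_fix d₀ S' hd₀S']
  have c2 : (t * d * t⁻¹ * d⁻¹) • S' = S' := by rw [mul_smul, inv_fix d S' hdS', c1]
  have c3 : (t * d * t⁻¹ * d⁻¹) • S = S := by
    rw [mul_smul, mul_smul, mul_smul, inv_fix d S hdS, inv_fix t S htS, hdS, htS]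
  have c4 : t * d * t⁻¹ * d⁻¹ ∈ (S : Subgroup G) := by
    have : t * d * t⁻¹ * d⁻¹ = t * (d * t⁻¹ * d⁻¹) := by group
    rw [this]
    exact mul_mem ht (conj_mem_of_fix d t⁻¹ S hdS (inv_mem ht))
  have c5 : t * d * t⁻¹ * d⁻¹ = 1 := D_sq hG S S' hne _ c3 c2 (hG.sq S _ c4)
  have ht1 : t = 1 := by
    by_contra ht1
    apply hd1
    apply D_semireg hG S S' hne d hdS hdS' t ht ht1
    have : d * t * d⁻¹ = (t * d * t⁻¹ * d⁻¹)⁻¹ * t := by group
    rw [this, c5]; group
  rw [ht1, mul_one]; exact hd₀S'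

/-- The two-point stabilizer of `S`, `S'` fixes no third Sylow 2-subgroup. -/
theorem fix_D (hG : Setup G) (S S' : Sylow 2 G) (hne : S ≠ S') (S'' : Sylow 2 G)
    (hfix : ∀ d : G, d • S = S → d • S' = S' → d • S'' = S'') : S'' = S ∨ S'' = S' := by
  by_contra hcon
  push Not at hcon
  obtain ⟨h1, h2⟩ := hcon
  obtain ⟨s, _, hs, _, hs1, _, _⟩ := hG.two S
  obtain ⟨s', _, hs', _, hs'1, _, _⟩ := hG.two S'
  obtain ⟨s'', _, hs'', _, hs''1, _, _⟩ := hG.two S''
  obtain ⟨u, hu, _, hsu⟩ := exists_swap hG S S' hne s hs hs1 s' hs' hs'1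
  obtain ⟨v, hv, _, hsv⟩ := exists_swap hG S S'' (Ne.symm h1) s hs hs1 s'' hs'' hs''1
  obtain ⟨w, hw, _, hsw⟩ := exists_swap hG S'' S' h2 s'' hs'' hs''1 s' hs' hs'1
  have hsu' := swap_symm u hu S S' hsu
  have hsv' := swap_symm v hv S S'' hsv
  have hsw' := swap_symm w hw S'' S' hsw
  obtain ⟨d, hdS, hdS', hd1⟩ := D_ne_one hG S S' hne
  have hdS'' := hfix d hdS hdS'
  have iu := swap_inverts hG S S' hne u hu hsu d hdS hdS'
  have iv := swap_inverts hG S S'' (Ne.symm h1) v hv hsv d hdS hdS''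
  have iw := swap_inverts hG S'' S' h2 w hw hsw d hdS'' hdS'
  have hxS'' : (w * u * v) • S'' = S'' := by rw [mul_smul, mul_smul, hsv', hsu, hsw']
  have hxd : (w * u * v) * d * (w * u * v)⁻¹ = d⁻¹ := by
    calc (w * u * v) * d * (w * u * v)⁻¹ = w * (u * (v * d * v⁻¹) * u⁻¹) * w⁻¹ := by group
      _ = w * (u * d⁻¹ * u⁻¹) * w⁻¹ := by rw [iv]
      _ = w * (u * d * u⁻¹)⁻¹ * w⁻¹ := by group
      _ = w * d * w⁻¹ := by rw [iu, inv_inv]
      _ = d⁻¹ := iw
  have hxS : (w * u * v) • S = S := by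
    apply mem_D_of_conj hG S'' S h1 (w * u * v) hxS'' d hd1 hdS'' hdS
    rw [hxd]; exact inv_fix d S hdS
  have hcomm := D_comm hG S'' S h1 (w * u * v) d hxS'' hxS hdS'' hdS
  have hdd : d * d = 1 := by
    have e1 : (w * u * v) * d * (w * u * v)⁻¹ = d := by rw [hcomm]; group
    rw [hxd] at e1
    calc d * d = d⁻¹ * d := by rw [e1]
      _ = 1 := by group
  exact hd1 (D_sq hG S S' hne d hdS hdS' hdd)

theorem three_fix_aux (hG : Setup G) (a b c : Sylow 2 G) (hab : a ≠ b) (hac : a ≠ c)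
    (hbc : b ≠ c) (g : G) (hg : g ≠ 1) (ha : g • a = a) (hb : g • b = b) (hc : g • c = c) :
    ∀ x : G, x • a = a → x • c = c → x • b = b := by
  obtain ⟨s, _, hs, _, hs1, _, _⟩ := hG.two a
  obtain ⟨t, _, ht, _, ht1, _, _⟩ := hG.two b
  obtain ⟨u, hu, _, hsu⟩ := exists_swap hG a b hab s hs hs1 t ht ht1
  have hu1 : u ≠ 1 := by intro h; rw [h, one_smul] at hsu; exact hab hsu
  have ou : orderOf u = 2 := orderOf_eq_prime (by rw [pow_two]; exact hu) hu1
  have iu := swap_inverts hG a b hab u hu hsu g ha hb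
  have noinv : ∀ c₀ : G, c₀ * g = g * c₀ → c₀ * c₀ = 1 → c₀ = 1 := by
    intro c₀ hc₀ hsq
    by_contra hc₀1
    have o : orderOf c₀ = 2 := orderOf_eq_prime (by rw [pow_two]; exact hsq) hc₀1
    exact hg (D_sq hG a b hab g ha hb (hG.hC c₀ o g hc₀.symm))
  have hmemC : ∀ c₀ : G, c₀ * g = g * c₀ → c₀ ∈ Subgroup.centralizer ({g} : Set G) := by
    intro c₀ hc₀
    rw [Subgroup.mem_centralizer_iff]
    intro y hy
    rw [Set.mem_singleton_iff] at hy
    rw [hy]; exact hc₀.symm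
  have hg' : u * g⁻¹ * u⁻¹ = g := by
    calc u * g⁻¹ * u⁻¹ = (u * g * u⁻¹)⁻¹ := by group
      _ = g := by rw [iu, inv_inv]
  have inv : ∀ c₀ ∈ Subgroup.centralizer ({g} : Set G), u * c₀ * u⁻¹ = c₀⁻¹ := by
    apply inverts_of_fpf _ u hu
    · intro c₀ hc₀
      have h0 : g * c₀ = c₀ * g := Subgroup.mem_centralizer_iff.1 hc₀ g (Set.mem_singleton g)
      apply hmemC
      have hcg : g⁻¹ * c₀ = c₀ * g⁻¹ := by
        calc g⁻¹ * c₀ = g⁻¹ * (c₀ * g) * g⁻¹ := by group
          _ = g⁻¹ * (g * c₀) * g⁻¹ := by rw [h0]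
          _ = c₀ * g⁻¹ := by group
      symm
      calc g * (u * c₀ * u⁻¹) = (u * g⁻¹ * u⁻¹) * (u * c₀ * u⁻¹) := by rw [hg']
        _ = u * (g⁻¹ * c₀) * u⁻¹ := by group
        _ = u * (c₀ * g⁻¹) * u⁻¹ := by rw [hcg]
        _ = (u * c₀ * u⁻¹) * (u * g⁻¹ * u⁻¹) := by group
        _ = (u * c₀ * u⁻¹) * g := by rw [hg']
    · intro c₀ hc₀ hcu
      have h0 : g * c₀ = c₀ * g := Subgroup.mem_centralizer_iff.1 hc₀ g (Set.mem_singleton g)
      exact noinv c₀ h0.symm (hG.hC u ou c₀ hcu.symm)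
  have cab : ∀ x y : G, x * g = g * x → y * g = g * y → x * y = y * x := by
    intro x y hx hy
    have mx := hmemC x hx
    have my := hmemC y hy
    exact comm_of_inverted u x y (inv x mx) (inv y my) (inv (x * y) (mul_mem mx my))
  intro x hxa hxc
  have hxg : x * g = g * x := D_comm hG a c hac x g hxa hxc ha hc
  have hfix : ∀ y : G, y • a = a → y • b = b → y • (x • b) = x • b := by
    intro y hya hyb
    have hyg : y * g = g * y := D_comm hG a b hab y g hya hyb ha hb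
    rw [← mul_smul, ← cab x y hxg hyg, mul_smul, hyb]
  rcases fix_D hG a b hab (x • b) hfix with h | h
  · exfalso
    rw [← hxa] at h
    exact hab (smul_left_cancel x h).symm
  · exact h

/-- Only the identity fixes three distinct Sylow 2-subgroups. -/
theorem three_fix (hG : Setup G) (a b c : Sylow 2 G) (hab : a ≠ b) (hac : a ≠ c)
    (hbc : b ≠ c) (g : G) (ha : g • a = a) (hb : g • b = b) (hc : g • c = c) : g = 1 := by
  by_contra hg
  have h1 := three_fix_aux hG a c b hac hab (Ne.symm hbc) g hg ha hc hb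
  rcases fix_D hG a b hab c h1 with h | h
  · exact hac h.symm
  · exact hbc h.symm

/-- A Sylow 2-subgroup is transitive on the other Sylow 2-subgroups. -/
theorem S_trans (hG : Setup G) (S S' S'' : Sylow 2 G) (h1 : S' ≠ S) (h2 : S'' ≠ S) :
    ∃ t ∈ (S : Subgroup G), t • S' = S'' := by
  obtain ⟨g, hgS, hgS'', hg1⟩ := D_ne_one hG S S'' (Ne.symm h2)
  obtain ⟨d, t, hdS, hdS', ht, rfl⟩ := N_eq hG S S' (Ne.symm h1) g hgS
  have htS : t • S = S := fix_of_mem S t ht
  have hd1 : d ≠ 1 := by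
    rintro rfl
    apply hg1
    rw [one_mul] at hgS'' ⊢
    exact D_sq hG S S'' (Ne.symm h2) t htS hgS'' (hG.sq S t ht)
  let ψ : ↥(S : Subgroup G) → ↥(S : Subgroup G) := fun t' =>
    ⟨d⁻¹ * (t' : G) * d * (t' : G)⁻¹, by
      have : d⁻¹ * (t' : G) * d * (t' : G)⁻¹ = (d⁻¹ * (t' : G) * d⁻¹⁻¹) * (t' : G)⁻¹ := by group
      rw [this]
      exact mul_mem (conj_mem_of_fix d⁻¹ t' S (inv_fix d S hdS) t'.2) (inv_mem t'.2)⟩
  have hinj : Function.Injective ψ := by
    intro t₁ t₂ h12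
    have h' : d⁻¹ * (t₁ : G) * d * (t₁ : G)⁻¹ = d⁻¹ * (t₂ : G) * d * (t₂ : G)⁻¹ :=
      congrArg Subtype.val h12
    by_contra hne12
    have hr : (t₂ : G)⁻¹ * (t₁ : G) ∈ (S : Subgroup G) := mul_mem (inv_mem t₂.2) t₁.2
    have hr1 : (t₂ : G)⁻¹ * (t₁ : G) ≠ 1 := by
      intro hh
      apply hne12
      apply Subtype.ext
      exact (inv_mul_eq_one.1 hh).symm
    apply hd1
    apply D_semireg hG S S' (Ne.symm h1) d hdS hdS' _ hr hr1
    have e1 : (t₁ : G) * d * (t₁ : G)⁻¹ = (t₂ : G) * d * (t₂ : G)⁻¹ := by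
      calc (t₁ : G) * d * (t₁ : G)⁻¹ = d * (d⁻¹ * (t₁ : G) * d * (t₁ : G)⁻¹) := by group
        _ = d * (d⁻¹ * (t₂ : G) * d * (t₂ : G)⁻¹) := by rw [h']
        _ = (t₂ : G) * d * (t₂ : G)⁻¹ := by group
    calc d * ((t₂ : G)⁻¹ * (t₁ : G)) * d⁻¹
        = (t₂ : G)⁻¹ * ((t₂ : G) * d * (t₂ : G)⁻¹) * (t₁ : G) * d⁻¹ := by group
      _ = (t₂ : G)⁻¹ * ((t₁ : G) * d * (t₁ : G)⁻¹) * (t₁ : G) * d⁻¹ := by rw [e1]
      _ = (t₂ : G)⁻¹ * (t₁ : G) := by group
  obtain ⟨t', ht'⟩ := Finite.surjective_of_injective hinj ⟨t, ht⟩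
  have ht'' : d⁻¹ * (t' : G) * d * (t' : G)⁻¹ = t := congrArg Subtype.val ht'
  have hg : d * t = (t' : G) * d * (t' : G)⁻¹ := by rw [← ht'']; group
  refine ⟨t', t'.2, ?_⟩
  by_contra hne
  apply hg1
  have ht'S : (t' : G) • S = S := fix_of_mem S t' t'.2
  apply three_fix hG S ((t' : G) • S') S'' ?_ (Ne.symm h2) hne (d * t) hgS ?_ hgS''
  · intro h
    apply h1
    have := congrArg (fun X => (t' : G)⁻¹ • X) h
    simp only [inv_smul_smul] at this
    rw [inv_fix _ S ht'S] at this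
    exact this.symm
  · rw [hg, ← mul_smul]
    have : (t' : G) * d * (t' : G)⁻¹ * (t' : G) = (t' : G) * d := by group
    rw [this, mul_smul, hdS']

theorem S_trans_unique (hG : Setup G) (S S' : Sylow 2 G) (h1 : S' ≠ S) (t₁ t₂ : G)
    (ht₁ : t₁ ∈ (S : Subgroup G)) (ht₂ : t₂ ∈ (S : Subgroup G)) (h : t₁ • S' = t₂ • S') :
    t₁ = t₂ := by
  have hr : (t₂⁻¹ * t₁) ∈ (S : Subgroup G) := mul_mem (inv_mem ht₂) ht₁
  have h' : (t₂⁻¹ * t₁) • S' = S' := by rw [mul_smul, h, inv_smul_smul]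
  have := D_sq hG S S' (Ne.symm h1) _ (fix_of_mem S _ hr) h' (hG.sq S _ hr)
  exact (inv_mul_eq_one.1 this).symm

/-- The action on Sylow 2-subgroups is triply transitive. -/
theorem three_trans (hG : Setup G) (x₁ x₂ x₃ y₁ y₂ y₃ : Sylow 2 G) (hx12 : x₁ ≠ x₂)
    (hx13 : x₁ ≠ x₃) (hx23 : x₂ ≠ x₃) (hy12 : y₁ ≠ y₂) (hy13 : y₁ ≠ y₃) (hy23 : y₂ ≠ y₃) :
    ∃ g : G, g • x₁ = y₁ ∧ g • x₂ = y₂ ∧ g • x₃ = y₃ := by
  obtain ⟨g₁, hg₁⟩ := MulAction.exists_smul_eq G x₁ y₁
  have h2 : g₁ • x₂ ≠ y₁ := by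
    rw [← hg₁]; exact fun h => hx12 (smul_left_cancel g₁ h).symm
  have h3 : g₁ • x₃ ≠ y₁ := by
    rw [← hg₁]; exact fun h => hx13 (smul_left_cancel g₁ h).symm
  have h23 : g₁ • x₂ ≠ g₁ • x₃ := fun h => hx23 (smul_left_cancel g₁ h)
  obtain ⟨t, ht, htx⟩ := S_trans hG y₁ (g₁ • x₂) y₂ h2 (Ne.symm hy12)
  have hty : t • y₁ = y₁ := fix_of_mem y₁ t ht
  have hz1 : t • g₁ • x₃ ≠ y₁ := by
    intro h; apply h3; rw [← hty] at h; exact smul_left_cancel t h
  have hz2 : t • g₁ • x₃ ≠ y₂ := by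
    intro h; apply h23; rw [← htx] at h; exact (smul_left_cancel t h).symm
  obtain ⟨t₃, ht₃, ht₃z⟩ := S_trans hG y₁ y₂ (t • g₁ • x₃) (Ne.symm hy12) hz1
  obtain ⟨t₃', ht₃', ht₃y⟩ := S_trans hG y₁ y₂ y₃ (Ne.symm hy12) (Ne.symm hy13)
  have ht₃1 : t₃ ≠ 1 := by rintro rfl; rw [one_smul] at ht₃z; exact hz2 ht₃z.symm
  have ht₃'1 : t₃' ≠ 1 := by rintro rfl; rw [one_smul] at ht₃y; exact hy23 ht₃y
  obtain ⟨d, hd1, hd2, hd⟩ := D_trans hG y₁ y₂ hy12 t₃ t₃' ht₃ ht₃' ht₃1 ht₃'1
  refine ⟨d * t * g₁, ?_, ?_, ?_⟩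
  · rw [mul_smul, mul_smul, hg₁, hty, hd1]
  · rw [mul_smul, mul_smul, htx, hd2]
  · have e : d • t₃ • y₂ = y₃ := by
      rw [← ht₃y, ← hd, mul_smul, mul_smul, inv_fix d y₂ hd2]
    rw [mul_smul, mul_smul, ← ht₃z]; exact e


/-! ### Interface with normalizers and cosets -/

theorem map_conj_normalizer (S : Sylow 2 G) (u : G) :
    (Subgroup.normalizer ((S : Subgroup G) : Set G)).map (MulAut.conj u).toMonoidHom =
      Subgroup.normalizer (((u • S : Sylow 2 G) : Subgroup G) : Set G) := by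
  ext x
  rw [Subgroup.mem_map]
  constructor
  · rintro ⟨h, hh, rfl⟩
    have hh' : h • S = S := Sylow.smul_eq_iff_mem_normalizer.2 hh
    apply Sylow.smul_eq_iff_mem_normalizer.1
    simp only [MulEquiv.coe_toMonoidHom, MulAut.conj_apply]
    rw [← mul_smul]
    have : u * h * u⁻¹ * u = u * h := by group
    rw [this, mul_smul, hh']
  · intro hx
    have hx' : x • (u • S) = u • S := Sylow.smul_eq_iff_mem_normalizer.2 hx
    refine ⟨u⁻¹ * x * u, Sylow.smul_eq_iff_mem_normalizer.1 ?_, ?_⟩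
    · rw [mul_smul, mul_smul, hx', inv_smul_smul]
    · simp only [MulEquiv.coe_toMonoidHom, MulAut.conj_apply]
      group

theorem mem_D_iff (S S' : Sylow 2 G) (d : G) :
    d ∈ Subgroup.normalizer ((S : Subgroup G) : Set G) ⊓
        Subgroup.normalizer ((S' : Subgroup G) : Set G) ↔ d • S = S ∧ d • S' = S' := by
  rw [Subgroup.mem_inf]
  exact and_congr Sylow.smul_eq_iff_mem_normalizer.symm Sylow.smul_eq_iff_mem_normalizer.symm

theorem mk_eq_iff (T : Sylow 2 G) (g g' : G) :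
    (QuotientGroup.mk g : G ⧸ Subgroup.normalizer ((T : Subgroup G) : Set G)) =
      QuotientGroup.mk g' ↔ g • T = g' • T := by
  rw [QuotientGroup.eq]
  constructor
  · intro h
    have h' : (g⁻¹ * g') • T = T := Sylow.smul_eq_iff_mem_normalizer.2 h
    rw [mul_smul, inv_smul_eq_iff] at h'
    exact h'.symm
  · intro h
    apply Sylow.smul_eq_iff_mem_normalizer.1
    rw [mul_smul, inv_smul_eq_iff]
    exact h.symm

theorem ne_smul_of_not_mem (T : Sylow 2 G) (u : G)
    (huH : u ∉ Subgroup.normalizer ((T : Subgroup G) : Set G)) : T ≠ u • T :=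
  fun h => huH (Sylow.smul_eq_iff_mem_normalizer.1 h.symm)

theorem sq_of_orderOf_two {u : G} (hu : orderOf u = 2) : u * u = 1 := by
  rw [← pow_two, ← hu, pow_orderOf_eq_one]

/-- `N(T)` is strongly embedded. -/
theorem strongly_embedded (hG : Setup G) (T : Sylow 2 G) :
    Cfsg.IsStronglyEmbedded (Subgroup.normalizer ((T : Subgroup G) : Set G)) := by
  refine ⟨?_, ?_, ?_⟩
  · intro htop
    obtain ⟨S, S', hSS'⟩ := hG.nn
    have h : ∀ X : Sylow 2 G, X = T := by
      intro X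
      obtain ⟨g, hg⟩ := MulAction.exists_smul_eq G T X
      rw [← hg]
      apply Sylow.smul_eq_iff_mem_normalizer.2
      have : g ∈ Subgroup.normalizer ((T : Subgroup G) : Set G) := by
        rw [htop]; exact Subgroup.mem_top g
      exact this
    exact hSS' ((h S).trans (h S').symm)
  · obtain ⟨s, _, hs, _, hs1, _, _⟩ := hG.two T
    have o := ord_two hG T s hs hs1
    have hsN : s ∈ Subgroup.normalizer ((T : Subgroup G) : Set G) := Subgroup.le_normalizer hs
    have := Subgroup.orderOf_dvd_natCard _ hsN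
    rw [o] at this
    exact even_iff_two_dvd.2 this
  · intro g hg
    have hne : T ≠ g • T := ne_smul_of_not_mem T g hg
    rw [map_conj_normalizer]
    by_contra hodd
    rw [Nat.not_odd_iff_even, even_iff_two_dvd] at hodd
    obtain ⟨x, hx⟩ := exists_prime_orderOf_dvd_card' 2 hodd
    have hx2 : orderOf (x : G) = 2 := by rw [Subgroup.orderOf_coe]; exact hx
    obtain ⟨h1, h2⟩ := (mem_D_iff T (g • T) x).1 x.2
    have := D_sq hG T (g • T) hne x h1 h2 (sq_of_orderOf_two hx2)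
    rw [this, orderOf_one] at hx2
    exact absurd hx2 (by norm_num)

/-- `|D| + 1 = |S|`. -/
theorem card_D (hG : Setup G) (S S' : Sylow 2 G) (hne : S ≠ S') :
    Nat.card ↥(Subgroup.normalizer ((S : Subgroup G) : Set G) ⊓
      Subgroup.normalizer ((S' : Subgroup G) : Set G)) + 1 = Nat.card (S : Subgroup G) := by
  classical
  obtain ⟨s₀, _, hs₀, _, hs₀1, _, _⟩ := hG.two S
  let f : ↥(Subgroup.normalizer ((S : Subgroup G) : Set G) ⊓
      Subgroup.normalizer ((S' : Subgroup G) : Set G)) → {t : (S : Subgroup G) // t ≠ 1} :=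
    fun d => ⟨⟨(d : G) * s₀ * (d : G)⁻¹,
      conj_mem_of_fix (d : G) s₀ S ((mem_D_iff S S' d).1 d.2).1 hs₀⟩, by
        intro h
        apply hs₀1
        have h' : (d : G) * s₀ * (d : G)⁻¹ = 1 := congrArg Subtype.val h
        have : s₀ = (d : G)⁻¹ * ((d : G) * s₀ * (d : G)⁻¹) * d := by group
        rw [this, h']; group⟩
  have hf : Function.Bijective f := by
    constructor
    · intro d e hde
      have h' : (d : G) * s₀ * (d : G)⁻¹ = (e : G) * s₀ * (e : G)⁻¹ :=
        congrArg (fun z => z.1.1) hde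
      obtain ⟨hd1, hd2⟩ := (mem_D_iff S S' d).1 d.2
      obtain ⟨he1, he2⟩ := (mem_D_iff S S' e).1 e.2
      have hr := D_semireg hG S S' hne ((e : G)⁻¹ * (d : G))
        (mul_fix _ _ S (inv_fix _ S he1) hd1) (mul_fix _ _ S' (inv_fix _ S' he2) hd2) s₀ hs₀ hs₀1
        (by
          calc (e : G)⁻¹ * (d : G) * s₀ * ((e : G)⁻¹ * (d : G))⁻¹
              = (e : G)⁻¹ * ((d : G) * s₀ * (d : G)⁻¹) * (e : G) := by group
            _ = (e : G)⁻¹ * ((e : G) * s₀ * (e : G)⁻¹) * (e : G) := by rw [h']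
            _ = s₀ := by group)
      exact Subtype.ext (inv_mul_eq_one.1 hr).symm
    · rintro ⟨⟨t, ht⟩, ht1⟩
      have ht1' : t ≠ 1 := fun hh => ht1 (Subtype.ext hh)
      obtain ⟨d, hd1, hd2, hd⟩ := D_trans hG S S' hne s₀ t hs₀ ht hs₀1 ht1'
      exact ⟨⟨d, (mem_D_iff S S' d).2 ⟨hd1, hd2⟩⟩, Subtype.ext (Subtype.ext hd)⟩
  rw [Nat.card_congr (Equiv.ofBijective f hf), ← Finite.card_option]
  exact Nat.card_congr (Equiv.optionSubtypeNe 1)

/-- The statement of S1227 in terms of `Setup`. -/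
theorem complement_main (hG : Setup G) (T : Sylow 2 G) (u : G) (hu : orderOf u = 2)
    (huH : u ∉ Subgroup.normalizer ((T : Subgroup G) : Set G)) :
    (∀ d ∈ Subgroup.normalizer ((T : Subgroup G) : Set G) ⊓
        (Subgroup.normalizer ((T : Subgroup G) : Set G)).map (MulAut.conj u).toMonoidHom,
        u * d * u⁻¹ = d⁻¹) ∧
      Nat.card (Subgroup.normalizer ((T : Subgroup G) : Set G)) =
        Nat.card T * (Nat.card T - 1) ∧
      Subgroup.IsComplement'
        ((Subgroup.normalizer ((T : Subgroup G) : Set G) ⊓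
          (Subgroup.normalizer ((T : Subgroup G) : Set G)).map
            (MulAut.conj u).toMonoidHom).subgroupOf
          (Subgroup.normalizer ((T : Subgroup G) : Set G)))
        ((T : Subgroup G).subgroupOf (Subgroup.normalizer ((T : Subgroup G) : Set G))) := by
  have hne : T ≠ u • T := ne_smul_of_not_mem T u huH
  have hu2 := sq_of_orderOf_two hu
  rw [map_conj_normalizer]
  have hcompl : Subgroup.IsComplement'
      ((Subgroup.normalizer ((T : Subgroup G) : Set G) ⊓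
        Subgroup.normalizer (((u • T : Sylow 2 G) : Subgroup G) : Set G)).subgroupOf
        (Subgroup.normalizer ((T : Subgroup G) : Set G)))
      ((T : Subgroup G).subgroupOf (Subgroup.normalizer ((T : Subgroup G) : Set G))) := by
    apply Subgroup.isComplement'_of_disjoint_and_mul_eq_univ
    · rw [Subgroup.disjoint_def]
      intro x hx1 hx2
      rw [Subgroup.mem_subgroupOf] at hx1 hx2
      obtain ⟨h1, h2⟩ := (mem_D_iff T (u • T) x).1 hx1
      exact Subtype.ext (D_sq hG T (u • T) hne x h1 h2 (hG.sq T x hx2))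
    · apply Set.eq_univ_iff_forall.2
      intro h
      have hh : (h : G) • T = T := Sylow.smul_eq_iff_mem_normalizer.2 h.2
      obtain ⟨d, t, hd1, hd2, ht, hdt⟩ := N_eq hG T (u • T) hne h hh
      refine Set.mem_mul.2 ⟨⟨d, Sylow.smul_eq_iff_mem_normalizer.1 hd1⟩, ?_,
        ⟨t, Subgroup.le_normalizer ht⟩, ?_, ?_⟩
      · exact Subgroup.mem_subgroupOf.2 ((mem_D_iff T (u • T) d).2 ⟨hd1, hd2⟩)
      · exact Subgroup.mem_subgroupOf.2 ht
      · exact Subtype.ext hdt.symm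
  refine ⟨?_, ?_, hcompl⟩
  · intro d hd
    obtain ⟨h1, h2⟩ := (mem_D_iff T (u • T) d).1 hd
    exact swap_inverts hG T (u • T) hne u hu2 rfl d h1 h2
  · have h1 := hcompl.card_mul_card
    have h2 : Nat.card ↥((T : Subgroup G).subgroupOf
        (Subgroup.normalizer ((T : Subgroup G) : Set G))) = Nat.card (T : Subgroup G) :=
      Nat.card_congr (Subgroup.subgroupOfEquivOfLe Subgroup.le_normalizer).toEquiv
    have h3 : Nat.card ↥((Subgroup.normalizer ((T : Subgroup G) : Set G) ⊓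
        Subgroup.normalizer (((u • T : Sylow 2 G) : Subgroup G) : Set G)).subgroupOf
        (Subgroup.normalizer ((T : Subgroup G) : Set G))) =
        Nat.card ↥(Subgroup.normalizer ((T : Subgroup G) : Set G) ⊓
        Subgroup.normalizer (((u • T : Sylow 2 G) : Subgroup G) : Set G)) :=
      Nat.card_congr (Subgroup.subgroupOfEquivOfLe inf_le_left).toEquiv
    have h4 := card_D hG T (u • T) hne
    rw [h2, h3] at h1
    have h5 : Nat.card ↥(Subgroup.normalizer ((T : Subgroup G) : Set G) ⊓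
        Subgroup.normalizer (((u • T : Sylow 2 G) : Subgroup G) : Set G)) =
        Nat.card (T : Subgroup G) - 1 := by omega
    rw [← h1, h5, mul_comm]

/-- The statement of S1228 in terms of `Setup`. -/
theorem normalizer_main (hG : Setup G) (T : Sylow 2 G) (u : G) (hu : orderOf u = 2)
    (huH : u ∉ Subgroup.normalizer ((T : Subgroup G) : Set G)) :
    Subgroup.normalizer ((Subgroup.normalizer ((T : Subgroup G) : Set G) ⊓
        (Subgroup.normalizer ((T : Subgroup G) : Set G)).map (MulAut.conj u).toMonoidHom :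
        Subgroup G) : Set G) =
      (Subgroup.normalizer ((T : Subgroup G) : Set G) ⊓
        (Subgroup.normalizer ((T : Subgroup G) : Set G)).map (MulAut.conj u).toMonoidHom) ⊔
        Subgroup.zpowers u ∧
    ∀ g : G, ((∀ d ∈ Subgroup.normalizer ((T : Subgroup G) : Set G) ⊓
        (Subgroup.normalizer ((T : Subgroup G) : Set G)).map (MulAut.conj u).toMonoidHom,
        d • (QuotientGroup.mk g : G ⧸ Subgroup.normalizer ((T : Subgroup G) : Set G)) =
          QuotientGroup.mk g) ↔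
      (QuotientGroup.mk g : G ⧸ Subgroup.normalizer ((T : Subgroup G) : Set G)) =
        QuotientGroup.mk 1 ∨
      (QuotientGroup.mk g : G ⧸ Subgroup.normalizer ((T : Subgroup G) : Set G)) =
        QuotientGroup.mk u) := by
  have hne : T ≠ u • T := ne_smul_of_not_mem T u huH
  have hu2 := sq_of_orderOf_two hu
  have huinv := inv_eq_self_of_sq hu2
  have hsu' : u • (u • T) = T := swap_symm u hu2 T (u • T) rfl
  rw [map_conj_normalizer]
  constructor
  · apply le_antisymm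
    · intro x hx
      rw [Subgroup.mem_normalizer_iff] at hx
      -- `x • T` is fixed by `D`
      have hfix : ∀ d : G, d • T = T → d • (u • T) = u • T → d • (x • T) = x • T := by
        intro d hd1 hd2
        have hmem : x * (x⁻¹ * d * x) * x⁻¹ ∈ Subgroup.normalizer ((T : Subgroup G) : Set G) ⊓
            Subgroup.normalizer (((u • T : Sylow 2 G) : Subgroup G) : Set G) := by
          have : x * (x⁻¹ * d * x) * x⁻¹ = d := by group
          rw [this]; exact (mem_D_iff T (u • T) d).2 ⟨hd1, hd2⟩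
        have h1 := ((mem_D_iff T (u • T) _).1 ((hx _).2 hmem)).1
        have : d * x = x * (x⁻¹ * d * x) := by group
        rw [← mul_smul, this, mul_smul, h1]
      obtain ⟨d, hd1, hd2, hdne⟩ := D_ne_one hG T (u • T) hne
      have hconj := (mem_D_iff T (u • T) _).1
        ((hx d).1 ((mem_D_iff T (u • T) d).2 ⟨hd1, hd2⟩))
      rcases fix_D hG T (u • T) hne (x • T) hfix with h | h
      · have hx' := mem_D_of_conj hG T (u • T) hne x h d hdne hd1 hd2 hconj.2
        exact Subgroup.mem_sup_left ((mem_D_iff T (u • T) x).2 ⟨h, hx'⟩)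
      · have h1 : (u * x) • T = T := by rw [mul_smul, h, hsu']
        have h2 : ((u * x) * d * (u * x)⁻¹) • (u • T) = u • T := by
          have : (u * x) * d * (u * x)⁻¹ = u * (x * d * x⁻¹) * u⁻¹ := by group
          rw [this, swap_inverts hG T (u • T) hne u hu2 rfl _ hconj.1 hconj.2]
          exact inv_fix _ _ hconj.2
        have hx' := mem_D_of_conj hG T (u • T) hne (u * x) h1 d hdne hd1 hd2 h2
        have : x = u * (u * x) := by rw [← mul_assoc, hu2, one_mul]
        rw [this]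
        exact Subgroup.mul_mem _ (Subgroup.mem_sup_right (Subgroup.mem_zpowers u))
          (Subgroup.mem_sup_left ((mem_D_iff T (u • T) _).2 ⟨h1, hx'⟩))
    · apply sup_le
      · exact Subgroup.le_normalizer
      · rw [Subgroup.zpowers_le]
        rw [Subgroup.mem_normalizer_iff]
        intro d
        constructor
        · intro hd
          obtain ⟨h1, h2⟩ := (mem_D_iff T (u • T) d).1 hd
          rw [swap_inverts hG T (u • T) hne u hu2 rfl d h1 h2]
          exact inv_mem hd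
        · intro hd
          obtain ⟨h1, h2⟩ := (mem_D_iff T (u • T) _).1 hd
          have := swap_inverts hG T (u • T) hne u hu2 rfl _ h1 h2
          have e : u * (u * d * u⁻¹) * u⁻¹ = d := by
            calc u * (u * d * u⁻¹) * u⁻¹ = (u * u) * d * (u * u)⁻¹ := by group
              _ = d := by rw [hu2]; group
          rw [e] at this
          have hd' := inv_mem hd
          rw [← this] at hd'
          exact hd'
  · intro g
    rw [mk_eq_iff, mk_eq_iff, one_smul]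
    constructor
    · intro h
      apply fix_D hG T (u • T) hne (g • T)
      intro d hd1 hd2
      have := h d ((mem_D_iff T (u • T) d).2 ⟨hd1, hd2⟩)
      rw [MulAction.Quotient.smul_mk, mk_eq_iff, smul_eq_mul, mul_smul] at this
      exact this
    · intro h d hd
      obtain ⟨hd1, hd2⟩ := (mem_D_iff T (u • T) d).1 hd
      rw [MulAction.Quotient.smul_mk, mk_eq_iff, smul_eq_mul, mul_smul]
      rcases h with h | h
      · rw [h, hd1]
      · rw [h, hd2]

/-- The statement of S1229 in terms of `Setup`. -/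
theorem triply_transitive_main (hG : Setup G) (T : Sylow 2 G) :
    (∀ x₁ x₂ x₃ y₁ y₂ y₃ : G ⧸ Subgroup.normalizer ((T : Subgroup G) : Set G),
      x₁ ≠ x₂ → x₁ ≠ x₃ → x₂ ≠ x₃ → y₁ ≠ y₂ → y₁ ≠ y₃ → y₂ ≠ y₃ →
      ∃ g : G, g • x₁ = y₁ ∧ g • x₂ = y₂ ∧ g • x₃ = y₃) ∧
    (∀ g : G, ∀ x₁ x₂ x₃ : G ⧸ Subgroup.normalizer ((T : Subgroup G) : Set G),
      x₁ ≠ x₂ → x₁ ≠ x₃ → x₂ ≠ x₃ → g • x₁ = x₁ → g • x₂ = x₂ → g • x₃ = x₃ → g = 1) ∧
    (∀ x y : G ⧸ Subgroup.normalizer ((T : Subgroup G) : Set G),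
      x ≠ QuotientGroup.mk 1 → y ≠ QuotientGroup.mk 1 → ∃! t : G, t ∈ T ∧ t • x = y) := by
  have hsm : ∀ g a : G, g • (QuotientGroup.mk a :
      G ⧸ Subgroup.normalizer ((T : Subgroup G) : Set G)) = QuotientGroup.mk (g * a) :=
    fun g a => rfl
  refine ⟨?_, ?_, ?_⟩
  · intro x₁ x₂ x₃ y₁ y₂ y₃
    obtain ⟨a₁, rfl⟩ := QuotientGroup.mk_surjective x₁
    obtain ⟨a₂, rfl⟩ := QuotientGroup.mk_surjective x₂
    obtain ⟨a₃, rfl⟩ := QuotientGroup.mk_surjective x₃
    obtain ⟨b₁, rfl⟩ := QuotientGroup.mk_surjective y₁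
    obtain ⟨b₂, rfl⟩ := QuotientGroup.mk_surjective y₂
    obtain ⟨b₃, rfl⟩ := QuotientGroup.mk_surjective y₃
    intro h12 h13 h23 k12 k13 k23
    rw [Ne, mk_eq_iff] at h12 h13 h23 k12 k13 k23
    obtain ⟨g, hg1, hg2, hg3⟩ := three_trans hG _ _ _ _ _ _ h12 h13 h23 k12 k13 k23
    refine ⟨g, ?_, ?_, ?_⟩
    · rw [hsm, mk_eq_iff, mul_smul]; exact hg1
    · rw [hsm, mk_eq_iff, mul_smul]; exact hg2
    · rw [hsm, mk_eq_iff, mul_smul]; exact hg3
  · intro g x₁ x₂ x₃
    obtain ⟨a₁, rfl⟩ := QuotientGroup.mk_surjective x₁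
    obtain ⟨a₂, rfl⟩ := QuotientGroup.mk_surjective x₂
    obtain ⟨a₃, rfl⟩ := QuotientGroup.mk_surjective x₃
    intro h12 h13 h23 k1 k2 k3
    rw [Ne, mk_eq_iff] at h12 h13 h23
    rw [hsm, mk_eq_iff, mul_smul] at k1 k2 k3
    exact three_fix hG _ _ _ h12 h13 h23 g k1 k2 k3
  · intro x y
    obtain ⟨a, rfl⟩ := QuotientGroup.mk_surjective x
    obtain ⟨b, rfl⟩ := QuotientGroup.mk_surjective y
    intro hx hy
    rw [Ne, mk_eq_iff, one_smul] at hx hy
    obtain ⟨t, ht, htab⟩ := S_trans hG T (a • T) (b • T) hx hy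
    refine ⟨t, ⟨ht, ?_⟩, ?_⟩
    · rw [hsm, mk_eq_iff, mul_smul]; exact htab
    · rintro t' ⟨ht', ht'ab⟩
      rw [hsm, mk_eq_iff, mul_smul] at ht'ab
      exact S_trans_unique hG T (a • T) hx t' t ht' ht (ht'ab.trans htab.symm)

end Cfsg.Agent.Lib.Helper52.EAC
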