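import Mathlib

/-!
Over a finite field of characteristic 2: `SL(2, F) ≃* PSL(2, F) ≃* PGL(2, F)`.
-/

set_option autoImplicit false

namespace Cfsg.Agent.Lib.Helper52.PGLChar2

open Matrix

variable {F : Type*} [Field F]

theorem two_eq_zero_of_card [Finite F] {k : ℕ} (hc : Nat.card F = 2 ^ k) : (2 : F) = 0 := by
  let _ : Fintype F := Fintype.ofFinite F
  have h := Nat.cast_card_eq_zero F
  rw [← Nat.card_eq_fintype_card, hc] at h
  push_cast at h
  exact eq_zero_of_pow_eq_zero h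

theorem sq_injective (h2 : (2 : F) = 0) : Function.Injective (fun x : F => x ^ 2) := by
  intro x y h
  have h' : x ^ 2 = y ^ 2 := h
  have e : (x - y) ^ 2 = 0 := by
    have : (x - y) ^ 2 = x ^ 2 + y ^ 2 - 2 * (x * y) := by ring
    rw [this, h2, zero_mul, sub_zero, h']
    have : y ^ 2 + y ^ 2 = 2 * y ^ 2 := by ring
    rw [this, h2, zero_mul]
  exact sub_eq_zero.1 (pow_eq_zero_iff (two_ne_zero) |>.1 e)

theorem exists_sq [Finite F] (h2 : (2 : F) = 0) (r : Fˣ) : ∃ k : Fˣ, k ^ 2 = r := by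
  obtain ⟨k, hk⟩ := Finite.surjective_of_injective (sq_injective h2) (r : F)
  have hk' : k ^ 2 = (r : F) := hk
  have hk0 : k ≠ 0 := by
    rintro rfl
    rw [zero_pow (two_ne_zero)] at hk'
    exact r.ne_zero hk'.symm
  refine ⟨Units.mk0 k hk0, ?_⟩
  apply Units.ext
  rw [Units.val_pow_eq_pow_val, Units.val_mk0, hk']

theorem center_SL_eq_bot (h2 : (2 : F) = 0) :
    Subgroup.center (Matrix.SpecialLinearGroup (Fin 2) F) = ⊥ := by
  rw [eq_bot_iff]
  intro A hA
  rw [Matrix.SpecialLinearGroup.mem_center_iff] at hA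
  obtain ⟨r, hr, hA⟩ := hA
  rw [Fintype.card_fin] at hr
  have hr1 : r = 1 := sq_injective h2 (by simpa using hr)
  rw [Subgroup.mem_bot]
  apply Subtype.ext
  rw [← hA, hr1]
  simp

theorem nonempty_sl_equiv_psl (h2 : (2 : F) = 0) :
    Nonempty (Matrix.SpecialLinearGroup (Fin 2) F ≃*
      Matrix.ProjectiveSpecialLinearGroup (Fin 2) F) :=
  ⟨(QuotientGroup.quotientBot (G := Matrix.SpecialLinearGroup (Fin 2) F)).symm.trans
    (QuotientGroup.quotientMulEquivOfEq (center_SL_eq_bot h2).symm)⟩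

theorem nonempty_psl_equiv_pgl [Finite F] (h2 : (2 : F) = 0) :
    Nonempty (Matrix.ProjectiveSpecialLinearGroup (Fin 2) F ≃*
      Matrix.ProjGenLinGroup (Fin 2) F) :=
  ⟨MulEquiv.ofBijective Matrix.ProjectiveSpecialLinearGroup.toPGL
    ⟨Matrix.ProjectiveSpecialLinearGroup.toPGL_injective,
      Matrix.ProjectiveSpecialLinearGroup.toPGL_surj_of_roots (fun r => by
        rw [Fintype.card_fin]
        exact exists_sq h2 r)⟩⟩

theorem nonempty_equiv_psl_of_pgl [Finite F] (h2 : (2 : F) = 0) {G : Type*} [Group G]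
    (h : Nonempty (G ≃* Matrix.ProjGenLinGroup (Fin 2) F)) :
    Nonempty (G ≃* Matrix.ProjectiveSpecialLinearGroup (Fin 2) F) := by
  obtain ⟨e⟩ := h
  obtain ⟨e'⟩ := nonempty_psl_equiv_pgl (F := F) h2
  exact ⟨e.trans e'.symm⟩

theorem nonempty_equiv_sl_of_pgl [Finite F] (h2 : (2 : F) = 0) {G : Type*} [Group G]
    (h : Nonempty (G ≃* Matrix.ProjGenLinGroup (Fin 2) F)) :
    Nonempty (G ≃* Matrix.SpecialLinearGroup (Fin 2) F) := by
  obtain ⟨e⟩ := nonempty_equiv_psl_of_pgl h2 h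
  obtain ⟨e'⟩ := nonempty_sl_equiv_psl (F := F) h2
  exact ⟨e.trans e'.symm⟩

end Cfsg.Agent.Lib.Helper52.PGLChar2
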