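import Mathlib
import Cfsg.Agent.Lib.Helper4.UniStmt
import Cfsg.Agent.Lib.Helper4.SchA

set_option autoImplicit false

/-!
# S4395 piece EVENT: the commutator form of a non-abelian `T` with a field model
-/

namespace Cfsg.Agent.Lib.Helper52.UniEVENT

open Cfsg.Agent.Lib.Helper4.UniStmt

open scoped IsMulCommutative

universe u

theorem main : EVENT.{u} := by
  intro hEA p q _ _ hpq T _ _ σ hH hnab F _ _ e lam hM
  obtain ⟨hT, hσq, hσ1, H1⟩ := hH
  obtain ⟨m1, m2, m3, m4, _, m6, m7, m8, m9⟩ := hM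
  have hq : q.Prime := Fact.out
  obtain ⟨h1, _, _, _, h5⟩ :=
    Cfsg.Agent.Lib.Helper4.SchA.sep_basic p hT σ q hq hpq.symm hσq hσ1 H1 hnab
  have hlam0 : lam ≠ 0 := by
    intro h
    rw [h, zero_pow hq.ne_zero] at m8
    exact zero_ne_one m8
  -- basic properties of `e`
  have e1 : e 1 = 0 := by
    have := m1 1 1
    rw [mul_one] at this
    exact left_eq_add.mp this
  have einv : ∀ s : T, e s⁻¹ = - e s := by
    intro s
    have := m1 s⁻¹ s
    rw [inv_mul_cancel, e1] at this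
    exact eq_neg_of_add_eq_zero_left this.symm
  -- elements with the same image differ by a central element
  have hcen : ∀ s s' : T, e s = e s' → s⁻¹ * s' ∈ Subgroup.center T := by
    intro s s' h
    apply m4
    rw [← m3, m1, einv, h, neg_add_cancel]
  -- the commutator depends only on the images
  have hcongr : ∀ s s' t t' : T, e s = e s' → e t = e t' →
      s * t * s⁻¹ * t⁻¹ = s' * t' * s'⁻¹ * t'⁻¹ := by
    intro s s' t t' hs ht
    have hk := hcen s s' hs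
    have hk' := hcen t t' ht
    rw [Subgroup.mem_center_iff] at hk hk'
    have es : s' = s * (s⁻¹ * s') := by group
    have et : t' = t * (t⁻¹ * t') := by group
    generalize s⁻¹ * s' = k at hk es
    generalize t⁻¹ * t' = k' at hk' et
    rw [es, et]
    have a1 := hk t
    have a2 := hk' s
    have a3 := hk' k
    have a4 := hk' s⁻¹
    have a5 := hk s⁻¹
    have a6 := hk t⁻¹
    have a7 := hk' t⁻¹
    have a8 := hk (t * k')
    -- s k t k' k⁻¹ s⁻¹ k'⁻¹ t⁻¹ = s t s⁻¹ t⁻¹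
    have b1 : s * k * (t * k') * (s * k)⁻¹ * (t * k')⁻¹
        = s * (k * (t * k') * k⁻¹) * s⁻¹ * (t * k')⁻¹ := by group
    have b2 : k * (t * k') * k⁻¹ = t * k' := by
      rw [← a8]; group
    have b3 : s * (t * k') * s⁻¹ * (t * k')⁻¹ = s * t * (k' * s⁻¹ * k'⁻¹) * t⁻¹ := by group
    have b4 : k' * s⁻¹ * k'⁻¹ = s⁻¹ := by
      rw [← a4]; group
    rw [b1, b2, b3, b4]
  -- bimultiplicativity
  have hmulL : ∀ s s' t : T, (s * s') * t * (s * s')⁻¹ * t⁻¹
      = (s * t * s⁻¹ * t⁻¹) * (s' * t * s'⁻¹ * t⁻¹) := by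
    intro s s' t
    have hc := h1 s' t
    rw [Subgroup.mem_center_iff] at hc
    have b1 : (s * s') * t * (s * s')⁻¹ * t⁻¹
        = s * (s' * t * s'⁻¹ * t⁻¹) * t * s⁻¹ * t⁻¹ := by group
    have b2 : s * (s' * t * s'⁻¹ * t⁻¹) = (s' * t * s'⁻¹ * t⁻¹) * s := hc s
    have hc2 := h1 s t
    rw [Subgroup.mem_center_iff] at hc2
    have b3 := hc2 (s' * t * s'⁻¹ * t⁻¹)
    rw [b1, b2, ← b3]
    group
  have hmulR : ∀ s t t' : T, s * (t * t') * s⁻¹ * (t * t')⁻¹
      = (s * t * s⁻¹ * t⁻¹) * (s * t' * s⁻¹ * t'⁻¹) := by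
    intro s t t'
    have hc := h1 s t'
    rw [Subgroup.mem_center_iff] at hc
    have b1 : s * (t * t') * s⁻¹ * (t * t')⁻¹
        = s * t * s⁻¹ * (s * t' * s⁻¹ * t'⁻¹) * t⁻¹ := by group
    have b2 := hc t⁻¹
    rw [b1, mul_assoc (s * t * s⁻¹), ← b2]
    group
  -- invariance under σ
  have hσinv : ∀ s t : T, σ s * σ t * (σ s)⁻¹ * (σ t)⁻¹ = s * t * s⁻¹ * t⁻¹ := by
    intro s t
    have := (h5 (s * t * s⁻¹ * t⁻¹)).2 (h1 s t)
    rw [map_mul, map_mul, map_mul, map_inv, map_inv] at this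
    exact this
  -- the section
  let g : F → T := Function.surjInv m2
  have hg : ∀ x : F, e (g x) = x := Function.surjInv_eq m2
  let B : F → F → Additive (Subgroup.center T) := fun x y =>
    Additive.ofMul ⟨g x * g y * (g x)⁻¹ * (g y)⁻¹, h1 (g x) (g y)⟩
  have hB : ∀ x y : F, B x y = Additive.ofMul
      (⟨g x * g y * (g x)⁻¹ * (g y)⁻¹, h1 (g x) (g y)⟩ : Subgroup.center T) := fun _ _ => rfl
  refine hEA F lam hlam0 m9 (Additive (Subgroup.center T)) B ?_ ?_ ?_ ?_ ?_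
  · intro x x' y
    rw [hB, hB, hB, ← ofMul_mul]
    congr 1
    apply Subtype.ext
    show g (x + x') * g y * (g (x + x'))⁻¹ * (g y)⁻¹
      = (g x * g y * (g x)⁻¹ * (g y)⁻¹) * (g x' * g y * (g x')⁻¹ * (g y)⁻¹)
    rw [← hmulL]
    apply hcongr
    · rw [hg, m1, hg, hg]
    · rfl
  · intro x y y'
    rw [hB, hB, hB, ← ofMul_mul]
    congr 1
    apply Subtype.ext
    show g x * g (y + y') * (g x)⁻¹ * (g (y + y'))⁻¹
      = (g x * g y * (g x)⁻¹ * (g y)⁻¹) * (g x * g y' * (g x)⁻¹ * (g y')⁻¹)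
    rw [← hmulR]
    apply hcongr
    · rfl
    · rw [hg, m1, hg, hg]
  · intro x y
    rw [hB, hB, ← ofMul_inv]
    congr 1
    apply Subtype.ext
    show g y * g x * (g y)⁻¹ * (g x)⁻¹ = (g x * g y * (g x)⁻¹ * (g y)⁻¹)⁻¹
    group
  · intro x y
    rw [hB, hB]
    congr 1
    apply Subtype.ext
    show g (lam * x) * g (lam * y) * (g (lam * x))⁻¹ * (g (lam * y))⁻¹
      = g x * g y * (g x)⁻¹ * (g y)⁻¹
    rw [← hσinv (g x) (g y)]
    apply hcongr
    · rw [hg, m6, hg]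
    · rw [hg, m6, hg]
  · by_contra hall
    push Not at hall
    apply hnab
    intro a b
    have h0 := hall (e a) (e b)
    rw [hB] at h0
    have h2 : (⟨g (e a) * g (e b) * (g (e a))⁻¹ * (g (e b))⁻¹, h1 _ _⟩ : Subgroup.center T) = 1 :=
      h0
    have h3 : g (e a) * g (e b) * (g (e a))⁻¹ * (g (e b))⁻¹ = 1 := congrArg Subtype.val h2
    have h4 : a * b * a⁻¹ * b⁻¹ = 1 := by
      rw [← h3]
      apply hcongr
      · rw [hg]
      · rw [hg]
    have : a * b = (a * b * a⁻¹ * b⁻¹) * (b * a) := by group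
    rw [this, h4, one_mul]

end Cfsg.Agent.Lib.Helper52.UniEVENT
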