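import Mathlib
import Cfsg.Agent.S0106
import Cfsg.Agent.S2910
import Cfsg.Agent.Lib.Helper4.TwoRankOne
import Cfsg.Agent.Lib.Helper21.W3Sylow

/-!
Subgroups of index two: general existence lemmas (quotients, `2`-groups, commutative groups of
even order), the normal `2`-complement of a group of order prime to `3` with at most one
involution (`normal_two_compl`), and solvability of a group with a unique involution whose
elements of order three are central and whose subgroups of odd order are solvable
(`solvable_of_central`).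
-/

set_option autoImplicit false

namespace Cfsg.Agent.Lib.Helper52.Idx2Gen

theorem exists_index_two_of_surjective {X Y : Type*} [Group X] [Group Y] (f : X →* Y)
    (hf : Function.Surjective f) (h : ∃ K : Subgroup Y, K.index = 2) :
    ∃ K : Subgroup X, K.index = 2 := by
  obtain ⟨K, hK⟩ := h
  exact ⟨K.comap f, by rw [Subgroup.index_comap_of_surjective K hf, hK]⟩

theorem exists_index_two_of_pgroup {X : Type*} [Group X] [Finite X] (hX : IsPGroup 2 X)
    (hnt : Nontrivial X) : ∃ K : Subgroup X, K.index = 2 := by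
  have : Fact (Nat.Prime 2) := ⟨Nat.prime_two⟩
  obtain ⟨n, hn⟩ := IsPGroup.iff_card.1 hX
  have hn0 : n ≠ 0 := by
    rintro rfl
    rw [pow_zero] at hn
    have := (Nat.card_eq_one_iff_unique.1 hn).1
    exact not_subsingleton X this
  obtain ⟨m, rfl⟩ := Nat.exists_eq_succ_of_ne_zero hn0
  obtain ⟨K, hK⟩ := Sylow.exists_subgroup_card_pow_prime (G := X) 2 (n := m)
    (by rw [hn]; exact pow_dvd_pow 2 (Nat.le_succ m))
  refine ⟨K, ?_⟩
  have h1 := K.card_mul_index
  rw [hK, hn, pow_succ] at h1
  exact Nat.eq_of_mul_eq_mul_left (by positivity) h1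

theorem exists_index_two_of_quotient_pgroup {X : Type*} [Group X] [Finite X] (N : Subgroup X)
    [N.Normal] (hN : IsPGroup 2 (X ⧸ N)) (hne : N ≠ ⊤) : ∃ K : Subgroup X, K.index = 2 := by
  apply exists_index_two_of_surjective (QuotientGroup.mk' N) (QuotientGroup.mk'_surjective N)
  apply exists_index_two_of_pgroup hN
  by_contra hcon
  rw [not_nontrivial_iff_subsingleton] at hcon
  apply hne
  rw [eq_top_iff]
  intro x _
  have : (QuotientGroup.mk' N x) = 1 := Subsingleton.elim _ _
  exact (QuotientGroup.eq_one_iff x).1 this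

theorem exists_index_two_of_comm {X : Type*} [Group X] [Finite X] (hc : ∀ a b : X, a * b = b * a)
    (heven : Even (Nat.card X)) : ∃ K : Subgroup X, K.index = 2 := by
  let _ : CommGroup X := { (inferInstance : Group X) with mul_comm := hc }
  have : Fact (Nat.Prime 2) := ⟨Nat.prime_two⟩
  have : Fintype X := Fintype.ofFinite X
  obtain ⟨x, hx⟩ := exists_prime_orderOf_dvd_card (G := X) 2
    (by rw [← Nat.card_eq_fintype_card]; exact heven.two_dvd)
  let N : Subgroup X := (powMonoidHom 2 : X →* X).range
  have hNn : N.Normal := inferInstance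
  apply exists_index_two_of_quotient_pgroup N
  · intro y
    refine ⟨1, ?_⟩
    obtain ⟨y', rfl⟩ := QuotientGroup.mk_surjective y
    rw [pow_one, ← QuotientGroup.mk_pow, QuotientGroup.eq_one_iff]
    exact ⟨y', rfl⟩
  · intro htop
    have hsurj : Function.Surjective (powMonoidHom 2 : X →* X) :=
      MonoidHom.range_eq_top.1 htop
    have hinj : Function.Injective (powMonoidHom 2 : X →* X) :=
      Finite.injective_iff_surjective.2 hsurj
    have h1 : (powMonoidHom 2 : X →* X) x = (powMonoidHom 2 : X →* X) 1 := by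
      show x ^ 2 = 1 ^ 2
      rw [one_pow, ← hx, pow_orderOf_eq_one]
    have h2 := hinj h1
    rw [h2, orderOf_one] at hx
    omega

theorem no_klein {X : Type*} [Group X]
    (hinv : ∀ x y : X, orderOf x = 2 → orderOf y = 2 → x = y) (E : Subgroup X) :
    ¬ IsKleinFour E := by
  intro hE
  have hcard : Nat.card E = 4 := IsKleinFour.card_four
  have hexp : Monoid.exponent E = 2 := IsKleinFour.exponent_two
  have hfin : Finite E := Nat.finite_of_card_ne_zero (by rw [hcard]; norm_num)
  have hord : ∀ x : E, x ≠ 1 → orderOf (x : X) = 2 := by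
    intro x hx
    have h1 : orderOf x ∣ 2 := hexp ▸ Monoid.order_dvd_exponent x
    have h2 : orderOf x ≠ 1 := fun h => hx (orderOf_eq_one_iff.1 h)
    have h3 : orderOf x = 2 := by
      rcases (Nat.dvd_prime Nat.prime_two).1 h1 with h | h
      · exact absurd h h2
      · exact h
    rw [← h3, Subgroup.orderOf_coe]
  have : Fintype E := Fintype.ofFinite E
  have hlt : 2 < Fintype.card E := by rw [← Nat.card_eq_fintype_card, hcard]; norm_num
  obtain ⟨a, b, c, hab, hac, hbc⟩ := Fintype.two_lt_card_iff.1 hlt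
  -- two distinct nonidentity elements among a, b, c
  have key : ∀ x y : E, x ≠ 1 → y ≠ 1 → x = y := by
    intro x y hx hy
    exact Subtype.ext (hinv _ _ (hord x hx) (hord y hy))
  by_cases ha : a = 1
  · have hb : b ≠ 1 := fun h => hab (ha.trans h.symm)
    have hc' : c ≠ 1 := fun h => hac (ha.trans h.symm)
    exact hbc (key b c hb hc')
  · by_cases hb : b = 1
    · have hc' : c ≠ 1 := fun h => hbc (hb.trans h.symm)
      exact hac (key a c ha hc')
    · exact hab (key a b ha hb)

theorem card_of_complement {X : Type*} [Group X] [Finite X] {p : ℕ} [hp : Fact p.Prime]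
    (P : Sylow p X) (N : Subgroup X) (hc : N.IsComplement' (P : Subgroup X)) :
    ¬ p ∣ Nat.card N ∧ N.index = p ^ (Nat.card X).factorization p := by
  have hcm := hc.card_mul_card
  have hP := P.card_eq_multiplicity
  refine ⟨?_, ?_⟩
  · intro hdvd
    have hpos : Nat.card X ≠ 0 := Nat.card_pos.ne'
    apply Nat.pow_succ_factorization_not_dvd hpos hp.out
    rw [pow_succ, mul_comm, ← hP]
    rw [← hcm]
    exact Nat.mul_dvd_mul hdvd dvd_rfl
  · rw [hc.symm.index_eq_card, hP]

theorem three_dvd_card_sl : 3 ∣ Nat.card (Matrix.SpecialLinearGroup (Fin 2) (ZMod 3)) := by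
  let m : Matrix.SpecialLinearGroup (Fin 2) (ZMod 3) :=
    ⟨!![1, 1; 0, 1], by decide⟩
  have hm3 : m ^ 3 = 1 := by
    apply Subtype.ext
    rw [Matrix.SpecialLinearGroup.coe_pow]
    show (!![1, 1; 0, 1] : Matrix (Fin 2) (Fin 2) (ZMod 3)) ^ 3 = 1
    rw [pow_succ, pow_two]
    decide
  have hm1 : m ≠ 1 := by
    intro h
    have h1 := congrArg (fun g : Matrix.SpecialLinearGroup (Fin 2) (ZMod 3) => g.1 0 1) h
    revert h1
    show ¬ ((!![1, 1; 0, 1] : Matrix (Fin 2) (Fin 2) (ZMod 3)) 0 1 =
      (1 : Matrix (Fin 2) (Fin 2) (ZMod 3)) 0 1)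
    decide
  have hm : orderOf m = 3 := by
    have : Fact (Nat.Prime 3) := ⟨Nat.prime_three⟩
    exact orderOf_eq_prime hm3 hm1
  have h4 := orderOf_dvd_natCard m
  rwa [hm] at h4

/-- A finite group of order prime to `3` with at most one involution has a normal subgroup of
odd order and of index a power of two. -/
theorem normal_two_compl {X : Type*} [Group X] [Finite X] (h3 : ¬ 3 ∣ Nat.card X)
    (hinv : ∀ x y : X, orderOf x = 2 → orderOf y = 2 → x = y) :
    ∃ N : Subgroup X, N.Normal ∧ Odd (Nat.card N) ∧ ∃ k : ℕ, N.index = 2 ^ k := by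
  have : Fact (Nat.Prime 2) := ⟨Nat.prime_two⟩
  by_cases heven : Even (Nat.card X)
  · obtain ⟨S⟩ : Nonempty (Sylow 2 X) := inferInstance
    have hS : (S : Subgroup X) ≠ ⊥ := S.ne_bot_of_dvd_card heven.two_dvd
    rcases Cfsg.Agent.Lib.Helper4.TwoRankOne.cyclic_or_quat (no_klein hinv) S hS with
      hc | ⟨n, ⟨e⟩⟩
    · obtain ⟨N, hNn, hN2, hNi⟩ :=
        Cfsg.Agent.Lib.Helper21.W3Sylow.exists_normal_complement heven.two_dvd S hc
      have hodd : Odd (Nat.card N) := Nat.not_even_iff_odd.1 (fun h => hN2 h.two_dvd)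
      exact ⟨N, hNn, hodd, _, hNi.trans S.card_eq_multiplicity⟩
    · rcases Cfsg.Agent.S0106.result S (n + 1) (Nat.le_add_left 1 n) ⟨e⟩ with h | h
      · obtain ⟨P, N, hNn, hcompl⟩ := h
        obtain ⟨h1, h2⟩ := card_of_complement P N hcompl
        have hodd : Odd (Nat.card N) := Nat.not_even_iff_odd.1 (fun h => h1 h.two_dvd)
        exact ⟨N, hNn, hodd, _, h2⟩
      · exfalso
        obtain ⟨H, K, hK, ⟨e'⟩⟩ := h
        apply h3
        have h4 := three_dvd_card_sl
        rw [← Nat.card_congr e'.toEquiv] at h4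
        have h5 : Nat.card (↥H ⧸ K.subgroupOf H) ∣ Nat.card ↥H :=
          Dvd.intro _ (Subgroup.card_eq_card_quotient_mul_card_subgroup _).symm
        exact (h4.trans h5).trans (Subgroup.card_subgroup_dvd_card H)
  · refine ⟨⊤, inferInstance, ?_, 0, ?_⟩
    · rw [Nat.card_congr Subgroup.topEquiv.toEquiv]
      exact Nat.not_even_iff_odd.1 heven
    · rw [Subgroup.index_top, pow_zero]

theorem isPGroup_quotient_of_index {X : Type*} [Group X] [Finite X] {p : ℕ} [Fact p.Prime]
    (N : Subgroup X) [N.Normal] {k : ℕ} (h : N.index = p ^ k) : IsPGroup p (X ⧸ N) :=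
  IsPGroup.of_card (by rw [← Subgroup.index_eq_card, h])

theorem exists_index_two_of_two_compl {X : Type*} [Group X] [Finite X] (h3 : ¬ 3 ∣ Nat.card X)
    (hinv : ∀ x y : X, orderOf x = 2 → orderOf y = 2 → x = y) (heven : Even (Nat.card X)) :
    ∃ K : Subgroup X, K.index = 2 := by
  have : Fact (Nat.Prime 2) := ⟨Nat.prime_two⟩
  obtain ⟨N, hNn, hodd, k, hk⟩ := normal_two_compl h3 hinv
  apply exists_index_two_of_quotient_pgroup N (isPGroup_quotient_of_index N hk)
  intro htop
  rw [htop, Nat.card_congr Subgroup.topEquiv.toEquiv] at hodd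
  exact (Nat.not_even_iff_odd.2 hodd) heven

theorem solvable_of_quotient_pgroup {X : Type*} [Group X] [Finite X] {p : ℕ} [Fact p.Prime]
    (N : Subgroup X) [N.Normal] {k : ℕ} (h : N.index = p ^ k) (hN : Group.IsSolvable N) :
    Group.IsSolvable X := by
  have hq : IsPGroup p (X ⧸ N) := isPGroup_quotient_of_index N h
  have hnil : Group.IsNilpotent (X ⧸ N) := hq.isNilpotent
  have hs : Group.IsSolvable (X ⧸ N) := inferInstance
  apply Group.isSolvable_of_ker_le_range N.subtype (QuotientGroup.mk' N)
  rw [QuotientGroup.ker_mk', Subgroup.range_subtype]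

theorem solvable_of_two_compl {X : Type*} [Group X] [Finite X] (h3 : ¬ 3 ∣ Nat.card X)
    (hinv : ∀ x y : X, orderOf x = 2 → orderOf y = 2 → x = y)
    (hodd : ∀ O : Subgroup X, Odd (Nat.card O) → Group.IsSolvable O) : Group.IsSolvable X := by
  have : Fact (Nat.Prime 2) := ⟨Nat.prime_two⟩
  obtain ⟨N, hNn, hNodd, k, hk⟩ := normal_two_compl h3 hinv
  exact solvable_of_quotient_pgroup N hk (hodd N hNodd)

/-- A finite group with at most one involution, whose elements of order three are central and
whose subgroups of odd order are solvable, is solvable. -/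
theorem solvable_of_central {X : Type*} [Group X] [Finite X]
    (hinv : ∀ x y : X, orderOf x = 2 → orderOf y = 2 → x = y)
    (hc3 : ∀ d : X, d ^ 3 = 1 → ∀ g : X, g * d = d * g)
    (hodd : ∀ O : Subgroup X, Odd (Nat.card O) → Group.IsSolvable O) : Group.IsSolvable X := by
  by_cases h3 : 3 ∣ Nat.card X
  · have : Fact (Nat.Prime 3) := ⟨Nat.prime_three⟩
    obtain ⟨P⟩ : Nonempty (Sylow 3 X) := inferInstance
    have hZ : Cfsg.omegaOne 3 (P : Subgroup X) ≤ Subgroup.center X := by
      unfold Cfsg.omegaOne
      rw [Subgroup.closure_le]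
      rintro x ⟨-, hx⟩
      rw [SetLike.mem_coe, Subgroup.mem_center_iff]
      intro g
      exact hc3 x hx g
    obtain ⟨⟨P', N, hNn, hcompl⟩, -⟩ := Cfsg.Agent.S2910.result (by norm_num) h3 P hZ
    obtain ⟨h1, h2⟩ := card_of_complement P' N hcompl
    apply solvable_of_quotient_pgroup N h2
    apply solvable_of_two_compl h1
    · intro x y hx hy
      apply Subtype.ext
      apply hinv
      · rw [Subgroup.orderOf_coe]; exact hx
      · rw [Subgroup.orderOf_coe]; exact hy
    · intro O hO
      have h5 : Odd (Nat.card (O.map N.subtype)) := by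
        rw [Subgroup.card_map_of_injective N.subtype_injective]
        exact hO
      have h6 := hodd _ h5
      exact Group.isSolvable_of_isSolvable_injective
        (f := (O.equivMapOfInjective N.subtype N.subtype_injective).toMonoidHom)
        (O.equivMapOfInjective N.subtype N.subtype_injective).injective
  · exact solvable_of_two_compl h3 hinv hodd

/-- A finite group of even order, not divisible by nine, with at most one involution and a
central element of order three has a subgroup of index two. -/
theorem exists_index_two_of_central_three {X : Type*} [Group X] [Finite X]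
    (hinv : ∀ x y : X, orderOf x = 2 → orderOf y = 2 → x = y) (heven : Even (Nat.card X))
    (h9 : ¬ 9 ∣ Nat.card X) (d : X) (hd : orderOf d = 3) (hdc : ∀ g : X, g * d = d * g) :
    ∃ K : Subgroup X, K.index = 2 := by
  let D : Subgroup X := Subgroup.zpowers d
  have hDn : D.Normal := by
    constructor
    intro n hn g
    obtain ⟨i, rfl⟩ := Subgroup.mem_zpowers_iff.1 hn
    have h1 : g * d ^ i * g⁻¹ = d ^ i := by
      have h2 : Commute g d := hdc g
      rw [(h2.zpow_right i).eq, mul_inv_cancel_right]
    rw [h1]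
    exact Subgroup.zpow_mem_zpowers d i
  have hDc : Nat.card D = 3 := by rw [Nat.card_zpowers, hd]
  have hcard : Nat.card X = Nat.card (X ⧸ D) * 3 := by
    rw [← hDc]
    exact Subgroup.card_eq_card_quotient_mul_card_subgroup D
  apply exists_index_two_of_surjective (QuotientGroup.mk' D) (QuotientGroup.mk'_surjective D)
  apply exists_index_two_of_two_compl
  · intro h
    apply h9
    rw [hcard]
    exact Nat.mul_dvd_mul h dvd_rfl
  · have key : ∀ x : X ⧸ D, orderOf x = 2 → ∃ x' : X, orderOf x' = 2 ∧ (x' : X ⧸ D) = x := by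
      intro x hx
      obtain ⟨x₀, rfl⟩ := QuotientGroup.mk_surjective x
      have h1 : ((x₀ ^ 2 : X) : X ⧸ D) = 1 := by
        rw [QuotientGroup.mk_pow, ← hx, pow_orderOf_eq_one]
      rw [QuotientGroup.eq_one_iff] at h1
      obtain ⟨i, hi⟩ := Subgroup.mem_zpowers_iff.1 h1
      have hc : Commute x₀ d := hdc x₀
      have hd3 : d ^ (3 : ℤ) = 1 := by
        have := pow_orderOf_eq_one d
        rw [hd] at this
        exact_mod_cast this
      refine ⟨x₀ * d ^ i, ?_, ?_⟩
      · have h2 : (x₀ * d ^ i) ^ 2 = 1 := by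
          rw [(hc.zpow_right i).mul_pow, ← hi, ← zpow_natCast (d ^ i) 2, ← zpow_mul, ← zpow_add]
          have : i + i * ((2 : ℕ) : ℤ) = 3 * i := by push_cast; ring
          rw [this, zpow_mul, hd3, one_zpow]
        have h3 : x₀ * d ^ i ≠ 1 := by
          intro h
          have h4 : ((x₀ * d ^ i : X) : X ⧸ D) = 1 := by rw [h]; rfl
          rw [QuotientGroup.mk_mul, (QuotientGroup.eq_one_iff (d ^ i)).2
            (Subgroup.zpow_mem_zpowers d i), mul_one] at h4
          rw [h4, orderOf_one] at hx
          omega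
        exact orderOf_eq_prime h2 h3
      · rw [QuotientGroup.mk_mul, (QuotientGroup.eq_one_iff (d ^ i)).2
          (Subgroup.zpow_mem_zpowers d i), mul_one]
    intro x y hx hy
    obtain ⟨x', hx', rfl⟩ := key x hx
    obtain ⟨y', hy', rfl⟩ := key y hy
    rw [hinv x' y' hx' hy']
  · rw [hcard] at heven
    rcases Nat.even_mul.1 heven with h | h
    · exact h
    · exact absurd h (by decide)

/-- A finite group of even order with a cyclic normal subgroup and commutative quotient has a
subgroup of index two. -/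
theorem exists_index_two_of_meta {X : Type*} [Group X] [Finite X] (heven : Even (Nat.card X))
    (K : Subgroup X) [K.Normal] (hK : IsCyclic K)
    (hcomm : ∀ a b : X, a * b * a⁻¹ * b⁻¹ ∈ K) : ∃ N : Subgroup X, N.index = 2 := by
  have : Fact (Nat.Prime 2) := ⟨Nat.prime_two⟩
  by_cases hq : Even (Nat.card (X ⧸ K))
  · apply exists_index_two_of_surjective (QuotientGroup.mk' K) (QuotientGroup.mk'_surjective K)
    apply exists_index_two_of_comm _ hq
    intro a b
    obtain ⟨a, rfl⟩ := QuotientGroup.mk_surjective a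
    obtain ⟨b, rfl⟩ := QuotientGroup.mk_surjective b
    have h1 := (QuotientGroup.eq_one_iff (N := K) _).2 (hcomm a b)
    rw [QuotientGroup.mk_mul, QuotientGroup.mk_mul, QuotientGroup.mk_mul, QuotientGroup.mk_inv,
      QuotientGroup.mk_inv] at h1
    calc (a : X ⧸ K) * b = ((a : X ⧸ K) * b * (a : X ⧸ K)⁻¹ * (b : X ⧸ K)⁻¹) * (b * a) := by group
      _ = b * a := by rw [h1, one_mul]
  · obtain ⟨P⟩ : Nonempty (Sylow 2 X) := inferInstance
    have hPK : (P : Subgroup X) ≤ K := by
      intro x hx
      obtain ⟨n, hn⟩ := (IsPGroup.iff_orderOf.1 P.isPGroup') ⟨x, hx⟩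
      rw [Subgroup.orderOf_mk] at hn
      rw [← QuotientGroup.eq_one_iff (N := K) x, ← orderOf_eq_one_iff]
      have h1 : orderOf (x : X ⧸ K) ∣ 2 ^ n := by
        rw [← hn]
        exact orderOf_map_dvd (QuotientGroup.mk' K) x
      have h2 : orderOf (x : X ⧸ K) ∣ Nat.card (X ⧸ K) := orderOf_dvd_natCard _
      have h3 : Nat.Coprime (2 ^ n) (Nat.card (X ⧸ K)) := by
        apply Nat.Coprime.pow_left
        rw [Nat.coprime_two_left]
        exact Nat.not_even_iff_odd.1 hq
      exact Nat.eq_one_of_dvd_coprimes h3 h1 h2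
    have hPc : IsCyclic (P : Subgroup X) :=
      isCyclic_of_injective (Subgroup.inclusion hPK) (Subgroup.inclusion_injective hPK)
    obtain ⟨N, hNn, hN2, hNi⟩ :=
      Cfsg.Agent.Lib.Helper21.W3Sylow.exists_normal_complement heven.two_dvd P hPc
    apply exists_index_two_of_quotient_pgroup N
      (isPGroup_quotient_of_index N (hNi.trans P.card_eq_multiplicity))
    intro htop
    apply hN2
    rw [htop, Nat.card_congr Subgroup.topEquiv.toEquiv]
    exact heven.two_dvd

end Cfsg.Agent.Lib.Helper52.Idx2Gen
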