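import Mathlib
import Cfsg.Agent.S0688
import Cfsg.Agent.Lib.Helper52.Idx2Gen
import Cfsg.Agent.Lib.Helper52.Idx2Abs
import Cfsg.Agent.Lib.Helper52.Idx2Ring

/-!
A finite group `X` of even order acting regularly on the nonidentity elements of a finite
commutative group, with at most one involution and an endomorphism `σ` with exactly two fixed
points inverting the elements of order three, has a subgroup of index two (given that its
subgroups of odd order are solvable).
-/

set_option autoImplicit false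

namespace Cfsg.Agent.Lib.Helper52.Idx2Lin

open Cfsg.Agent.Lib.Helper52

theorem lin_index_two {p : ℕ} [Fact p.Prime] {V : Type*} [AddCommGroup V] [Module (ZMod p) V]
    [Finite V] (Hl : Subgroup (V ≃ₗ[ZMod p] V)) (heven : Even (Nat.card Hl))
    (A : Subgroup Hl) (hAn : A.Normal) (hAc : IsCyclic A)
    (hirr : ∀ W : Submodule (ZMod p) V,
      (∀ a ∈ A, ∀ v ∈ W, ((a : Hl) : V ≃ₗ[ZMod p] V) v ∈ W) → W = ⊥ ∨ W = ⊤) :
    ∃ K : Subgroup Hl, K.index = 2 := by
  classical
  have hfinGL : Finite (V ≃ₗ[ZMod p] V) :=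
    Finite.of_injective (fun f : V ≃ₗ[ZMod p] V => (f : V → V)) DFunLike.coe_injective
  have hfinH : Finite Hl := inferInstance
  let u : Hl →* (Module.End (ZMod p) V)ˣ :=
    ((LinearMap.GeneralLinearGroup.generalLinearEquiv (ZMod p) V).symm.toMonoidHom).comp Hl.subtype
  have hu : Function.Injective u := by
    intro a b hab
    apply Subtype.ext
    exact (LinearMap.GeneralLinearGroup.generalLinearEquiv (ZMod p) V).symm.injective hab
  have hval : ∀ (h : Hl) (v : V),
      ((u h : (Module.End (ZMod p) V)ˣ) : Module.End (ZMod p) V) v = (h : V ≃ₗ[ZMod p] V) v :=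
    fun h v => rfl
  have hAcomm : ∀ a ∈ A, ∀ b ∈ A, a * b = b * a := by
    obtain ⟨g, hg⟩ := IsCyclic.exists_generator (α := ↥A)
    intro a ha b hb
    obtain ⟨m, hm⟩ := Subgroup.mem_zpowers_iff.1 (hg ⟨a, ha⟩)
    obtain ⟨n, hn⟩ := Subgroup.mem_zpowers_iff.1 (hg ⟨b, hb⟩)
    have : (⟨a, ha⟩ : ↥A) * ⟨b, hb⟩ = ⟨b, hb⟩ * ⟨a, ha⟩ := by
      rw [← hm, ← hn, ← zpow_add, ← zpow_add, add_comm]
    exact congrArg Subtype.val this
  have hVnt : ∃ v : V, v ≠ 0 := by
    by_contra hcon
    push Not at hcon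
    have hss : Subsingleton Hl :=
      ⟨fun a b => Subtype.ext (LinearEquiv.ext fun v => by rw [hcon v, map_zero, map_zero])⟩
    rw [Nat.card_unique] at heven
    exact absurd heven (by decide)
  obtain ⟨v₀, hv₀⟩ := hVnt
  set S : Set (Module.End (ZMod p) V) :=
    (fun a : Hl => ((u a : (Module.End (ZMod p) V)ˣ) : Module.End (ZMod p) V)) '' (A : Set Hl)
    with hS
  have hfinE : Finite (Module.End (ZMod p) V) :=
    Finite.of_injective (fun f : Module.End (ZMod p) V => (f : V → V)) DFunLike.coe_injective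
  have hfin : Finite ↥(Subring.centralizer S) := inferInstance
  have hzero : ∀ f ∈ Subring.centralizer S, ∀ v : V, v ≠ 0 → f v = 0 → f = 0 := by
    intro f hf v hv hfv
    have hW : ∀ a ∈ A, ∀ w ∈ LinearMap.ker f, ((a : Hl) : V ≃ₗ[ZMod p] V) w ∈ LinearMap.ker f := by
      intro a ha w hw
      rw [LinearMap.mem_ker] at hw ⊢
      have h1 : ((u a : (Module.End (ZMod p) V)ˣ) : Module.End (ZMod p) V) * f = f * ↑(u a) :=
        (Subring.mem_centralizer_iff.1 hf) _ ⟨a, ha, rfl⟩
      have h2 : ((u a : (Module.End (ZMod p) V)ˣ) : Module.End (ZMod p) V) (f w) =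
          f (((u a : (Module.End (ZMod p) V)ˣ) : Module.End (ZMod p) V) w) :=
        congrArg (fun g : Module.End (ZMod p) V => g w) h1
      rw [hw, map_zero] at h2
      rw [← hval a w]
      exact h2.symm
    rcases hirr _ hW with h | h
    · exfalso
      apply hv
      have : v ∈ LinearMap.ker f := LinearMap.mem_ker.2 hfv
      rw [h] at this
      exact (Submodule.mem_bot _).1 this
    · exact LinearMap.ker_eq_top.1 h
  have hnt : Nontrivial ↥(Subring.centralizer S) := by
    refine ⟨⟨0, 1, ?_⟩⟩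
    intro h
    have h1 : ((0 : ↥(Subring.centralizer S)) : Module.End (ZMod p) V) v₀ =
        ((1 : ↥(Subring.centralizer S)) : Module.End (ZMod p) V) v₀ := by rw [h]
    exact hv₀ h1.symm
  have hnzd : NoZeroDivisors ↥(Subring.centralizer S) := by
    refine ⟨?_⟩
    intro a b hab
    by_contra hcon
    push Not at hcon
    have hb : ∃ v, (b : Module.End (ZMod p) V) v ≠ 0 := by
      by_contra h
      push Not at h
      exact hcon.2 (Subtype.ext (LinearMap.ext h))
    obtain ⟨v, hv⟩ := hb
    have h1 : (a : Module.End (ZMod p) V) ((b : Module.End (ZMod p) V) v) = 0 := by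
      have : ((a * b : ↥(Subring.centralizer S)) : Module.End (ZMod p) V) v = 0 := by
        rw [hab]; rfl
      exact this
    exact hcon.1 (Subtype.ext (hzero a.1 a.2 _ hv h1))
  have hdom : IsDomain ↥(Subring.centralizer S) := NoZeroDivisors.to_isDomain _
  obtain ⟨K, hKn, hKc, hKcomm⟩ := Idx2Ring.meta_of_centralizer u hu A hAcomm hfin hdom
  exact Idx2Gen.exists_index_two_of_meta heven K hKc hKcomm

theorem card_of_regular {X V : Type*} [Group X] [Finite X] [AddGroup V] [Finite V]
    (act : X → V → V) (hact1 : ∀ v, act 1 v = v)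
    (hactm : ∀ g h v, act (g * h) v = act g (act h v))
    (htr : ∀ v w : V, v ≠ 0 → w ≠ 0 → ∃ g, act g v = w)
    (hfree : ∀ (g : X) (v : V), v ≠ 0 → act g v = v → g = 1) (v₀ : V) (hv₀ : v₀ ≠ 0)
    (hzero : ∀ g, act g 0 = 0) :
    Nat.card X + 1 = Nat.card V := by
  rw [← Finite.card_option]
  apply Nat.card_eq_of_bijective (fun o : Option X => o.elim 0 (fun g => act g v₀))
  have hne : ∀ g : X, act g v₀ ≠ 0 := by
    intro g h
    apply hv₀
    have h1 : act g⁻¹ (act g v₀) = v₀ := by rw [← hactm, inv_mul_cancel, hact1]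
    rw [← h1, h, hzero]
  constructor
  · intro o o' h
    cases o with
    | none =>
      cases o' with
      | none => rfl
      | some g' => exact absurd h.symm (hne g')
    | some g =>
      cases o' with
      | none => exact absurd h (hne g)
      | some g' =>
        have h' : act g v₀ = act g' v₀ := h
        have h2 : act (g'⁻¹ * g) v₀ = v₀ := by
          rw [hactm, h', ← hactm, inv_mul_cancel, hact1]
        have h3 := hfree _ _ hv₀ h2
        apply congrArg some
        calc g = g' * (g'⁻¹ * g) := by group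
          _ = g' := by rw [h3, mul_one]
  · intro y
    by_cases hy : y = 0
    · exact ⟨none, hy.symm⟩
    · obtain ⟨g, hg⟩ := htr v₀ y hv₀ hy
      exact ⟨some g, hg⟩

theorem exists_index_two_mod {X V : Type*} [Group X] [Finite X] [AddCommGroup V] [Finite V]
    {p : ℕ} [Fact p.Prime] [Module (ZMod p) V]
    (act : X → V → V) (hact1 : ∀ v, act 1 v = v)
    (hactm : ∀ g h v, act (g * h) v = act g (act h v))
    (hacta : ∀ g v w, act g (v + w) = act g v + act g w)
    (htr : ∀ v w : V, v ≠ 0 → w ≠ 0 → ∃ g, act g v = w)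
    (hfree : ∀ (g : X) (v : V), v ≠ 0 → act g v = v → g = 1) (v₀ : V) (hv₀ : v₀ ≠ 0)
    (hinv : ∀ x y : X, orderOf x = 2 → orderOf y = 2 → x = y)
    (heven : Even (Nat.card X))
    (hodd : ∀ O : Subgroup X, Odd (Nat.card O) → Group.IsSolvable O)
    (σ : X →* X) (j : X) (hfix : ∀ h, σ h = h → h = 1 ∨ h = j)
    (hA : ∀ d : X, d ^ 3 = 1 → σ d = d⁻¹) :
    ∃ K : Subgroup X, K.index = 2 := by
  classical
  by_contra hno
  push Not at hno
  have hc3 : ∀ d : X, d ^ 3 = 1 → ∀ g : X, g * d = d * g := by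
    intro d hd
    apply Idx2Abs.central_of_inverted σ j hfix hno d
    intro g
    have h1 : (g * d * g⁻¹) ^ 3 = 1 := by rw [conj_pow, hd]; group
    rw [hA _ h1]; group
  have hsolv : Group.IsSolvable X := Idx2Gen.solvable_of_central hinv hc3 hodd
  let f : X → (V →+ V) := fun g => AddMonoidHom.mk' (act g) (hacta g)
  have hf : ∀ g v, f g v = act g v := fun g v => rfl
  have hzero : ∀ g, act g 0 = 0 := fun g => by rw [← hf, map_zero]
  have hcardV : Nat.card X + 1 = Nat.card V :=
    card_of_regular act hact1 hactm htr hfree v₀ hv₀ hzero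
  let ρ : X →* (V ≃ₗ[ZMod p] V) :=
    { toFun := fun g =>
        { toFun := act g
          invFun := act g⁻¹
          left_inv := fun v => by rw [← hactm, inv_mul_cancel, hact1]
          right_inv := fun v => by rw [← hactm, mul_inv_cancel, hact1]
          map_add' := hacta g
          map_smul' := fun c v => ZMod.map_smul (f g) c v }
      map_one' := by
        apply LinearEquiv.ext
        intro v
        exact hact1 v
      map_mul' := by
        intro g h
        apply LinearEquiv.ext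
        intro v
        exact hactm g h v }
  have hρ : ∀ (g : X) (v : V), ρ g v = act g v := fun g v => rfl
  have hinj : Function.Injective ρ := by
    rw [injective_iff_map_eq_one]
    intro g hg
    apply hfree g v₀ hv₀
    rw [← hρ, hg]
    rfl
  let e : X ≃* ρ.range := MonoidHom.ofInjective hinj
  have hcardHl : Nat.card ρ.range = Nat.card X := (Nat.card_congr e.toEquiv).symm
  have hreg : ∀ v w : V, v ≠ 0 → w ≠ 0 →
      ∃! h : ρ.range, (h : V ≃ₗ[ZMod p] V) v = w := by
    intro v w hv hw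
    obtain ⟨g, hg⟩ := htr _ _ hv hw
    refine ⟨⟨ρ g, g, rfl⟩, hg, ?_⟩
    rintro ⟨h', g', rfl⟩ hh
    have h1 : act g' v = w := hh
    have h2 : act (g⁻¹ * g') v = v := by
      rw [hactm, h1, ← hg, ← hactm, inv_mul_cancel, hact1]
    have h3 := hfree _ _ hv h2
    have h4 : g' = g := by
      calc g' = g * (g⁻¹ * g') := by group
        _ = g := by rw [h3, mul_one]
    apply Subtype.ext
    show ρ g' = ρ g
    rw [h4]
  have hsolvHl : Group.IsSolvable ρ.range :=
    Group.isSolvable_of_surjective (f := e.toMonoidHom) e.surjective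
  by_cases hI : ∀ A' : Subgroup ρ.range, A'.Normal → IsCyclic A' →
      ∃ W : Submodule (ZMod p) V, W ≠ ⊥ ∧ W ≠ ⊤ ∧
        ∀ a ∈ A', ∀ v ∈ W, ((a : ρ.range) : V ≃ₗ[ZMod p] V) v ∈ W
  · have h1 := Cfsg.Agent.S0688.result ρ.range hreg hI hsolvHl
    rw [← hcardV] at h1
    have h3 : 3 ∣ Nat.card X := by rcases h1 with h | h | h | h <;> omega
    have h9 : ¬ 9 ∣ Nat.card X := by rcases h1 with h | h | h | h <;> omega
    have : Fact (Nat.Prime 3) := ⟨Nat.prime_three⟩
    obtain ⟨d, hd⟩ := exists_prime_orderOf_dvd_card' (G := X) 3 h3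
    obtain ⟨K, hK⟩ := Idx2Gen.exists_index_two_of_central_three hinv heven h9 d hd
      (hc3 d (by rw [← hd]; exact pow_orderOf_eq_one d))
    exact hno K hK
  · push Not at hI
    obtain ⟨A', hA'n, hA'c, hA'⟩ := hI
    have hirr : ∀ W : Submodule (ZMod p) V,
        (∀ a ∈ A', ∀ v ∈ W, ((a : ρ.range) : V ≃ₗ[ZMod p] V) v ∈ W) →
          W = ⊥ ∨ W = ⊤ := by
      intro W hW
      by_contra hcon
      push Not at hcon
      obtain ⟨a, ha, v, hv, hav⟩ := hA' W hcon.1 hcon.2
      exact hav (hW a ha v hv)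
    obtain ⟨K, hK⟩ := lin_index_two ρ.range (by rw [hcardHl]; exact heven) A' hA'n hA'c hirr
    obtain ⟨K', hK'⟩ :=
      Idx2Gen.exists_index_two_of_surjective e.toMonoidHom e.surjective ⟨K, hK⟩
    exact hno K' hK'

theorem exists_index_two {X V : Type*} [Group X] [Finite X] [AddCommGroup V] [Finite V]
    (act : X → V → V) (hact1 : ∀ v, act 1 v = v)
    (hactm : ∀ g h v, act (g * h) v = act g (act h v))
    (hacta : ∀ g v w, act g (v + w) = act g v + act g w)
    (htr : ∀ v w : V, v ≠ 0 → w ≠ 0 → ∃ g, act g v = w)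
    (hfree : ∀ (g : X) (v : V), v ≠ 0 → act g v = v → g = 1) (v₀ : V) (hv₀ : v₀ ≠ 0)
    (hinv : ∀ x y : X, orderOf x = 2 → orderOf y = 2 → x = y)
    (heven : Even (Nat.card X))
    (hodd : ∀ O : Subgroup X, Odd (Nat.card O) → Group.IsSolvable O)
    (σ : X →* X) (j : X) (hfix : ∀ h, σ h = h → h = 1 ∨ h = j)
    (hA : ∀ d : X, d ^ 3 = 1 → σ d = d⁻¹) :
    ∃ K : Subgroup X, K.index = 2 := by
  classical
  let f : X → (V →+ V) := fun g => AddMonoidHom.mk' (act g) (hacta g)
  have hf : ∀ g v, f g v = act g v := fun g v => rfl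
  have hzero : ∀ g, act g 0 = 0 := fun g => by rw [← hf, map_zero]
  have hcardV : Nat.card X + 1 = Nat.card V :=
    card_of_regular act hact1 hactm htr hfree v₀ hv₀ hzero
  have hV1 : Nat.card V ≠ 1 := by
    have := Nat.card_pos (α := X)
    omega
  obtain ⟨p, hp, hpd⟩ := Nat.exists_prime_and_dvd hV1
  have hpf : Fact p.Prime := ⟨hp⟩
  obtain ⟨y, hy⟩ := exists_prime_addOrderOf_dvd_card' (G := V) p hpd
  have hy1 : y ≠ 0 := by
    rintro rfl
    rw [addOrderOf_zero] at hy
    exact hp.one_lt.ne hy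
  have hyp : p • y = 0 := by rw [← hy]; exact addOrderOf_nsmul_eq_zero y
  have hexp : ∀ v : V, p • v = 0 := by
    intro v
    by_cases hv : v = 0
    · rw [hv, smul_zero]
    · obtain ⟨g, rfl⟩ := htr y v hy1 hv
      rw [← hf, ← map_nsmul, hyp, map_zero]
  exact @exists_index_two_mod X V _ _ _ _ p hpf (AddCommGroup.zmodModule hexp) act hact1 hactm
    hacta htr hfree v₀ hv₀ hinv heven hodd σ j hfix hA

/-- multiplicative form of `exists_index_two` -/
theorem exists_index_two_mul {X A : Type*} [Group X] [Finite X] [Group A] [Finite A]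
    (hcomm : ∀ x y : A, x * y = y * x)
    (act : X → A → A) (hact1 : ∀ x, act 1 x = x)
    (hactm : ∀ g h x, act (g * h) x = act g (act h x))
    (hacta : ∀ g x y, act g (x * y) = act g x * act g y)
    (htr : ∀ x y : A, x ≠ 1 → y ≠ 1 → ∃ g, act g x = y)
    (hfree : ∀ (g : X) (x : A), x ≠ 1 → act g x = x → g = 1) (x₀ : A) (hx₀ : x₀ ≠ 1)
    (hinv : ∀ x y : X, orderOf x = 2 → orderOf y = 2 → x = y)
    (heven : Even (Nat.card X))
    (hodd : ∀ O : Subgroup X, Odd (Nat.card O) → Group.IsSolvable O)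
    (σ : X →* X) (j : X) (hfix : ∀ h, σ h = h → h = 1 ∨ h = j)
    (hA : ∀ d : X, d ^ 3 = 1 → σ d = d⁻¹) :
    ∃ K : Subgroup X, K.index = 2 := by
  let _ : CommGroup A := { ‹Group A› with mul_comm := hcomm }
  exact exists_index_two (V := Additive A)
    (fun g v => Additive.ofMul (act g (Additive.toMul v)))
    (fun v => hact1 (Additive.toMul v)) (fun g h v => hactm g h (Additive.toMul v))
    (fun g v w => hacta g (Additive.toMul v) (Additive.toMul w))
    (fun v w hv hw => htr (Additive.toMul v) (Additive.toMul w) hv hw)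
    (fun g v hv h => hfree g (Additive.toMul v) hv h) (Additive.ofMul x₀) hx₀ hinv heven hodd
    σ j hfix hA

end Cfsg.Agent.Lib.Helper52.Idx2Lin
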