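import Mathlib
import Cfsg.Agent.Lib.Helper52.S3TQ
import Cfsg.Agent.Lib.Helper52.Idx2Lin
import Cfsg.Agent.Lib.Helper54.FpfCyclic

/-!
Sharply triply transitive groups of even degree: the two point stabiliser has a subgroup of
index two invariant under the involution `t` (`exists_K`), and the group has a proper nontrivial
normal subgroup (`exists_normal`).
-/

set_option autoImplicit false
set_option linter.unusedSectionVars false

namespace Cfsg.Agent.Lib.Helper52.S3TIdx2

open Cfsg.Agent.Lib.Helper52 Cfsg.Agent.Lib.Helper52.S3TQ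

universe u v

variable {G : Type u} [Group G] {Ω : Type v} [MulAction G Ω] [Finite Ω]

/-- the two point stabiliser -/
abbrev Hab (S : QSetup G Ω) : Subgroup G :=
  MulAction.stabilizer G S.a ⊓ MulAction.stabilizer G S.b

theorem mem_Hab (S : QSetup G Ω) {h : G} : h ∈ Hab S ↔ h • S.a = S.a ∧ h • S.b = S.b :=
  Subgroup.mem_inf

/-- conjugation by `t` on the two point stabiliser -/
def sig (S : QSetup G Ω) : ↥(Hab S) →* ↥(Hab S) where
  toFun h := ⟨S.t * h * S.t⁻¹,
    Subgroup.mem_inf.2 ⟨S.conj_t_a (S.toPre.H_b h), S.conj_t_b (S.toPre.H_a h)⟩⟩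
  map_one' := Subtype.ext (by
    show S.t * (1 : G) * S.t⁻¹ = 1
    group)
  map_mul' := fun x y => Subtype.ext (by
    show S.t * ((x : G) * (y : G)) * S.t⁻¹ = (S.t * (x : G) * S.t⁻¹) * (S.t * (y : G) * S.t⁻¹)
    group)

theorem sig_coe (S : QSetup G Ω) (h : ↥(Hab S)) :
    ((sig S h : ↥(Hab S)) : G) = S.t * h * S.t⁻¹ := rfl

theorem sig_sig (S : QSetup G Ω) (h : ↥(Hab S)) : sig S (sig S h) = h := by
  apply Subtype.ext
  rw [sig_coe, sig_coe]
  calc S.t * (S.t * (h : G) * S.t⁻¹) * S.t⁻¹ = (S.t * S.t) * (h : G) * (S.t * S.t)⁻¹ := by group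
    _ = h := by rw [S.htt]; group

theorem exists_index_two_H (S : QSetup G Ω) : ∃ K : Subgroup ↥(Hab S), K.index = 2 := by
  classical
  have hfinG : Finite G := S.toPre.finite_group
  have hUcomm : ∀ x y : ↥S.U, x * y = y * x := fun x y => Subtype.ext (S.U_comm x.2 y.2)
  let act : ↥(Hab S) → ↥S.U → ↥S.U := fun h x =>
    ⟨(h : G) * (x : G) * (h : G)⁻¹, S.hUnorm h (S.toPre.H_a h) x x.2⟩
  have hact : ∀ h x, ((act h x : ↥S.U) : G) = (h : G) * (x : G) * (h : G)⁻¹ := fun h x => rfl
  have hjmem : S.j ∈ Hab S := Subgroup.mem_inf.2 ⟨S.hja, S.hjb⟩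
  refine Idx2Lin.exists_index_two_mul hUcomm act ?_ ?_ ?_ ?_ ?_ ⟨S.u1, S.hu1⟩ ?_ ?_ ?_ ?_ (sig S)
    ⟨S.j, hjmem⟩ ?_ ?_
  · intro x
    apply Subtype.ext
    rw [hact]
    show (1 : G) * (x : G) * (1 : G)⁻¹ = x
    group
  · intro g h x
    apply Subtype.ext
    rw [hact, hact, hact]
    show ((g : G) * (h : G)) * (x : G) * ((g : G) * (h : G))⁻¹ =
      (g : G) * ((h : G) * (x : G) * (h : G)⁻¹) * (g : G)⁻¹
    group
  · intro g x y
    apply Subtype.ext
    rw [hact]
    show (g : G) * ((x : G) * (y : G)) * (g : G)⁻¹ =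
      ((g : G) * (x : G) * (g : G)⁻¹) * ((g : G) * (y : G) * (g : G)⁻¹)
    group
  · intro x y hx hy
    have hx' : (x : G) ≠ 1 := fun h => hx (Subtype.ext h)
    have hy' : (y : G) ≠ 1 := fun h => hy (Subtype.ext h)
    obtain ⟨h, ha, hb, e⟩ := S.toPre.H_trans x.2 hx' y.2 hy'
    exact ⟨⟨h, Subgroup.mem_inf.2 ⟨ha, hb⟩⟩, Subtype.ext e⟩
  · intro g x hx hgx
    have hx' : (x : G) ≠ 1 := fun h => hx (Subtype.ext h)
    have e : (g : G) * (x : G) * (g : G)⁻¹ = x := congrArg Subtype.val hgx
    exact Subtype.ext (S.toPre.H_free (S.toPre.H_a g) (S.toPre.H_b g) x.2 hx' e)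
  · intro h
    exact S.hu11 (congrArg Subtype.val h)
  · intro x y hx hy
    have key : ∀ z : ↥(Hab S), orderOf z = 2 → (z : G) = S.j := by
      intro z hz
      apply S.j_unique (S.toPre.H_a z) (S.toPre.H_b z)
      · have h' := pow_orderOf_eq_one z
        rw [hz, pow_two] at h'
        exact congrArg Subtype.val h'
      · intro h
        have h' : z = 1 := Subtype.ext h
        rw [h', orderOf_one] at hz
        omega
    exact Subtype.ext ((key x hx).trans (key y hy).symm)
  · have : Fact (Nat.Prime 2) := ⟨Nat.prime_two⟩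
    have hj2 : orderOf (⟨S.j, hjmem⟩ : ↥(Hab S)) = 2 :=
      orderOf_eq_prime (by apply Subtype.ext; rw [pow_two]; exact S.hjj)
        (fun h => S.hj1 (congrArg Subtype.val h))
    have h2 := orderOf_dvd_natCard (⟨S.j, hjmem⟩ : ↥(Hab S))
    rw [hj2] at h2
    exact even_iff_two_dvd.2 h2
  · intro O hO
    have hZ : IsZGroup ↥O := by
      refine ⟨fun p hp P => ?_⟩
      have : Fact p.Prime := ⟨hp⟩
      by_cases hp2 : p = 2
      · subst hp2
        have h1 : Nat.card P ∣ Nat.card O := Subgroup.card_subgroup_dvd_card _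
        obtain ⟨n, hn⟩ := IsPGroup.iff_card.1 P.isPGroup'
        have h2 : Nat.card P = 1 := by
          rw [hn] at h1 ⊢
          cases n with
          | zero => rfl
          | succ n =>
            exfalso
            have h3 : 2 ∣ Nat.card O := (dvd_pow_self 2 (Nat.succ_ne_zero n)).trans h1
            exact (Nat.not_even_iff_odd.2 hO) (even_iff_two_dvd.2 h3)
        have : Subsingleton P := (Nat.card_eq_one_iff_unique.1 h2).1
        exact isCyclic_of_subsingleton
      · have hUI : Cfsg.Agent.Lib.Helper54.UniqueSubgroup.UI p ↥P := by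
          refine Cfsg.Agent.Lib.Helper54.FpfCyclic.ui_of_fpf' S.U ?_ P.isPGroup'
            ((Hab S).subtype.comp (O.subtype.comp (P : Subgroup ↥O).subtype)) ?_ ?_
          · intro h
            have h1 := S.hu1
            rw [h, Subgroup.mem_bot] at h1
            exact S.hu11 h1
          · intro s
            rw [Subgroup.mem_normalizer_iff]
            intro x
            have hsa := S.toPre.H_a ((s : ↥O) : ↥(Hab S))
            constructor
            · intro hx
              exact S.hUnorm _ hsa x hx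
            · intro hx
              have h1 := S.hUnorm (((s : ↥O) : ↥(Hab S)) : G)⁻¹
                (by rw [inv_smul_eq_iff]; exact hsa.symm) _ hx
              have h2 : (((s : ↥O) : ↥(Hab S)) : G)⁻¹ *
                  ((((s : ↥O) : ↥(Hab S)) : G) * x * (((s : ↥O) : ↥(Hab S)) : G)⁻¹) *
                  (((s : ↥O) : ↥(Hab S)) : G)⁻¹⁻¹ = x := by group
              rw [← h2]
              exact h1
          · intro s hs x hx hc
            by_contra hx1
            apply hs
            have hc' : (((s : ↥O) : ↥(Hab S)) : G) * x = x * (((s : ↥O) : ↥(Hab S)) : G) := hc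
            have e : (((s : ↥O) : ↥(Hab S)) : G) * x * (((s : ↥O) : ↥(Hab S)) : G)⁻¹ = x := by
              rw [hc']; group
            have h1 := S.toPre.H_free (S.toPre.H_a ((s : ↥O) : ↥(Hab S)))
              (S.toPre.H_b ((s : ↥O) : ↥(Hab S))) hx hx1 e
            exact Subtype.ext (Subtype.ext (Subtype.ext h1))
        exact Cfsg.Agent.Lib.Helper54.UniqueSubgroup.isCyclic_of_odd hp2 (Nat.card P) ↥P rfl
          P.isPGroup' hUI
    infer_instance
  · intro h hh
    have e : S.t * (h : G) * S.t⁻¹ = h := congrArg Subtype.val hh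
    rcases S.fix_t (S.toPre.H_a h) (S.toPre.H_b h) e with h1 | h1
    · left; exact Subtype.ext h1
    · right; exact Subtype.ext h1
  · intro d hd
    apply Subtype.ext
    have hd' : (d : G) * (d : G) * (d : G) = 1 := by
      have h1 := congrArg Subtype.val hd
      rw [pow_succ, pow_two] at h1
      exact h1
    exact S.inv_of_order_three (S.toPre.H_a d) (S.toPre.H_b d) hd'

/-- a `t`-invariant subgroup of index two of the two point stabiliser containing all
`h⁻¹ * (t * h * t⁻¹)` -/
theorem exists_K (S : QSetup G Ω) :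
    ∃ K : Subgroup ↥(Hab S), K.index = 2 ∧ (∀ k ∈ K, sig S k ∈ K) ∧
      ∀ g : ↥(Hab S), g⁻¹ * sig S g ∈ K := by
  obtain ⟨K₀, hK₀⟩ := exists_index_two_H S
  exact Idx2Abs.exists_invariant (sig S) (sig_sig S) K₀ hK₀

/-- In a sharply triply transitive group of even degree at least `6`, the stabiliser of two
points `a, b` has a normal subgroup of index two normalised by the element interchanging `a, b`
and fixing `c`. -/
theorem exists_N
    (h3 : ∀ x y z x' y' z' : Ω, x ≠ y → x ≠ z → y ≠ z → x' ≠ y' → x' ≠ z' → y' ≠ z' →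
      ∃ g : G, g • x = x' ∧ g • y = y' ∧ g • z = z')
    (hfix : ∀ (g : G) (x y z : Ω), x ≠ y → x ≠ z → y ≠ z → g • x = x → g • y = y → g • z = z →
      g = 1)
    (heven : Even (Nat.card Ω)) (h6 : 6 ≤ Nat.card Ω) (a b c : Ω) (hab : a ≠ b) (hac : a ≠ c)
    (hbc : b ≠ c) (s : G) (hsa : s • a = b) (hsb : s • b = a) (hsc : s • c = c) :
    ∃ N : Subgroup G, N ≤ MulAction.stabilizer G a ⊓ MulAction.stabilizer G b ∧
      (N.subgroupOf (MulAction.stabilizer G a ⊓ MulAction.stabilizer G b)).Normal ∧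
      N.relIndex (MulAction.stabilizer G a ⊓ MulAction.stabilizer G b) = 2 ∧
      ∀ n ∈ N, s * n * s⁻¹ ∈ N := by
  obtain ⟨P, rfl, rfl, rfl⟩ := exists_pre_at h3 hfix (by omega) a b c hab hac hbc
  obtain ⟨S, rfl⟩ := exists_qsetup P heven (by omega)
  have hst : s = S.t := by
    have h1 : S.t⁻¹ * s = 1 := by
      apply hfix _ _ _ _ hab hac hbc
      · rw [mul_smul, hsa, inv_smul_eq_iff, S.hta]
      · rw [mul_smul, hsb, inv_smul_eq_iff, S.htb]
      · rw [mul_smul, hsc, inv_smul_eq_iff, S.htc]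
    calc s = S.t * (S.t⁻¹ * s) := by group
      _ = S.t := by rw [h1, mul_one]
  obtain ⟨K, hK2, hKσ, -⟩ := exists_K S
  have hNK : (K.map (Hab S).subtype).subgroupOf (Hab S) = K :=
    Subgroup.comap_map_eq_self_of_injective (Subgroup.subtype_injective _) K
  refine ⟨K.map (Hab S).subtype, Subgroup.map_subtype_le K, ?_, ?_, ?_⟩
  · rw [hNK]
    exact Subgroup.normal_of_index_eq_two hK2
  · unfold Subgroup.relIndex
    rw [hNK]
    exact hK2
  · rintro n ⟨k, hk, rfl⟩
    rw [hst]
    exact ⟨sig S k, hKσ k hk, rfl⟩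

end Cfsg.Agent.Lib.Helper52.S3TIdx2
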