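import Mathlib
import Cfsg.Agent.Lib.Helper52.S3TIdx2

/-!
A sharply triply transitive group of even degree at least `6` has a proper nontrivial normal
subgroup (`exists_normal`): with `K` the `t`-invariant subgroup of index two of the two point
stabiliser and `τ = j t`, the subgroup generated by `U`, `K` and `τ` is contained in
`U K ∪ U K τ U`, is normal, and does not contain the two point stabiliser.
-/

set_option autoImplicit false
set_option linter.unusedSectionVars false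

namespace Cfsg.Agent.Lib.Helper52.S3TNS

open Cfsg.Agent.Lib.Helper52 Cfsg.Agent.Lib.Helper52.S3TQ

universe u v

variable {G : Type u} [Group G] {Ω : Type v} [MulAction G Ω] [Finite Ω]

theorem exists_normal_of_K (S : QSetup G Ω) (Kg : Subgroup G)
    (hK1 : ∀ k ∈ Kg, k • S.a = S.a ∧ k • S.b = S.b)
    (hK2 : ∀ k ∈ Kg, S.t * k * S.t⁻¹ ∈ Kg)
    (hK3 : ∀ h : G, h • S.a = S.a → h • S.b = S.b → h⁻¹ * (S.t * h * S.t⁻¹) ∈ Kg)
    (hK4 : ∀ k ∈ Kg, ∀ h : G, h • S.a = S.a → h • S.b = S.b → h * k * h⁻¹ ∈ Kg)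
    (h₀ : G) (h₀a : h₀ • S.a = S.a) (h₀b : h₀ • S.b = S.b) (h₀K : h₀ ∉ Kg) :
    ∃ N : Subgroup G, N.Normal ∧ N ≠ ⊥ ∧ N ≠ ⊤ := by
  obtain ⟨τ, hτ⟩ : ∃ τ, τ = S.j * S.t := ⟨_, rfl⟩
  have hττ : τ * τ = 1 := by rw [hτ]; exact S.tau_sq
  have hτi : τ⁻¹ = τ := by rw [inv_eq_iff_mul_eq_one]; exact hττ
  have hτa : τ • S.a = S.b := by rw [hτ]; exact S.tau_a
  have hrel : τ * S.u1 * τ = S.u1⁻¹ * τ * S.u1⁻¹ := by rw [hτ]; exact S.tau_rel
  have hinva : ∀ h : G, h • S.a = S.a → h⁻¹ • S.a = S.a := by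
    intro h ha
    rw [inv_smul_eq_iff]; exact ha.symm
  have hinvb : ∀ h : G, h • S.b = S.b → h⁻¹ • S.b = S.b := by
    intro h hb
    rw [inv_smul_eq_iff]; exact hb.symm
  have hconj : ∀ h : G, h • S.a = S.a → h • S.b = S.b → τ * h = (S.t * h * S.t⁻¹) * τ := by
    intro h ha hb
    rw [hτ]
    calc S.j * S.t * h = S.j * (S.t * h * S.t⁻¹) * S.t := by group
      _ = (S.t * h * S.t⁻¹) * S.j * S.t := by
          rw [← S.j_central (S.conj_t_a hb) (S.conj_t_b ha)]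
      _ = (S.t * h * S.t⁻¹) * (S.j * S.t) := by rw [mul_assoc]
  let M : Set G := {g | (∃ u ∈ S.U, ∃ k ∈ Kg, g = u * k) ∨
    (∃ u ∈ S.U, ∃ k ∈ Kg, ∃ u' ∈ S.U, g = u * k * τ * u')}
  have hstep : ∀ m ∈ M, ∀ x : G, (x ∈ S.U ∨ x ∈ Kg ∨ x = τ) → m * x ∈ M := by
    intro m hm x hx
    rcases hx with hx | hx | hx
    · rcases hm with ⟨u, hu, k, hk, rfl⟩ | ⟨u, hu, k, hk, u', hu', rfl⟩
      · left
        exact ⟨u * (k * x * k⁻¹), S.U.mul_mem hu (S.hUnorm k (hK1 k hk).1 x hx), k, hk, by group⟩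
      · right
        exact ⟨u, hu, k, hk, u' * x, S.U.mul_mem hu' hx, by group⟩
    · rcases hm with ⟨u, hu, k, hk, rfl⟩ | ⟨u, hu, k, hk, u', hu', rfl⟩
      · left
        exact ⟨u, hu, k * x, Kg.mul_mem hk hx, by group⟩
      · right
        refine ⟨u, hu, k * (S.t * x * S.t⁻¹), Kg.mul_mem hk (hK2 x hx), x⁻¹ * u' * x, ?_, ?_⟩
        · have h1 := S.hUnorm x⁻¹ (hinva x (hK1 x hx).1) u' hu'
          rw [inv_inv] at h1
          exact h1
        · have h1 := hconj x (hK1 x hx).1 (hK1 x hx).2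
          calc u * k * τ * u' * x = u * k * (τ * x) * (x⁻¹ * u' * x) := by group
            _ = u * k * ((S.t * x * S.t⁻¹) * τ) * (x⁻¹ * u' * x) := by rw [h1]
            _ = u * (k * (S.t * x * S.t⁻¹)) * τ * (x⁻¹ * u' * x) := by group
    · rw [hx]
      rcases hm with ⟨u, hu, k, hk, rfl⟩ | ⟨u, hu, k, hk, u', hu', rfl⟩
      · right
        exact ⟨u, hu, k, hk, 1, S.U.one_mem, by group⟩
      · by_cases hu'1 : u' = 1
        · left
          refine ⟨u, hu, k, hk, ?_⟩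
          rw [hu'1]
          calc u * k * τ * 1 * τ = u * k * (τ * τ) := by group
            _ = u * k := by rw [hττ, mul_one]
        · obtain ⟨h, ha, hb, e⟩ := S.toPre.H_trans S.hu1 S.hu11 hu' hu'1
          obtain ⟨sh, hsh⟩ : ∃ sh, sh = S.t * h * S.t⁻¹ := ⟨_, rfl⟩
          have sha : sh • S.a = S.a := by rw [hsh]; exact S.conj_t_a hb
          have shb : sh • S.b = S.b := by rw [hsh]; exact S.conj_t_b ha
          have h1 : τ * h = sh * τ := by rw [hsh]; exact hconj h ha hb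
          have h2 : τ * sh = h * τ := by
            have h' := hconj sh sha shb
            have e2 : S.t * sh * S.t⁻¹ = h := by
              rw [hsh]
              calc S.t * (S.t * h * S.t⁻¹) * S.t⁻¹ = (S.t * S.t) * h * (S.t * S.t)⁻¹ := by group
                _ = h := by rw [S.htt]; group
            rw [e2] at h'
            exact h'
          have hũ : sh * S.u1⁻¹ * sh⁻¹ ∈ S.U := S.hUnorm sh sha _ (S.U.inv_mem S.hu1)
          have h3 : h⁻¹ * τ = τ * sh⁻¹ := by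
            calc h⁻¹ * τ = h⁻¹ * (τ * sh) * sh⁻¹ := by group
              _ = h⁻¹ * (h * τ) * sh⁻¹ := by rw [h2]
              _ = τ * sh⁻¹ := by group
          have key : τ * u' * τ =
              (sh * S.u1⁻¹ * sh⁻¹) * (sh * h⁻¹) * τ * (sh * S.u1⁻¹ * sh⁻¹) := by
            calc τ * u' * τ = (τ * h) * S.u1 * (h⁻¹ * τ) := by rw [← e]; group
              _ = (sh * τ) * S.u1 * (τ * sh⁻¹) := by rw [h1, h3]
              _ = sh * (τ * S.u1 * τ) * sh⁻¹ := by group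
              _ = sh * (S.u1⁻¹ * τ * S.u1⁻¹) * sh⁻¹ := by rw [hrel]
              _ = (sh * S.u1⁻¹ * sh⁻¹) * sh * (τ * sh⁻¹) * (sh * S.u1⁻¹ * sh⁻¹) := by group
              _ = (sh * S.u1⁻¹ * sh⁻¹) * sh * (h⁻¹ * τ) * (sh * S.u1⁻¹ * sh⁻¹) := by rw [h3]
              _ = (sh * S.u1⁻¹ * sh⁻¹) * (sh * h⁻¹) * τ * (sh * S.u1⁻¹ * sh⁻¹) := by group
          have hkK : sh * h⁻¹ ∈ Kg := by
            have h4 := Kg.inv_mem (hK3 h⁻¹ (hinva h ha) (hinvb h hb))
            have h5 : (h⁻¹⁻¹ * (S.t * h⁻¹ * S.t⁻¹))⁻¹ = sh * h⁻¹ := by rw [hsh]; group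
            rw [h5] at h4
            exact h4
          right
          refine ⟨u * (k * (sh * S.u1⁻¹ * sh⁻¹) * k⁻¹),
            S.U.mul_mem hu (S.hUnorm k (hK1 k hk).1 _ hũ), k * (sh * h⁻¹), Kg.mul_mem hk hkK,
            sh * S.u1⁻¹ * sh⁻¹, hũ, ?_⟩
          calc u * k * τ * u' * τ = u * k * (τ * u' * τ) := by group
            _ = u * k * ((sh * S.u1⁻¹ * sh⁻¹) * (sh * h⁻¹) * τ * (sh * S.u1⁻¹ * sh⁻¹)) := by
                rw [key]
            _ = u * (k * (sh * S.u1⁻¹ * sh⁻¹) * k⁻¹) * (k * (sh * h⁻¹)) * τ *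
                  (sh * S.u1⁻¹ * sh⁻¹) := by group
  have hTinv : ∀ x : G, (x ∈ S.U ∨ x ∈ Kg ∨ x = τ) → (x⁻¹ ∈ S.U ∨ x⁻¹ ∈ Kg ∨ x⁻¹ = τ) := by
    rintro x (hx | hx | hx)
    · exact Or.inl (S.U.inv_mem hx)
    · exact Or.inr (Or.inl (Kg.inv_mem hx))
    · rw [hx]
      exact Or.inr (Or.inr hτi)
  let T : Set G := {x | x ∈ S.U ∨ x ∈ Kg ∨ x = τ}
  have hclM : ∀ g ∈ Subgroup.closure T, g ∈ M := by
    intro g hg
    induction hg using Subgroup.closure_induction_right with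
    | one =>
      left
      exact ⟨1, S.U.one_mem, 1, Kg.one_mem, by group⟩
    | mul_right x hx y hy ih => exact hstep x ih y hy
    | mul_inv_cancel x hx y hy ih => exact hstep x ih y⁻¹ (hTinv y hy)
  have hU : ∀ u ∈ S.U, u ∈ Subgroup.closure T :=
    fun u hu => Subgroup.subset_closure (Or.inl hu)
  have hKc : ∀ k ∈ Kg, k ∈ Subgroup.closure T :=
    fun k hk => Subgroup.subset_closure (Or.inr (Or.inl hk))
  have hτc : τ ∈ Subgroup.closure T := Subgroup.subset_closure (Or.inr (Or.inr rfl))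
  have hHn : ∀ h : G, h • S.a = S.a → h • S.b = S.b → ∀ n ∈ Subgroup.closure T,
      h * n * h⁻¹ ∈ Subgroup.closure T := by
    intro h ha hb n hn
    induction hn using Subgroup.closure_induction with
    | mem x hx =>
      rcases hx with hx | hx | hx
      · exact hU _ (S.hUnorm h ha x hx)
      · exact hKc _ (hK4 x hx h ha hb)
      · rw [hx]
        have h1 := hconj h⁻¹ (hinva h ha) (hinvb h hb)
        have h2 : h * τ * h⁻¹ = (h * (S.t * h⁻¹ * S.t⁻¹)) * τ := by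
          calc h * τ * h⁻¹ = h * (τ * h⁻¹) := by group
            _ = h * ((S.t * h⁻¹ * S.t⁻¹) * τ) := by rw [h1]
            _ = (h * (S.t * h⁻¹ * S.t⁻¹)) * τ := by group
        rw [h2]
        have h3 := hK3 h⁻¹ (hinva h ha) (hinvb h hb)
        rw [inv_inv] at h3
        exact (Subgroup.closure T).mul_mem (hKc _ h3) hτc
    | one =>
      rw [mul_one, mul_inv_cancel]
      exact Subgroup.one_mem _
    | mul x y hx hy ihx ihy =>
      have e : h * (x * y) * h⁻¹ = (h * x * h⁻¹) * (h * y * h⁻¹) := by group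
      rw [e]
      exact Subgroup.mul_mem _ ihx ihy
    | inv x hx ih =>
      have e : h * x⁻¹ * h⁻¹ = (h * x * h⁻¹)⁻¹ := by group
      rw [e]
      exact Subgroup.inv_mem _ ih
  have hCn : ∀ g ∈ Subgroup.closure T, ∀ n ∈ Subgroup.closure T,
      g * n * g⁻¹ ∈ Subgroup.closure T :=
    fun g hg n hn => Subgroup.mul_mem _ (Subgroup.mul_mem _ hg hn) (Subgroup.inv_mem _ hg)
  have hGa : ∀ g : G, g • S.a = S.a → ∀ n ∈ Subgroup.closure T,
      g * n * g⁻¹ ∈ Subgroup.closure T := by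
    intro g ga n hn
    have hgb : g • S.b ≠ S.a := by
      intro h
      have h' : g • S.b = g • S.a := by rw [ga]; exact h
      exact S.hab (smul_left_cancel _ h').symm
    obtain ⟨u, hu, e⟩ := S.hUtr S.b (g • S.b) (Ne.symm S.hab) hgb
    have ha : (u⁻¹ * g) • S.a = S.a := by rw [mul_smul, ga, inv_smul_eq_iff, S.hUa u hu]
    have hb : (u⁻¹ * g) • S.b = S.b := by rw [mul_smul, inv_smul_eq_iff, e]
    have h1 := hHn _ ha hb n hn
    have h2 := hCn u (hU u hu) _ h1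
    have e' : g * n * g⁻¹ = u * ((u⁻¹ * g) * n * (u⁻¹ * g)⁻¹) * u⁻¹ := by group
    rw [e']
    exact h2
  have hall : ∀ g : G, ∀ n ∈ Subgroup.closure T, g * n * g⁻¹ ∈ Subgroup.closure T := by
    intro g n hn
    by_cases ga : g • S.a = S.a
    · exact hGa g ga n hn
    · have hx : g⁻¹ • S.a ≠ S.a := by
        intro h
        apply ga
        rw [inv_smul_eq_iff] at h
        exact h.symm
      obtain ⟨u', hu', e⟩ := S.hUtr (g⁻¹ • S.a) S.b hx (Ne.symm S.hab)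
      have g'a : (g * u'⁻¹ * τ) • S.a = S.a := by
        rw [mul_smul, mul_smul, hτa, inv_smul_eq_iff.2 e.symm, smul_inv_smul]
      have h1 := hCn (τ * u') (Subgroup.mul_mem _ hτc (hU u' hu')) n hn
      have h2 := hGa _ g'a _ h1
      have e1 : (g * u'⁻¹ * τ) * (τ * u') = g := by
        calc (g * u'⁻¹ * τ) * (τ * u') = g * u'⁻¹ * (τ * τ) * u' := by group
          _ = g := by rw [hττ]; group
      have e' : g * n * g⁻¹ =
          (g * u'⁻¹ * τ) * ((τ * u') * n * (τ * u')⁻¹) * (g * u'⁻¹ * τ)⁻¹ := by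
        calc g * n * g⁻¹ = ((g * u'⁻¹ * τ) * (τ * u')) * n * ((g * u'⁻¹ * τ) * (τ * u'))⁻¹ := by
              rw [e1]
          _ = (g * u'⁻¹ * τ) * ((τ * u') * n * (τ * u')⁻¹) * (g * u'⁻¹ * τ)⁻¹ := by group
      rw [e']
      exact h2
  refine ⟨Subgroup.closure T, ⟨fun n hn g => hall g n hn⟩, ?_, ?_⟩
  · intro h
    have h1 := hU S.u1 S.hu1
    rw [h, Subgroup.mem_bot] at h1
    exact S.hu11 h1
  · intro h
    have hmem : h₀ ∈ Subgroup.closure T := by rw [h]; exact Subgroup.mem_top _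
    rcases hclM h₀ hmem with ⟨u, hu, k, hk, e⟩ | ⟨u, hu, k, hk, u', hu', e⟩
    · have hub : u • S.b = S.b := by
        have e' : u = h₀ * k⁻¹ := by rw [e]; group
        rw [e', mul_smul, hinvb k (hK1 k hk).2, h₀b]
      have hu1 : u = 1 := S.hUfree u hu S.b (Ne.symm S.hab) hub
      apply h₀K
      rw [e, hu1, one_mul]
      exact hk
    · have e' : h₀ • S.a = u • S.b := by
        rw [e, mul_smul, mul_smul, mul_smul, S.hUa u' hu', hτa, (hK1 k hk).2]
      rw [h₀a] at e'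
      exact S.toPre.smul_b_ne_a hu e'.symm

/-- A sharply triply transitive group of even degree at least `6` is not simple. -/
theorem exists_normal
    (h3 : ∀ x y z x' y' z' : Ω, x ≠ y → x ≠ z → y ≠ z → x' ≠ y' → x' ≠ z' → y' ≠ z' →
      ∃ g : G, g • x = x' ∧ g • y = y' ∧ g • z = z')
    (hfix : ∀ (g : G) (x y z : Ω), x ≠ y → x ≠ z → y ≠ z → g • x = x → g • y = y → g • z = z →
      g = 1)
    (heven : Even (Nat.card Ω)) (h6 : 6 ≤ Nat.card Ω) :
    ∃ N : Subgroup G, N.Normal ∧ N ≠ ⊥ ∧ N ≠ ⊤ := by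
  obtain ⟨P⟩ := S3TOdd.exists_pre h3 hfix (by omega)
  obtain ⟨S, -⟩ := exists_qsetup P heven (by omega)
  obtain ⟨K, hK2, hKσ, hKI⟩ := S3TIdx2.exists_K S
  have hKn : K.Normal := Subgroup.normal_of_index_eq_two hK2
  have hne : K ≠ ⊤ := by
    intro h
    rw [h, Subgroup.index_top] at hK2
    omega
  obtain ⟨h₀, -, hh₀⟩ := SetLike.exists_of_lt (lt_top_iff_ne_top.2 hne)
  refine exists_normal_of_K S (K.map (S3TIdx2.Hab S).subtype) ?_ ?_ ?_ ?_ (h₀ : G)
    (S.toPre.H_a h₀) (S.toPre.H_b h₀) ?_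
  · rintro k ⟨k', hk', rfl⟩
    exact ⟨S.toPre.H_a k', S.toPre.H_b k'⟩
  · rintro k ⟨k', hk', rfl⟩
    exact ⟨S3TIdx2.sig S k', hKσ k' hk', rfl⟩
  · intro h ha hb
    exact ⟨_, hKI ⟨h, Subgroup.mem_inf.2 ⟨ha, hb⟩⟩, rfl⟩
  · rintro k ⟨k', hk', rfl⟩ h ha hb
    exact ⟨_, hKn.conj_mem k' hk' ⟨h, Subgroup.mem_inf.2 ⟨ha, hb⟩⟩, rfl⟩
  · rintro ⟨k', hk', e⟩
    apply hh₀
    have e' : k' = h₀ := Subtype.ext e
    rw [← e']
    exact hk'

end Cfsg.Agent.Lib.Helper52.S3TNS
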