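import Mathlib
import Cfsg.Agent.Lib.Helper52.S3TNS

/-!
`S3TNS.exists_normal` for every even degree at least `4`: a sharply triply transitive group of
even degree at least `4` has a proper nontrivial normal subgroup.
-/

set_option autoImplicit false

namespace Cfsg.Agent.Lib.Helper52.S3TNS4

open Cfsg.Agent.Lib.Helper52 Cfsg.Agent.Lib.Helper52.S3TQ

universe u v

variable {G : Type u} [Group G] {Ω : Type v} [MulAction G Ω] [Finite Ω]

/-- A sharply triply transitive group of even degree at least `4` is not simple. -/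
theorem exists_normal'
    (h3 : ∀ x y z x' y' z' : Ω, x ≠ y → x ≠ z → y ≠ z → x' ≠ y' → x' ≠ z' → y' ≠ z' →
      ∃ g : G, g • x = x' ∧ g • y = y' ∧ g • z = z')
    (hfix : ∀ (g : G) (x y z : Ω), x ≠ y → x ≠ z → y ≠ z → g • x = x → g • y = y → g • z = z →
      g = 1)
    (heven : Even (Nat.card Ω)) (h4 : 4 ≤ Nat.card Ω) :
    ∃ N : Subgroup G, N.Normal ∧ N ≠ ⊥ ∧ N ≠ ⊤ := by
  obtain ⟨P⟩ := S3TOdd.exists_pre h3 hfix h4
  obtain ⟨S, -⟩ := exists_qsetup P heven h4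
  obtain ⟨K, hK2, hKσ, hKI⟩ := S3TIdx2.exists_K S
  have hKn : K.Normal := Subgroup.normal_of_index_eq_two hK2
  have hne : K ≠ ⊤ := by
    intro h
    rw [h, Subgroup.index_top] at hK2
    omega
  obtain ⟨h₀, -, hh₀⟩ := SetLike.exists_of_lt (lt_top_iff_ne_top.2 hne)
  refine S3TNS.exists_normal_of_K S (K.map (S3TIdx2.Hab S).subtype) ?_ ?_ ?_ ?_ (h₀ : G)
    (S.toPre.H_a h₀) (S.toPre.H_b h₀) ?_
  · rintro k ⟨k', hk', rfl⟩
    exact ⟨S.toPre.H_a k', S.toPre.H_b k'⟩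
  · rintro k ⟨k', hk', rfl⟩
    exact ⟨S3TIdx2.sig S k', hKσ k' hk', rfl⟩
  · intro h ha hb
    exact ⟨_, hKI ⟨h, Subgroup.mem_inf.2 ⟨ha, hb⟩⟩, rfl⟩
  · rintro k ⟨k', hk', rfl⟩ h ha hb
    exact ⟨_, hKn.conj_mem k' hk' ⟨h, Subgroup.mem_inf.2 ⟨ha, hb⟩⟩, rfl⟩
  · rintro ⟨k', hk', e⟩
    apply hh₀
    have e' : k' = h₀ := Subtype.ext e
    rw [← e']
    exact hk'

end Cfsg.Agent.Lib.Helper52.S3TNS4
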