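import Mathlib
import Cfsg.Prelude.Def_SporadicB
import Cfsg.Agent.S2530
import Cfsg.Agent.S5344
import Cfsg.Agent.Lib.Helper52.TT3Basic

set_option autoImplicit false

/-!
# The `S₅` case: a 4-string of 3-transpositions whose commuting partners form lines
-/

namespace Cfsg.Agent.Lib.Helper52.TT3S5

open Cfsg Subgroup Equiv
open Cfsg.Agent.Lib.Helper21.W3Apps Cfsg.Agent.Lib.Helper21.W3Class
open Cfsg.Agent.Lib.Helper52.TT3Basic

universe u
variable {G : Type u} [Group G] {D : Set G}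

/-- Coxeter relations of type `A₄` give a homomorphism from `S₅`. -/
theorem exists_hom5 (s₀ s₁ s₂ s₃ : G) (h0 : s₀ * s₀ = 1) (h1 : s₁ * s₁ = 1) (h2 : s₂ * s₂ = 1)
    (h3 : s₃ * s₃ = 1) (h01 : (s₀ * s₁) ^ 3 = 1) (h12 : (s₁ * s₂) ^ 3 = 1)
    (h23 : (s₂ * s₃) ^ 3 = 1) (h02 : s₀ * s₂ = s₂ * s₀) (h03 : s₀ * s₃ = s₃ * s₀)
    (h13 : s₁ * s₃ = s₃ * s₁) :
    ∃ φ : Perm (Fin 5) →* G, φ (swap 0 1) = s₀ ∧ φ (swap 1 2) = s₁ ∧ φ (swap 2 3) = s₂ ∧
      φ (swap 3 4) = s₃ := by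
  obtain ⟨cs, hcs⟩ := Cfsg.Agent.S2530.result 4
  have hrev : ∀ {a b : G}, a * a = 1 → b * b = 1 → (a * b) ^ 3 = 1 → (b * a) ^ 3 = 1 := by
    intro a b ha hb h
    have e : b * a = (a * b)⁻¹ := by
      rw [mul_inv_rev, Cfsg.Agent.Lib.Helper21.W3Basic.inv_of_sq ha, Cfsg.Agent.Lib.Helper21.W3Basic.inv_of_sq hb]
    rw [e, inv_pow, h, inv_one]
  have hsq : ∀ {a b : G}, a * a = 1 → b * b = 1 → a * b = b * a → (a * b) ^ 2 = 1 := by
    intro a b ha hb h
    rw [pow_two]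
    calc a * b * (a * b) = a * (b * a) * b := by group
      _ = a * (a * b) * b := by rw [h]
      _ = (a * a) * (b * b) := by group
      _ = 1 := by rw [ha, hb, one_mul]
  have hf : (CoxeterMatrix.A 4).IsLiftable (![s₀, s₁, s₂, s₃] : Fin 4 → G) := by
    intro i i'
    fin_cases i <;> fin_cases i'
    all_goals simp only [CoxeterMatrix.A]
    all_goals first
      | (show (s₀ * s₀) ^ 1 = 1; rw [h0, one_pow])
      | (show (s₁ * s₁) ^ 1 = 1; rw [h1, one_pow])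
      | (show (s₂ * s₂) ^ 1 = 1; rw [h2, one_pow])
      | (show (s₃ * s₃) ^ 1 = 1; rw [h3, one_pow])
      | (show (s₀ * s₁) ^ 3 = 1; exact h01)
      | (show (s₁ * s₀) ^ 3 = 1; exact hrev h0 h1 h01)
      | (show (s₁ * s₂) ^ 3 = 1; exact h12)
      | (show (s₂ * s₁) ^ 3 = 1; exact hrev h1 h2 h12)
      | (show (s₂ * s₃) ^ 3 = 1; exact h23)
      | (show (s₃ * s₂) ^ 3 = 1; exact hrev h2 h3 h23)
      | (show (s₀ * s₂) ^ 2 = 1; exact hsq h0 h2 h02)
      | (show (s₂ * s₀) ^ 2 = 1; exact hsq h2 h0 h02.symm)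
      | (show (s₀ * s₃) ^ 2 = 1; exact hsq h0 h3 h03)
      | (show (s₃ * s₀) ^ 2 = 1; exact hsq h3 h0 h03.symm)
      | (show (s₁ * s₃) ^ 2 = 1; exact hsq h1 h3 h13)
      | (show (s₃ * s₁) ^ 2 = 1; exact hsq h3 h1 h13.symm)
  refine ⟨cs.lift ⟨_, hf⟩, ?_, ?_, ?_, ?_⟩
  · have := cs.lift_apply_simple hf 0
    rw [hcs 0] at this
    exact this
  · have := cs.lift_apply_simple hf 1
    rw [hcs 1] at this
    exact this
  · have := cs.lift_apply_simple hf 2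
    rw [hcs 2] at this
    exact this
  · have := cs.lift_apply_simple hf 3
    rw [hcs 3] at this
    exact this

set_option maxRecDepth 100000 in
theorem center5 : ∀ g : Perm (Fin 5), (∀ x y : Fin 5, g * swap x y = swap x y * g) → g = 1 := by
  decide

/-- a homomorphism from `S₅` separating two adjacent transpositions is injective -/
theorem inj5 (φ : Perm (Fin 5) →* G) (hne : φ (swap 0 1) ≠ φ (swap 1 2)) :
    Function.Injective φ := by
  rw [← MonoidHom.ker_eq_bot_iff]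
  have hN : (φ.ker.subgroupOf (alternatingGroup (Fin 5))).Normal := inferInstance
  rcases hN.eq_bot_or_eq_top with h | h
  · rw [Subgroup.subgroupOf_eq_bot] at h
    rw [eq_bot_iff]
    intro g hg
    rw [Subgroup.mem_bot]
    apply center5
    intro x y
    have hc : g * swap x y * g⁻¹ * (swap x y)⁻¹ ∈ φ.ker ⊓ alternatingGroup (Fin 5) := by
      constructor
      · have h1 : swap x y * g⁻¹ * (swap x y)⁻¹ ∈ φ.ker :=
          (inferInstance : φ.ker.Normal).conj_mem _ (inv_mem hg) _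
        have h2 := mul_mem hg h1
        have e : g * (swap x y * g⁻¹ * (swap x y)⁻¹) = g * swap x y * g⁻¹ * (swap x y)⁻¹ := by
          group
        rwa [e] at h2
      · show _ ∈ alternatingGroup (Fin 5)
        have hZ : ∀ a b : ℤˣ, a * b * a⁻¹ * b⁻¹ = 1 := by
          intro a b
          rw [mul_comm a b, mul_assoc b, mul_inv_cancel, mul_one, mul_inv_cancel]
        rw [Equiv.Perm.mem_alternatingGroup, map_mul, map_mul, map_mul, map_inv, map_inv]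
        exact hZ _ _
    have h1 := h.le_bot hc
    rw [Subgroup.mem_bot] at h1
    calc g * swap x y = (g * swap x y * g⁻¹ * (swap x y)⁻¹) * swap x y * g := by group
      _ = swap x y * g := by rw [h1, one_mul]
  · rw [Subgroup.subgroupOf_eq_top] at h
    exfalso
    apply hne
    have hmem : swap (0 : Fin 5) 1 * swap 1 2 ∈ alternatingGroup (Fin 5) := by
      rw [Equiv.Perm.mem_alternatingGroup]; decide
    have h1 := h hmem
    rw [MonoidHom.mem_ker, map_mul] at h1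
    have hb : φ (swap 1 2) * φ (swap 1 2) = 1 := by
      rw [← map_mul, Equiv.swap_mul_self, map_one]
    calc φ (swap 0 1) = φ (swap 0 1) * (φ (swap 1 2) * φ (swap 1 2)) := by rw [hb, mul_one]
      _ = (φ (swap 0 1) * φ (swap 1 2)) * φ (swap 1 2) := by group
      _ = φ (swap 1 2) := by rw [h1, one_mul]

theorem swap_exists_conj {τ : Perm (Fin 5)} (h : τ.IsSwap) :
    ∃ π : Perm (Fin 5), τ = π * swap 0 1 * π⁻¹ := by
  obtain ⟨x, y, hxy, rfl⟩ := h
  obtain ⟨c, hc⟩ := isConj_iff.mp (Equiv.Perm.isConj_swap (show (0 : Fin 5) ≠ 1 by decide) hxy)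
  exact ⟨c, hc.symm⟩

theorem isSwap_conj (π : Perm (Fin 5)) {σ : Perm (Fin 5)} (h : σ.IsSwap) :
    (π * σ * π⁻¹).IsSwap := by
  obtain ⟨x, y, hxy, rfl⟩ := h
  exact ⟨π x, π y, fun h => hxy (π.injective h), (Equiv.swap_apply_apply π x y).symm⟩

theorem conj_inj5 (π : Perm (Fin 5)) {σ σ' : Perm (Fin 5)}
    (h : π * σ * π⁻¹ = π * σ' * π⁻¹) : σ = σ' := by
  have h1 := mul_right_cancel h
  exact mul_left_cancel h1

theorem conj_comm5 (π : Perm (Fin 5)) {σ σ' : Perm (Fin 5)} (h : σ * σ' = σ' * σ) :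
    (π * σ * π⁻¹) * (π * σ' * π⁻¹) = (π * σ' * π⁻¹) * (π * σ * π⁻¹) := by
  calc (π * σ * π⁻¹) * (π * σ' * π⁻¹) = π * (σ * σ') * π⁻¹ := by group
    _ = π * (σ' * σ) * π⁻¹ := by rw [h]
    _ = _ := by group

theorem swap_mem (hconj : ∀ g : G, ∀ d ∈ D, g * d * g⁻¹ ∈ D) (φ : Perm (Fin 5) →* G)
    (h01 : φ (swap 0 1) ∈ D) {τ : Perm (Fin 5)} (h : τ.IsSwap) : φ τ ∈ D := by
  obtain ⟨π, rfl⟩ := swap_exists_conj h
  rw [map_mul, map_mul, map_inv]
  exact hconj _ _ h01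

/-- the images of the transpositions are closed under taking commuting partners -/
theorem closed (hD : IsThreeTranspositionSet D) (hL : Loc D)
    (hconj : ∀ g : G, ∀ d ∈ D, g * d * g⁻¹ ∈ D) (φ : Perm (Fin 5) →* G)
    (hinj : Function.Injective φ) (h01 : φ (swap 0 1) ∈ D) {τ : Perm (Fin 5)} (hτ : τ.IsSwap)
    {y : G} (hy : y ∈ Pt D (φ τ)) :
    ∃ τ' : Perm (Fin 5), τ'.IsSwap ∧ y = φ τ' ∧ τ' ≠ τ ∧ τ' * τ = τ * τ' := by
  obtain ⟨π, rfl⟩ := swap_exists_conj hτ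
  have hmem : ∀ σ : Perm (Fin 5), σ.IsSwap → σ ≠ swap 0 1 → σ * swap 0 1 = swap 0 1 * σ →
      φ (π * σ * π⁻¹) ∈ Pt D (φ (π * swap 0 1 * π⁻¹)) := by
    intro σ hσ hne hc
    refine ⟨swap_mem hconj φ h01 (isSwap_conj π hσ), ?_, ?_⟩
    · intro h
      exact hne (conj_inj5 π (hinj h))
    · show φ _ * φ _ = φ _ * φ _
      rw [← map_mul, ← map_mul]
      congr 1
      exact (conj_comm5 π hc).symm
  have h1 := hmem (swap 2 3) ⟨2, 3, by decide, rfl⟩ (by decide) (by decide)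
  have h2 := hmem (swap 2 4) ⟨2, 4, by decide, rfl⟩ (by decide) (by decide)
  have h3 := hmem (swap 3 4) ⟨3, 4, by decide, rfl⟩ (by decide) (by decide)
  have hd : φ (π * swap 0 1 * π⁻¹) ∈ D := swap_mem hconj φ h01 hτ
  have ne12 : φ (π * swap 2 3 * π⁻¹) ≠ φ (π * swap 2 4 * π⁻¹) := by
    intro h
    have := conj_inj5 π (hinj h)
    revert this; decide
  have ne13 : φ (π * swap 2 3 * π⁻¹) ≠ φ (π * swap 3 4 * π⁻¹) := by
    intro h
    have := conj_inj5 π (hinj h)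
    revert this; decide
  have ne23 : φ (π * swap 2 4 * π⁻¹) ≠ φ (π * swap 3 4 * π⁻¹) := by
    intro h
    have := conj_inj5 π (hinj h)
    revert this; decide
  rcases Pt_cases hD hL hd h1 h2 h3 hy ne12 ne13 ne23 with h | h | h
  · refine ⟨π * swap 2 3 * π⁻¹, isSwap_conj π ⟨2, 3, by decide, rfl⟩, h, ?_, ?_⟩
    · intro h'
      have := conj_inj5 π h'
      revert this; decide
    · exact conj_comm5 π (by decide)
  · refine ⟨π * swap 2 4 * π⁻¹, isSwap_conj π ⟨2, 4, by decide, rfl⟩, h, ?_, ?_⟩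
    · intro h'
      have := conj_inj5 π h'
      revert this; decide
    · exact conj_comm5 π (by decide)
  · refine ⟨π * swap 3 4 * π⁻¹, isSwap_conj π ⟨3, 4, by decide, rfl⟩, h, ?_, ?_⟩
    · intro h'
      have := conj_inj5 π h'
      revert this; decide
    · exact conj_comm5 π (by decide)

/-- in a 3-string `e, t, g` the conjugate of `t` by `e g` is a commuting partner of `t` -/
theorem conj_partner (hD : IsThreeTranspositionSet D)
    (hconj : ∀ g : G, ∀ d ∈ D, g * d * g⁻¹ ∈ D) {e g t : G} (he : e ∈ D) (hg : g ∈ D)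
    (ht : t ∈ D) (heg : e ≠ g) (hc : Commute e g) (het : ¬ Commute e t) (htg : ¬ Commute t g) :
    (e * g) * t * (e * g)⁻¹ ∈ Pt D t := by
  obtain ⟨φ₄, hinj, h1, h2, h3⟩ := Cfsg.Agent.S5344.result hD he ht hg heg hc het htg
  have e1 : (e * g) * t * (e * g)⁻¹ = φ₄ (swap 0 3) := by
    rw [← h1, ← h2, ← h3, ← map_mul, ← map_mul, ← map_inv, ← map_mul]
    congr 1
    decide
  refine ⟨hconj _ _ ht, ?_, ?_⟩
  · rw [e1, ← h2]
    intro h
    have := hinj h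
    revert this; decide
  · show t * _ = _ * t
    rw [e1, ← h2, ← map_mul, ← map_mul]
    congr 1
    decide

theorem L1 : ∀ x y : Fin 5, x ≠ y → swap x y ≠ swap 0 1 →
    swap x y * swap 0 1 = swap 0 1 * swap x y →
    swap x y = swap 2 3 ∨ swap x y = swap 2 4 ∨ swap x y = swap 3 4 := by
  decide

set_option maxRecDepth 100000 in
theorem L2 : ∀ a b x y : Fin 5, ((a = 2 ∧ b = 3) ∨ (a = 2 ∧ b = 4) ∨ (a = 3 ∧ b = 4)) → x ≠ y →
    swap x y ≠ swap 0 a → swap x y * swap 0 a = swap 0 a * swap x y →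
    swap x y * swap a b ≠ swap a b * swap x y → swap x y * swap 0 1 ≠ swap 0 1 * swap x y →
    swap x y = swap 1 b := by
  decide

theorem L3 : ∀ a b : Fin 5, ((a = 2 ∧ b = 3) ∨ (a = 2 ∧ b = 4) ∨ (a = 3 ∧ b = 4)) →
    swap 0 a * swap 0 1 ≠ swap 0 1 * swap 0 a ∧ swap 0 a * swap a b ≠ swap a b * swap 0 a ∧
    swap 1 a = swap 0 1 * swap 0 a * swap 0 1 ∧ swap a b * swap 1 b * swap a b = swap 1 a ∧
    (0 : Fin 5) ≠ a ∧ (1 : Fin 5) ≠ a := by
  decide

/-- no involution of the ambient group can move every transposition of a copy of `S₅` to a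
commuting transposition -/
theorem core (φ : Perm (Fin 5) →* G) (hinj : Function.Injective φ) (j : G) (hj2 : j * j = 1)
    (hj : ∀ τ : Perm (Fin 5), τ.IsSwap → ∃ τ' : Perm (Fin 5), τ'.IsSwap ∧
      j * φ τ * j⁻¹ = φ τ' ∧ τ' ≠ τ ∧ τ' * τ = τ * τ') : False := by
  have hjinv : j⁻¹ = j := Cfsg.Agent.Lib.Helper21.W3Basic.inv_of_sq hj2
  obtain ⟨τ₂, hs₂, h2, hne2, hc2⟩ := hj (swap 0 1) ⟨0, 1, by decide, rfl⟩
  obtain ⟨x, y, hxy, rfl⟩ := hs₂
  have hab : ∃ a b : Fin 5, ((a = 2 ∧ b = 3) ∨ (a = 2 ∧ b = 4) ∨ (a = 3 ∧ b = 4)) ∧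
      swap x y = swap a b := by
    rcases L1 x y hxy hne2 hc2 with h | h | h
    · exact ⟨2, 3, Or.inl ⟨rfl, rfl⟩, h⟩
    · exact ⟨2, 4, Or.inr (Or.inl ⟨rfl, rfl⟩), h⟩
    · exact ⟨3, 4, Or.inr (Or.inr ⟨rfl, rfl⟩), h⟩
  obtain ⟨a, b, hcase, hτ⟩ := hab
  rw [hτ] at h2
  obtain ⟨n1, n2, e1, e2, ha0, ha1⟩ := L3 a b hcase
  have h2' : j * φ (swap a b) * j⁻¹ = φ (swap 0 1) := by
    rw [← h2, hjinv]
    calc j * (j * φ (swap 0 1) * j) * j = (j * j) * φ (swap 0 1) * (j * j) := by group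
      _ = φ (swap 0 1) := by rw [hj2, one_mul, mul_one]
  obtain ⟨σ', hs', h3, hne3, hc3⟩ := hj (swap 0 a) ⟨0, a, ha0, rfl⟩
  obtain ⟨x', y', hxy', rfl⟩ := hs'
  have tr : ∀ (p q p' q' : Perm (Fin 5)), j * φ p * j⁻¹ = φ p' → j * φ q * j⁻¹ = φ q' →
      p' * q' = q' * p' → p * q = q * p := by
    intro p q p' q' hp hq hc
    apply hinj
    rw [map_mul, map_mul]
    have hc' : φ p' * φ q' = φ q' * φ p' := by rw [← map_mul, hc, map_mul]
    rw [← hp, ← hq] at hc'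
    calc φ p * φ q = j⁻¹ * ((j * φ p * j⁻¹) * (j * φ q * j⁻¹)) * j := by group
      _ = j⁻¹ * ((j * φ q * j⁻¹) * (j * φ p * j⁻¹)) * j := by rw [hc']
      _ = φ q * φ p := by group
  have hn1 : swap x' y' * swap a b ≠ swap a b * swap x' y' :=
    fun h => n1 (tr _ _ _ _ h3 h2 h)
  have hn2 : swap x' y' * swap 0 1 ≠ swap 0 1 * swap x' y' :=
    fun h => n2 (tr _ _ _ _ h3 h2' h)
  have hσ := L2 a b x' y' hcase hxy' hne3 hc3 hn1 hn2
  rw [hσ] at h3
  obtain ⟨τ'', hs'', h4, hne4, hc4⟩ := hj (swap 1 a) ⟨1, a, ha1, rfl⟩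
  apply hne4
  apply hinj
  calc φ τ'' = j * φ (swap 1 a) * j⁻¹ := h4.symm
    _ = j * (φ (swap 0 1) * φ (swap 0 a) * φ (swap 0 1)) * j⁻¹ := by
        rw [e1, map_mul, map_mul]
    _ = (j * φ (swap 0 1) * j⁻¹) * (j * φ (swap 0 a) * j⁻¹) * (j * φ (swap 0 1) * j⁻¹) := by
        group
    _ = φ (swap a b) * φ (swap 1 b) * φ (swap a b) := by rw [h2, h3]
    _ = φ (swap 1 a) := by rw [← map_mul, ← map_mul, e2]

/-- in the `S₅` case every member of `D` is the image of a transposition -/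
theorem caseB (hD : IsThreeTranspositionSet D) (hL : Loc D)
    (hconj : ∀ g : G, ∀ d ∈ D, g * d * g⁻¹ ∈ D) (φ : Perm (Fin 5) →* G)
    (hinj : Function.Injective φ) (h01 : φ (swap 0 1) ∈ D) :
    ∀ e ∈ D, ∃ τ : Perm (Fin 5), τ.IsSwap ∧ e = φ τ := by
  intro e he
  by_contra hcon
  push Not at hcon
  have hnc : ∀ {z : G}, z ∈ D → (∀ τ : Perm (Fin 5), τ.IsSwap → z ≠ φ τ) →
      ∀ τ : Perm (Fin 5), τ.IsSwap → ¬ Commute (φ τ) z := by
    intro z hz hzT τ hτ hc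
    have h1 : z ∈ Pt D (φ τ) := ⟨hz, hzT τ hτ, hc⟩
    obtain ⟨τ', hτ', h, _, _⟩ := closed hD hL hconj φ hinj h01 hτ h1
    exact hzT τ' hτ' h
  obtain ⟨g, g', hg, hg', _⟩ := Pt_exists_pair hL he
  have hgT : ∀ τ : Perm (Fin 5), τ.IsSwap → g ≠ φ τ := by
    intro τ hτ h
    have h1 : e ∈ Pt D g := Pt_symm he hg
    rw [h] at h1
    obtain ⟨τ', hτ', h2, _, _⟩ := closed hD hL hconj φ hinj h01 hτ h1
    exact hcon τ' hτ' h2
  have hj2 : (e * g) * (e * g) = 1 := by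
    have hc : e * g = g * e := hg.2.2
    calc e * g * (e * g) = e * (g * e) * g := by group
      _ = e * (e * g) * g := by rw [hc]
      _ = (e * e) * (g * g) := by group
      _ = 1 := by rw [tt_sq hD he, tt_sq hD hg.1, one_mul]
  apply core φ hinj (e * g) hj2
  intro τ hτ
  have ht : φ τ ∈ D := swap_mem hconj φ h01 hτ
  have h1 := conj_partner hD hconj he hg.1 ht (fun h => hg.2.1 h.symm) hg.2.2
    (fun h => hnc he hcon τ hτ h.symm) (hnc hg.1 hgT τ hτ)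
  obtain ⟨τ', hτ', h2, h3, h4⟩ := closed hD hL hconj φ hinj h01 hτ h1
  exact ⟨τ', hτ', h2, h3, h4⟩

theorem iso5 (hD : IsThreeTranspositionSet D) (hL : Loc D)
    (hconj : ∀ g : G, ∀ d ∈ D, g * d * g⁻¹ ∈ D) (φ : Perm (Fin 5) →* G)
    (hinj : Function.Injective φ) (h01 : φ (swap 0 1) ∈ D) :
    Nonempty (↥(Subgroup.closure D) ≃* Perm (Fin 5)) := by
  have hD' : D = φ '' {σ : Perm (Fin 5) | σ.IsSwap} := by
    ext e
    constructor
    · intro he
      obtain ⟨τ, hτ, h⟩ := caseB hD hL hconj φ hinj h01 e he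
      exact ⟨τ, hτ, h.symm⟩
    · rintro ⟨τ, hτ, rfl⟩
      exact swap_mem hconj φ h01 hτ
  have hcl : Subgroup.closure D = φ.range := by
    rw [hD', ← MonoidHom.map_closure, Equiv.Perm.closure_isSwap, ← MonoidHom.range_eq_map]
  rw [hcl]
  exact ⟨(MonoidHom.ofInjective hinj).symm⟩

end Cfsg.Agent.Lib.Helper52.TT3S5
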