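import Mathlib
import Cfsg.Agent.Lib.Helper10.C2MStmt
import Cfsg.Agent.Lib.Helper12.C2Blk
import Cfsg.Agent.Lib.Helper44.NegPairs

/-! S5990 / C2FIX sub-call piece BLOCK4M (helper52): via the generic `Helper12.C2Blk.peel_four`
with `Q = Helper44.NegPairs.minusQ`. -/

set_option autoImplicit false

universe u

open scoped Matrix

namespace Cfsg.Agent.Lib.Helper52.C2MBLOCK4M

open Cfsg.Agent.Lib.Helper10.C2MStmt
open Cfsg.Agent.Lib.Helper45.OMiStmt (M Aniso NDegM StabM)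
open Cfsg.Agent.Lib.Helper41.TMTwoStmt (PlusM)
open Cfsg.Agent.Lib.Helper44.NegPairs (minusQ)
open Cfsg.Agent.Lib.Helper12.C2Blk

theorem main : Block4M.{u} := by
  intro F _ _ a₀ b₀ _ _ d x hx hxx A hA hnd hg u hu hne
  obtain ⟨X, hX⟩ : ∃ X : Matrix (M d) (M d) F, X = (x : Matrix (M d) (M d) F) := ⟨_, rfl⟩
  rw [← hX] at hxx hA hg hne ⊢
  have hQ : ∀ v : M d → F, minusQ (d - 1) F a₀ b₀ (X *ᵥ v) = minusQ (d - 1) F a₀ b₀ v := by
    intro v
    rw [hX]
    exact hx v v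
  have h2 : (2 : F) = 0 := CharTwo.two_eq_zero
  have hℓ : ∀ w ∈ A, minusQ (d - 1) F a₀ b₀ (NL X w) = 0 := by
    intro w hw
    rw [Q_NL (minusQ (d - 1) F a₀ b₀) X hQ w, NL_apply, QuadraticMap.polar_sub_right]
    have h1 : QuadraticMap.polar (minusQ (d - 1) F a₀ b₀) w (X *ᵥ w) = 0 := hg w hw
    have h3 : QuadraticMap.polar (minusQ (d - 1) F a₀ b₀) w w = 0 := by
      unfold QuadraticMap.polar
      have h4 : w + w = (2 : F) • w := by rw [two_smul]
      rw [h4, h2, zero_smul, map_zero]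
      linear_combination (-(minusQ (d - 1) F a₀ b₀) w) * h2
    rw [h1, h3, sub_zero]
  have hNu : NL X u ≠ 0 := by
    intro h
    apply hne
    rw [NL_apply, sub_eq_zero] at h
    exact h
  obtain ⟨W, hWA, hfr, hndW, hplus, hstab⟩ :=
    peel_four (minusQ (d - 1) F a₀ b₀) X hQ hxx A hA hnd hℓ u hu hNu
  exact ⟨W, hWA, hstab, hndW, hplus, hfr⟩

end Cfsg.Agent.Lib.Helper52.C2MBLOCK4M
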