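import Mathlib
import Cfsg.Agent.Lib.Helper32.D8Stmt

/-!
# S3716: common part of the pieces CS1, CS2, CS3 (class-pair sums in `G`)

`bb (indFun C φ) u v` for involutions `u, v` is `|G|⁻¹ |C|⁻¹ |C(u)| |C(v)|` times the sum of
`φ` over the pairs of `N`-conjugates of the representatives `a, w, a*b` that are `G`-conjugate
to `u`, resp. `v`.
-/

set_option autoImplicit false

namespace Cfsg.Agent.Lib.Helper52.D8CSCore

open Cfsg Cfsg.Agent.Lib.Helper32.D8Stmt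

universe u

theorem sum_restrict {α : Type u} (s A t B : Finset α) (F : α → α → ℂ) (hA : A ⊆ s) (hB : B ⊆ t)
    (h : ∀ p ∈ s, ∀ q ∈ t, F p q ≠ 0 → p ∈ A ∧ q ∈ B) :
    ∑ p ∈ s, ∑ q ∈ t, F p q = ∑ p ∈ A, ∑ q ∈ B, F p q := by
  rw [← Finset.sum_product' s t F, ← Finset.sum_product' A B F]
  symm
  apply Finset.sum_subset (Finset.product_subset_product hA hB)
  rintro ⟨p, q⟩ hpq hnot
  by_contra hne
  obtain ⟨hp, hq⟩ := Finset.mem_product.mp hpq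
  exact hnot (Finset.mem_product.mpr (h p hp q hq hne))

section

variable {G : Type u} [Group G]

theorem a_ne_one {T N : Subgroup G} {x y a b w : G} (hc : Cfg T N x y a b w) : a ≠ 1 := by
  intro h
  have h1 : a * x * a⁻¹ = x⁻¹ := hc.ax
  rw [h, one_mul, inv_one, mul_one] at h1
  have h2 : x * x = 1 := by
    calc x * x = x * x⁻¹ := by rw [← h1]
      _ = 1 := mul_inv_cancel x
  apply hc.x1
  calc x = x ^ 3 * (x * x)⁻¹ := by group
    _ = 1 := by rw [hc.x3, h2]; simp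

theorem w_ne_one {T N : Subgroup G} {x y a b w : G} (hc : Cfg T N x y a b w) : w ≠ 1 := by
  intro h
  have h1 : w * x * w⁻¹ = y := hc.wx
  rw [h, one_mul, inv_one, mul_one] at h1
  apply hc.yx
  rw [← h1]
  exact Subgroup.mem_zpowers x

theorem sq_conj {u p : G} (h : IsConj u p) (hu : u ^ 2 = 1) : p ^ 2 = 1 := by
  obtain ⟨k, rfl⟩ := isConj_iff.mp h
  calc (k * u * k⁻¹) ^ 2 = k * u ^ 2 * k⁻¹ := by rw [pow_two, pow_two]; group
    _ = 1 := by rw [hu]; group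

theorem ne_one_conj {u p : G} (h : IsConj u p) (hu : u ≠ 1) : p ≠ 1 := by
  intro h1
  rw [h1] at h
  exact hu (isConj_one_left.mp h)

variable [Fintype G]

theorem mem_ncl {N : Subgroup G} {c z : G} : z ∈ ncl N c ↔ ∃ n ∈ N, z = n * c * n⁻¹ := by
  unfold ncl
  simp only [Finset.mem_filter, Finset.mem_univ, true_and]

theorem isConj_of_mem_ncl {N : Subgroup G} {c z : G} (h : z ∈ ncl N c) : IsConj c z := by
  obtain ⟨n, -, rfl⟩ := mem_ncl.mp h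
  exact isConj_iff.mpr ⟨n, rfl⟩

theorem self_mem_ncl (N : Subgroup G) (c : G) : c ∈ ncl N c :=
  mem_ncl.mpr ⟨1, N.one_mem, by simp⟩

theorem ncl_eq_of_conj {N : Subgroup G} {c d n : G} (hn : n ∈ N) (hd : d = n * c * n⁻¹) :
    ncl N d = ncl N c := by
  ext z
  rw [mem_ncl, mem_ncl]
  constructor
  · rintro ⟨k, hk, rfl⟩
    exact ⟨k * n, N.mul_mem hk hn, by rw [hd]; group⟩
  · rintro ⟨k, hk, rfl⟩
    exact ⟨k * n⁻¹, N.mul_mem hk (N.inv_mem hn), by rw [hd]; group⟩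

theorem disj_of_ne {N : Subgroup G} {c d : G} (h : ncl N c ≠ ncl N d) :
    Disjoint (ncl N c) (ncl N d) := by
  rw [Finset.disjoint_left]
  intro z hz1 hz2
  apply h
  obtain ⟨n, hn, rfl⟩ := mem_ncl.mp hz1
  obtain ⟨m, hm, h2⟩ := mem_ncl.mp hz2
  exact ncl_eq_of_conj (n := n⁻¹ * m) (N.mul_mem (N.inv_mem hn) hm) (by
    calc c = n⁻¹ * (n * c * n⁻¹) * n := by group
      _ = n⁻¹ * (m * d * m⁻¹) * n := by rw [h2]
      _ = n⁻¹ * m * d * (n⁻¹ * m)⁻¹ := by group)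

theorem lsum_union2 [DecidableEq G] (N H : Subgroup G) (φ : H → ℂ) (c c' d d' : G)
    (hc : Disjoint (ncl N c) (ncl N c')) (hd : Disjoint (ncl N d) (ncl N d')) :
    ∑ u₁ ∈ ncl N c ∪ ncl N c', ∑ u₂ ∈ ncl N d ∪ ncl N d', extendByZero H φ (u₁ * u₂) =
      (lsum N H φ c d + lsum N H φ c d') + (lsum N H φ c' d + lsum N H φ c' d') := by
  unfold lsum
  rw [Finset.sum_union hc]
  simp only [Finset.sum_union hd, Finset.sum_add_distrib]

theorem lsum_union_l [DecidableEq G] (N H : Subgroup G) (φ : H → ℂ) (c c' d : G)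
    (hc : Disjoint (ncl N c) (ncl N c')) :
    ∑ u₁ ∈ ncl N c ∪ ncl N c', ∑ u₂ ∈ ncl N d, extendByZero H φ (u₁ * u₂) =
      lsum N H φ c d + lsum N H φ c' d := by
  unfold lsum
  exact Finset.sum_union hc

theorem lsum_union_r [DecidableEq G] (N H : Subgroup G) (φ : H → ℂ) (c d d' : G)
    (hd : Disjoint (ncl N d) (ncl N d')) :
    ∑ u₁ ∈ ncl N c, ∑ u₂ ∈ ncl N d ∪ ncl N d', extendByZero H φ (u₁ * u₂) =
      lsum N H φ c d + lsum N H φ c d' := by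
  unfold lsum
  simp only [Finset.sum_union hd, Finset.sum_add_distrib]

theorem lsum_plain (N H : Subgroup G) (φ : H → ℂ) (c d : G) :
    ∑ u₁ ∈ ncl N c, ∑ u₂ ∈ ncl N d, extendByZero H φ (u₁ * u₂) = lsum N H φ c d := rfl

open Classical in
/-- The `G`-class as a finset (the expression of `FIB2b`). -/
noncomputable def clG (u : G) : Finset G := Finset.univ.filter (fun z : G => IsConj u z)

theorem mem_clG {u z : G} : z ∈ clG u ↔ IsConj u z := by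
  unfold clG
  simp only [Finset.mem_filter, Finset.mem_univ, true_and]

theorem bb_eq (hP : PAIRSUM2.{u}) (hF : FIB2b.{u}) (H : Subgroup G) (θ : H → ℂ) (u v : G) :
    bb (indFun H θ) u v = (Nat.card G : ℂ)⁻¹ * ((Nat.card H : ℂ)⁻¹ * (cz u * cz v *
      ∑ u₁ ∈ clG u, ∑ u₂ ∈ clG v, extendByZero H θ (u₁ * u₂))) := by
  unfold bb clG
  rw [hP H θ u v, hF (fun p q => extendByZero H θ (p * q)) u v]

theorem core (hR : RED2.{u}) (hI : INVCL.{u}) {T N : Subgroup G} {x y a b w : G}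
    (hc : Cfg T N x y a b w) (f g : Subgroup.centralizer ({x} : Set G) →* ℂˣ)
    (hom : Om2 x y b f g) (φ : Subgroup.centralizer ({x} : Set G) → ℂ)
    (hφ : φ = ph1 x f ∨ φ = ph2 x f g)
    (u v : G) (hu2 : u ^ 2 = 1) (hv2 : v ^ 2 = 1) (hu1 : u ≠ 1) (hv1 : v ≠ 1) (A B : Finset G)
    (hA : ∀ z, z ∈ A ↔ (z ∈ ncl N a ∧ IsConj u a) ∨ (z ∈ ncl N w ∧ IsConj u w) ∨
      (z ∈ ncl N (a * b) ∧ IsConj u (a * b)))
    (hB : ∀ z, z ∈ B ↔ (z ∈ ncl N a ∧ IsConj v a) ∨ (z ∈ ncl N w ∧ IsConj v w) ∨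
      (z ∈ ncl N (a * b) ∧ IsConj v (a * b))) :
    ∑ u₁ ∈ clG u, ∑ u₂ ∈ clG v, extendByZero (Subgroup.centralizer ({x} : Set G)) φ (u₁ * u₂) =
      ∑ u₁ ∈ A, ∑ u₂ ∈ B, extendByZero (Subgroup.centralizer ({x} : Set G)) φ (u₁ * u₂) := by
  have key : ∀ (t : G), t ^ 2 = 1 → t ≠ 1 → ∀ p, IsConj t p → p ∈ N →
      (p ∈ ncl N a ∧ IsConj t a) ∨ (p ∈ ncl N w ∧ IsConj t w) ∨
        (p ∈ ncl N (a * b) ∧ IsConj t (a * b)) := by
    intro t ht2 ht1 p htp hpN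
    have hp2 : p ^ 2 = 1 := sq_conj htp ht2
    have hp1 : p ≠ 1 := ne_one_conj htp ht1
    rcases hI hc p hpN hp2 with h | h | h | h
    · exact absurd h hp1
    · exact Or.inl ⟨mem_ncl.mpr h, htp.trans (isConj_of_mem_ncl (mem_ncl.mpr h)).symm⟩
    · exact Or.inr (Or.inl ⟨mem_ncl.mpr h, htp.trans (isConj_of_mem_ncl (mem_ncl.mpr h)).symm⟩)
    · exact Or.inr (Or.inr ⟨mem_ncl.mpr h, htp.trans (isConj_of_mem_ncl (mem_ncl.mpr h)).symm⟩)
  have sub : ∀ (t : G) (S : Finset G),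
      (∀ z, z ∈ S ↔ (z ∈ ncl N a ∧ IsConj t a) ∨ (z ∈ ncl N w ∧ IsConj t w) ∨
        (z ∈ ncl N (a * b) ∧ IsConj t (a * b))) → S ⊆ clG t := by
    intro t S hS z hz
    rw [mem_clG]
    rcases (hS z).mp hz with ⟨h1, h2⟩ | ⟨h1, h2⟩ | ⟨h1, h2⟩
    · exact h2.trans (isConj_of_mem_ncl h1)
    · exact h2.trans (isConj_of_mem_ncl h1)
    · exact h2.trans (isConj_of_mem_ncl h1)
  apply sum_restrict _ _ _ _ _ (sub u A hA) (sub v B hB)
  intro p hp q hq hne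
  rw [mem_clG] at hp hq
  have hp2 : p ^ 2 = 1 := sq_conj hp hu2
  have hq2 : q ^ 2 = 1 := sq_conj hq hv2
  have hN : p ∈ N ∧ q ∈ N := by
    apply hR hc f g hom p q hp2 hq2
    rcases hφ with rfl | rfl
    · exact Or.inl hne
    · exact Or.inr hne
  exact ⟨(hA p).mpr (key u hu2 hu1 p hp hN.1), (hB q).mpr (key v hv2 hv1 q hq hN.2)⟩

theorem val (hP : PAIRSUM2.{u}) (hF : FIB2b.{u}) (hR : RED2.{u}) (hI : INVCL.{u}) (hNF : NF.{u})
    {T N : Subgroup G} {x y a b w : G}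
    (hc : Cfg T N x y a b w) (f g : Subgroup.centralizer ({x} : Set G) →* ℂˣ)
    (hom : Om2 x y b f g) (φ : Subgroup.centralizer ({x} : Set G) → ℂ)
    (hφ : φ = ph1 x f ∨ φ = ph2 x f g)
    (u v : G) (hu2 : u ^ 2 = 1) (hv2 : v ^ 2 = 1) (hu1 : u ≠ 1) (hv1 : v ≠ 1) (A B : Finset G)
    (hA : ∀ z, z ∈ A ↔ (z ∈ ncl N a ∧ IsConj u a) ∨ (z ∈ ncl N w ∧ IsConj u w) ∨
      (z ∈ ncl N (a * b) ∧ IsConj u (a * b)))
    (hB : ∀ z, z ∈ B ↔ (z ∈ ncl N a ∧ IsConj v a) ∨ (z ∈ ncl N w ∧ IsConj v w) ∨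
      (z ∈ ncl N (a * b) ∧ IsConj v (a * b))) :
    bb (indFun (Subgroup.centralizer ({x} : Set G)) φ) u v =
      (Nat.card G : ℂ)⁻¹ * ((18 : ℂ)⁻¹ * (cz u * cz v *
        ∑ u₁ ∈ A, ∑ u₂ ∈ B,
          extendByZero (Subgroup.centralizer ({x} : Set G)) φ (u₁ * u₂))) := by
  rw [bb_eq hP hF, core hR hI hc f g hom φ hφ u v hu2 hv2 hu1 hv1 A B hA hB,
    (hNF hc).2.2.2.2.2.2, Nat.cast_ofNat]

/-- `a` and `a * b` are not `N`-conjugate (their local sums differ). -/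
theorem disj_a_z (hAA : LOCaa.{u}) (hAZ : LOCaz.{u}) {T N : Subgroup G} {x y a b w : G}
    (hc : Cfg T N x y a b w) (f g : Subgroup.centralizer ({x} : Set G) →* ℂˣ)
    (hom : Om2 x y b f g) : Disjoint (ncl N a) (ncl N (a * b)) := by
  apply disj_of_ne
  intro h
  have h1 := (hAA hc f g hom).1
  have h2 := (hAZ hc f g hom).1
  unfold lsum at h1 h2
  rw [← h, h1] at h2
  norm_num at h2

/-- `w` and `a * b` are not `N`-conjugate (their local sums differ). -/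
theorem disj_w_z (hWW : LOCww.{u}) (hWZ : LOCwz.{u}) {T N : Subgroup G} {x y a b w : G}
    (hc : Cfg T N x y a b w) (f g : Subgroup.centralizer ({x} : Set G) →* ℂˣ)
    (hom : Om2 x y b f g) : Disjoint (ncl N w) (ncl N (a * b)) := by
  apply disj_of_ne
  intro h
  have h1 := (hWW hc f g hom).1
  have h2 := (hWZ hc f g hom).1
  unfold lsum at h1 h2
  rw [← h, h1] at h2
  norm_num at h2

end

end Cfsg.Agent.Lib.Helper52.D8CSCore
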