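import Mathlib
import Cfsg.Agent.Lib.Helper32.D8Stmt
import Cfsg.Agent.Lib.Helper52.D8CSCore

/-!
# S3716 piece CS1: the class-pair sums on the `x`-side, no fusion
-/

set_option autoImplicit false

namespace Cfsg.Agent.Lib.Helper52.D8CS1

open Cfsg Cfsg.Agent.Lib.Helper32.D8Stmt Cfsg.Agent.Lib.Helper52.D8CSCore

universe u

theorem main (hP : PAIRSUM2.{u}) (hF : FIB2b.{u}) (hR : RED2.{u}) (hI : INVCL.{u}) (hNF : NF.{u})
    (hAA : LOCaa.{u}) (hAW : LOCaw.{u}) (hWW : LOCww.{u}) : CS1.{u} := by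
  intro G _ _ T N x y a b w hc f g hom hnaw hnaz hnwz
  classical
  have ha1 : a ≠ 1 := a_ne_one hc
  have hw1 : w ≠ 1 := w_ne_one hc
  have hG0 : (Nat.card G : ℂ) ≠ 0 := Nat.cast_ne_zero.mpr Nat.card_pos.ne'
  have hnwa : ¬ IsConj w a := fun h => hnaw h.symm
  have hAa : ∀ z, z ∈ ncl N a ↔ (z ∈ ncl N a ∧ IsConj a a) ∨ (z ∈ ncl N w ∧ IsConj a w) ∨
      (z ∈ ncl N (a * b) ∧ IsConj a (a * b)) := by
    intro z
    constructor
    · intro h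
      exact Or.inl ⟨h, IsConj.refl a⟩
    · rintro (⟨h, -⟩ | ⟨-, h⟩ | ⟨-, h⟩)
      · exact h
      · exact absurd h hnaw
      · exact absurd h hnaz
  have hAw : ∀ z, z ∈ ncl N w ↔ (z ∈ ncl N a ∧ IsConj w a) ∨ (z ∈ ncl N w ∧ IsConj w w) ∨
      (z ∈ ncl N (a * b) ∧ IsConj w (a * b)) := by
    intro z
    constructor
    · intro h
      exact Or.inr (Or.inl ⟨h, IsConj.refl w⟩)
    · rintro (⟨-, h⟩ | ⟨h, -⟩ | ⟨-, h⟩)
      · exact absurd h hnwa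
      · exact h
      · exact absurd h hnwz
  obtain ⟨haa1, haa2⟩ := hAA hc f g hom
  obtain ⟨haw1, haw2⟩ := hAW hc f g hom
  obtain ⟨hww1, hww2⟩ := hWW hc f g hom
  unfold Tab th1 th2
  refine ⟨⟨?_, ?_, ?_⟩, ⟨?_, ?_, ?_⟩⟩
  · rw [val hP hF hR hI hNF hc f g hom (ph1 x f) (Or.inl rfl) a a hc.a2 hc.a2 ha1 ha1 _ _ hAa hAa,
      lsum_plain, haa1]
    field_simp
    ring
  · rw [val hP hF hR hI hNF hc f g hom (ph1 x f) (Or.inl rfl) a w hc.a2 hc.w2 ha1 hw1 _ _ hAa hAw,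
      lsum_plain, haw1]
    ring
  · rw [val hP hF hR hI hNF hc f g hom (ph1 x f) (Or.inl rfl) w w hc.w2 hc.w2 hw1 hw1 _ _ hAw hAw,
      lsum_plain, hww1]
    field_simp
  · rw [val hP hF hR hI hNF hc f g hom (ph2 x f g) (Or.inr rfl) a a hc.a2 hc.a2 ha1 ha1 _ _ hAa
      hAa, lsum_plain, haa2]
    field_simp
    ring
  · rw [val hP hF hR hI hNF hc f g hom (ph2 x f g) (Or.inr rfl) a w hc.a2 hc.w2 ha1 hw1 _ _ hAa
      hAw, lsum_plain, haw2]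
    ring
  · rw [val hP hF hR hI hNF hc f g hom (ph2 x f g) (Or.inr rfl) w w hc.w2 hc.w2 hw1 hw1 _ _ hAw
      hAw, lsum_plain, hww2]
    field_simp

end Cfsg.Agent.Lib.Helper52.D8CS1
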