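import Mathlib
import Cfsg.Agent.Lib.Helper41.EMStmt
import Cfsg.Agent.Lib.Helper41.TMStmt

/-! S5990 piece INVOLE (helper52): an isometry of the minus form with `x * x = 1` (`q` odd) fixes
an elliptic `m`-space for every even `m`, `2 ≤ m ≤ 2 d - 2`.  Hypotheses: SubTypeE, CancelM (EMStmt),
InvDec (TMTwoStmt, landed `Helper89.TM2INVDEC`), OrthSum (TMStmt, landed). -/

set_option autoImplicit false

universe u

open scoped Matrix

namespace Cfsg.Agent.Lib.Helper52.EMINVOLE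

open Cfsg.Agent.Lib.Helper41.EMStmt
open Cfsg.Agent.Lib.Helper37.HypStmt (cc)
open Cfsg.Agent.Lib.Helper45.OMiStmt (M Aniso FxM NDegM StabM)
open Cfsg.Agent.Lib.Helper41.TMTwoStmt (PlusM FmM)

theorem plus_iff {F : Type u} [Field F] (d : ℕ) (a₀ b₀ : F) (W : Submodule F (M d → F)) :
    Cfsg.Geo.IsPlusTypeOn (Cfsg.quadFormMinus (d - 1) F a₀ b₀) W ↔ PlusM d F a₀ b₀ W := Iff.rfl

/-- gluing two orthogonal nondegenerate pieces of opposite types -/
theorem glue (hCan : CancelM.{u}) (hOrth : Cfsg.Agent.Lib.Helper41.TMStmt.OrthSum.{u})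
    {F : Type u} [Field F] [Fintype F] (a₀ b₀ : F) (hab : Aniso a₀ b₀) (d m : ℕ)
    (WA WB : Submodule F (M d → F)) (hA : NDegM d F a₀ b₀ WA) (hB : NDegM d F a₀ b₀ WB)
    (horth : ∀ u ∈ WA, ∀ v ∈ WB,
      QuadraticMap.polar (Cfsg.quadFormMinus (d - 1) F a₀ b₀) u v = 0)
    (hdim : Module.finrank F ↥WA + Module.finrank F ↥WB = m)
    (htype : (PlusM d F a₀ b₀ WB ∧ ¬ PlusM d F a₀ b₀ WA) ∨
      (PlusM d F a₀ b₀ WA ∧ ¬ PlusM d F a₀ b₀ WB)) :
    MemEM d F a₀ b₀ m (WA ⊔ WB) := by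
  obtain ⟨hnd, -, hfr⟩ := hOrth F a₀ b₀ hab d WA WB hA hB horth
  refine ⟨by rw [hfr, hdim], hnd, ?_⟩
  intro hplus
  have hplus' : PlusM d F a₀ b₀ (WA ⊔ WB) := hplus
  rcases htype with ⟨hpB, hnA⟩ | ⟨hpA, hnB⟩
  · apply hnA
    have horth' : ∀ u ∈ WB, ∀ v ∈ WA,
        QuadraticMap.polar (Cfsg.quadFormMinus (d - 1) F a₀ b₀) u v = 0 := by
      intro u hu v hv
      rw [QuadraticMap.polar_comm]
      exact horth v hv u hu
    refine hCan F a₀ b₀ hab d WB WA hB hA horth' ?_ hpB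
    rw [sup_comm]
    exact hplus'
  · exact hnB (hCan F a₀ b₀ hab d WA WB hA hB horth hplus' hpA)

theorem core (hSub : SubTypeE.{u}) (hCan : CancelM.{u})
    (hOrth : Cfsg.Agent.Lib.Helper41.TMStmt.OrthSum.{u})
    {F : Type u} [Field F] [Fintype F] (a₀ b₀ : F) (hab : Aniso a₀ b₀) (d m : ℕ)
    (hd : 4 ≤ d) (hm2 : 2 ≤ m) (hmev : Even m) (hmd : m + 2 ≤ 2 * d)
    (A B : Submodule F (M d → F)) (hA : NDegM d F a₀ b₀ A) (hB : NDegM d F a₀ b₀ B)
    (horth : ∀ u ∈ A, ∀ v ∈ B,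
      QuadraticMap.polar (Cfsg.quadFormMinus (d - 1) F a₀ b₀) u v = 0)
    (hdim : Module.finrank F ↥A + Module.finrank F ↥B = 2 * d)
    (hle : Module.finrank F ↥B ≤ Module.finrank F ↥A) :
    ∃ WA WB : Submodule F (M d → F), WA ≤ A ∧ WB ≤ B ∧ MemEM d F a₀ b₀ m (WA ⊔ WB) := by
  have hm0 : m % 2 = 0 := Nat.even_iff.mp hmev
  have horthAB : ∀ (WA WB : Submodule F (M d → F)), WA ≤ A → WB ≤ B → ∀ u ∈ WA, ∀ v ∈ WB,
      QuadraticMap.polar (Cfsg.quadFormMinus (d - 1) F a₀ b₀) u v = 0 :=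
    fun WA WB hWA hWB u hu v hv => horth u (hWA hu) v (hWB hv)
  by_cases hma : m < Module.finrank F ↥A
  · obtain ⟨W, hWA, hMem⟩ := (hSub F a₀ b₀ hab d m A hA hmev hma).2 hm2
    refine ⟨W, ⊥, hWA, bot_le, ?_⟩
    rw [sup_bot_eq]
    exact hMem
  · rcases Nat.mod_two_eq_zero_or_one (Module.finrank F ↥A) with ha0 | ha1
    · -- `a` even
      by_cases hlt : m - Module.finrank F ↥A + 2 < Module.finrank F ↥B
      · obtain ⟨WA, hWA, hfA, hndA, hnpA⟩ :=
          (hSub F a₀ b₀ hab d (Module.finrank F ↥A - 2) A hA (Nat.even_iff.mpr (by omega))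
            (by omega)).2 (by omega)
        obtain ⟨WB, hWB, hfB, hndB, hpB⟩ :=
          (hSub F a₀ b₀ hab d (m - Module.finrank F ↥A + 2) B hB (Nat.even_iff.mpr (by omega))
            hlt).1
        refine ⟨WA, WB, hWA, hWB, glue hCan hOrth a₀ b₀ hab d m WA WB hndA hndB
          (horthAB WA WB hWA hWB) (by omega) (Or.inl ⟨hpB, hnpA⟩)⟩
      · by_cases hpB : PlusM d F a₀ b₀ B
        · obtain ⟨WA, hWA, hfA, hndA, hnpA⟩ :=
            (hSub F a₀ b₀ hab d (Module.finrank F ↥A - 2) A hA (Nat.even_iff.mpr (by omega))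
              (by omega)).2 (by omega)
          refine ⟨WA, B, hWA, le_refl _, glue hCan hOrth a₀ b₀ hab d m WA B hndA hB
            (horthAB WA B hWA (le_refl _)) (by omega) (Or.inl ⟨hpB, hnpA⟩)⟩
        · obtain ⟨WA, hWA, hfA, hndA, hpA⟩ :=
            (hSub F a₀ b₀ hab d (Module.finrank F ↥A - 2) A hA (Nat.even_iff.mpr (by omega))
              (by omega)).1
          refine ⟨WA, B, hWA, le_refl _, glue hCan hOrth a₀ b₀ hab d m WA B hndA hB
            (horthAB WA B hWA (le_refl _)) (by omega) (Or.inr ⟨hpA, hpB⟩)⟩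
    · -- `a` odd
      obtain ⟨WA, hWA, hfA, hndA, hnpA⟩ :=
        (hSub F a₀ b₀ hab d (Module.finrank F ↥A - 1) A hA (Nat.even_iff.mpr (by omega))
          (by omega)).2 (by omega)
      obtain ⟨WB, hWB, hfB, hndB, hpB⟩ :=
        (hSub F a₀ b₀ hab d (m - Module.finrank F ↥A + 1) B hB (Nat.even_iff.mpr (by omega))
          (by omega)).1
      refine ⟨WA, WB, hWA, hWB, glue hCan hOrth a₀ b₀ hab d m WA WB hndA hndB
        (horthAB WA WB hWA hWB) (by omega) (Or.inl ⟨hpB, hnpA⟩)⟩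

theorem main (hSub : SubTypeE.{u}) (hCan : CancelM.{u})
    (hDec : Cfsg.Agent.Lib.Helper41.TMTwoStmt.InvDec.{u})
    (hOrth : Cfsg.Agent.Lib.Helper41.TMStmt.OrthSum.{u}) : InvolE.{u} := by
  intro F _ _ a₀ b₀ hab hodd d m hd hm2 hmev hmd x hx hx2M _
  have hx2 : x ^ 2 = 1 := by
    apply Units.ext
    rw [pow_two]
    exact hx2M
  obtain ⟨hnd₁, hnd₂, horth, -, hdim, -⟩ := hDec F hodd d (by omega) a₀ b₀ hab x hx hx2
  have hstab₁ : ∀ W : Submodule F (M d → F), W ≤ FxM (x : Matrix (M d) (M d) F) →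
      W.map (Matrix.toLin' (x : Matrix (M d) (M d) F)) ≤ W := by
    intro W hW
    rintro _ ⟨w, hw, rfl⟩
    have h1 : Matrix.toLin' (x : Matrix (M d) (M d) F) w - w = 0 := by
      have := hW hw
      unfold FxM at this
      simpa [LinearMap.mem_ker] using this
    rw [sub_eq_zero.mp h1]
    exact hw
  have hstab₂ : ∀ W : Submodule F (M d → F), W ≤ FmM (x : Matrix (M d) (M d) F) →
      W.map (Matrix.toLin' (x : Matrix (M d) (M d) F)) ≤ W := by
    intro W hW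
    rintro _ ⟨w, hw, rfl⟩
    have h1 : Matrix.toLin' (x : Matrix (M d) (M d) F) w + w = 0 := by
      have := hW hw
      unfold FmM at this
      simpa [LinearMap.mem_ker] using this
    rw [eq_neg_of_add_eq_zero_left h1]
    exact Submodule.neg_mem _ hw
  rcases le_total (Module.finrank F ↥(FmM (x : Matrix (M d) (M d) F)))
      (Module.finrank F ↥(FxM (x : Matrix (M d) (M d) F))) with hle | hle
  · obtain ⟨WA, WB, hWA, hWB, hMem⟩ := core hSub hCan hOrth a₀ b₀ hab d m hd hm2 hmev hmd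
      _ _ hnd₁ hnd₂ horth hdim hle
    refine ⟨WA ⊔ WB, hMem, ?_⟩
    unfold StabM
    rw [Submodule.map_sup]
    exact sup_le_sup (hstab₁ WA hWA) (hstab₂ WB hWB)
  · have horth' : ∀ u ∈ FmM (x : Matrix (M d) (M d) F), ∀ v ∈ FxM (x : Matrix (M d) (M d) F),
        QuadraticMap.polar (Cfsg.quadFormMinus (d - 1) F a₀ b₀) u v = 0 := by
      intro u hu v hv
      rw [QuadraticMap.polar_comm]
      exact horth v hv u hu
    obtain ⟨WA, WB, hWA, hWB, hMem⟩ := core hSub hCan hOrth a₀ b₀ hab d m hd hm2 hmev hmd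
      _ _ hnd₂ hnd₁ horth' (by omega) hle
    refine ⟨WA ⊔ WB, hMem, ?_⟩
    unfold StabM
    rw [Submodule.map_sup]
    exact sup_le_sup (hstab₂ WA hWA) (hstab₁ WB hWB)

end Cfsg.Agent.Lib.Helper52.EMINVOLE
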