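import Mathlib
import Cfsg.Agent.Lib.Helper10.C2MStmt
import Cfsg.Agent.Lib.Helper41.TMStmt
import Cfsg.Agent.Lib.Helper12.C2Blk
import Cfsg.Agent.Lib.Helper44.NegPairs
import Cfsg.Agent.Lib.Helper52.EMINVOLE

/-! S5990 piece C2FIX, spare assembly (helper52): char 2, every isometry of the minus form with
`x * x = 1` fixes an elliptic `m`-space if `d` is even or `m ≡ 2 (mod 4)`.  Induction on the
dimension of an invariant nondegenerate non-plus `Y`; peeling steps from the generic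
`Helper12.C2Blk.peel_swap` / `peel_four`. -/

set_option autoImplicit false

universe u

open scoped Matrix

namespace Cfsg.Agent.Lib.Helper52.EMC2FIX

open Cfsg.Agent.Lib.Helper41.EMStmt
open Cfsg.Agent.Lib.Helper10.C2MStmt
open Cfsg.Agent.Lib.Helper45.OMiStmt (M Aniso FxM NDegM StabM)
open Cfsg.Agent.Lib.Helper41.TMTwoStmt (PlusM TSubM)
open Cfsg.Agent.Lib.Helper44.NegPairs (minusQ)
open Cfsg.Agent.Lib.Helper12.C2Blk
open Cfsg.Agent.Lib.Helper52.EMINVOLE (glue)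

theorem Q_NL_eq {F : Type u} [Field F] [CharP F 2] {d : ℕ} (a₀ b₀ : F) (X : Matrix (M d) (M d) F)
    (hQ : ∀ v : M d → F, minusQ (d - 1) F a₀ b₀ (X *ᵥ v) = minusQ (d - 1) F a₀ b₀ v)
    (w : M d → F) :
    minusQ (d - 1) F a₀ b₀ (NL X w) =
      QuadraticMap.polar (Cfsg.quadFormMinus (d - 1) F a₀ b₀) w (X *ᵥ w) := by
  have h2 : (2 : F) = 0 := CharTwo.two_eq_zero
  rw [Q_NL (minusQ (d - 1) F a₀ b₀) X hQ w, NL_apply, QuadraticMap.polar_sub_right]
  have h3 : QuadraticMap.polar (minusQ (d - 1) F a₀ b₀) w w = 0 := by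
    unfold QuadraticMap.polar
    have h4 : w + w = (2 : F) • w := by rw [two_smul]
    rw [h4, h2, zero_smul, map_zero]
    linear_combination (-(minusQ (d - 1) F a₀ b₀) w) * h2
  rw [h3, sub_zero]
  rfl

theorem ind (hCan : CancelM.{u}) (hSub : SubTypeE.{u}) (hPlusSum : PlusSumM.{u})
    (hOrth : Cfsg.Agent.Lib.Helper41.TMStmt.OrthSum.{u})
    (hTsIn : Cfsg.Agent.Lib.Helper41.TMStmt.TsIn.{u})
    {F : Type u} [Field F] [Fintype F] (a₀ b₀ : F) (hab : Aniso a₀ b₀) [CharP F 2] (d : ℕ)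
    (X : Matrix (M d) (M d) F)
    (hQ : ∀ v : M d → F, minusQ (d - 1) F a₀ b₀ (X *ᵥ v) = minusQ (d - 1) F a₀ b₀ v)
    (hxx : X * X = 1)
    (hQV : ∀ A : Submodule F (M d → F), NDegM d F a₀ b₀ A →
      ∀ e ∈ A, e ≠ 0 → Cfsg.quadFormMinus (d - 1) F a₀ b₀ e = 0 →
      (∀ w ∈ A, Cfsg.quadFormMinus (d - 1) F a₀ b₀ w = 0 →
        QuadraticMap.polar (Cfsg.quadFormMinus (d - 1) F a₀ b₀) w (X *ᵥ w) = 0) →
      ∀ u ∈ A, QuadraticMap.polar (Cfsg.quadFormMinus (d - 1) F a₀ b₀) u (X *ᵥ u) = 0)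
    (hSP : ∀ Y B : Submodule F (M d → F), NDegM d F a₀ b₀ Y → NDegM d F a₀ b₀ B → B ≤ Y →
      ∃ Y' : Submodule F (M d → F), Y' ≤ Y ∧ NDegM d F a₀ b₀ Y' ∧ B ⊓ Y' = ⊥ ∧
        (∀ b ∈ B, ∀ y ∈ Y',
          QuadraticMap.polar (Cfsg.quadFormMinus (d - 1) F a₀ b₀) b y = 0) ∧
        Module.finrank F ↥B + Module.finrank F ↥Y' = Module.finrank F ↥Y ∧
        (StabM X Y → StabM X B → StabM X Y')) :
    ∀ (N : ℕ) (Y : Submodule F (M d → F)), Module.finrank F ↥Y ≤ N →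
      Module.finrank F ↥Y % 2 = 0 →
      StabM X Y → NDegM d F a₀ b₀ Y → ¬ PlusM d F a₀ b₀ Y →
      ∀ n : ℕ, 2 ≤ n → n % 2 = 0 → n ≤ Module.finrank F ↥Y →
        (Module.finrank F ↥Y % 4 = 0 ∨ n % 4 = 2) →
        ∃ W : Submodule F (M d → F), W ≤ Y ∧ MemEM d F a₀ b₀ n W ∧ StabM X W := by
  intro N
  induction N with
  | zero =>
    intro Y hN _ _ _ _ n hn2 _ hnf _
    omega
  | succ N ih =>
    intro Y hN hfe hY hnd hnp n hn2 hne hnf hcond
    by_cases hnf' : n = Module.finrank F ↥Y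
    · exact ⟨Y, le_refl _, ⟨hnf'.symm, hnd, hnp⟩, hY⟩
    have hlt : n < Module.finrank F ↥Y := lt_of_le_of_ne hnf hnf'
    by_cases hfix : ∀ u ∈ Y, X *ᵥ u = u
    · obtain ⟨W, hWY, hMem⟩ := (hSub F a₀ b₀ hab d n Y hnd (Nat.even_iff.mpr hne) hlt).2 hn2
      refine ⟨W, hWY, hMem, ?_⟩
      rintro _ ⟨w, hw, rfl⟩
      rw [Matrix.toLin'_apply, hfix w (hWY hw)]
      exact hw
    push Not at hfix
    obtain ⟨u, huY, hu⟩ := hfix
    -- the common peeling step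
    have peel : ∀ H : Submodule F (M d → F), H ≤ Y → NDegM d F a₀ b₀ H → PlusM d F a₀ b₀ H →
        StabM X H →
        ∃ Y' : Submodule F (M d → F), Y' ≤ Y ∧ NDegM d F a₀ b₀ Y' ∧ ¬ PlusM d F a₀ b₀ Y' ∧
          StabM X Y' ∧ Module.finrank F ↥H + Module.finrank F ↥Y' = Module.finrank F ↥Y ∧
          (∀ w ∈ Y', ∀ v ∈ H,
            QuadraticMap.polar (Cfsg.quadFormMinus (d - 1) F a₀ b₀) w v = 0) := by
      intro H hHY hndH hpH hstH
      obtain ⟨Y', hY'Y, hndY', hinf, horth, hfr, hinv⟩ := hSP Y H hnd hndH hHY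
      refine ⟨Y', hY'Y, hndY', ?_, hinv hY hstH, hfr, ?_⟩
      · intro hpY'
        apply hnp
        have hsum := hPlusSum F a₀ b₀ hab d H Y' horth hinf hpH hpY'
        obtain ⟨-, -, hfrs⟩ := hOrth F a₀ b₀ hab d H Y' hndH hndY' horth
        have heq : H ⊔ Y' = Y :=
          Submodule.eq_of_le_of_finrank_eq (sup_le hHY hY'Y) (by rw [hfrs, hfr])
        rw [← heq]
        exact hsum
      · intro w hw v hv
        rw [QuadraticMap.polar_comm]
        exact horth v hv w hw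
    have hf3 : 2 * 1 < Module.finrank F ↥Y := by omega
    obtain ⟨U, hUY, hUts, hUfr⟩ := hTsIn F a₀ b₀ hab d Y 1 hnd hf3
    have hUne : U ≠ ⊥ := by
      rintro rfl
      rw [finrank_bot] at hUfr
      omega
    obtain ⟨e, heU, he0⟩ := Submodule.exists_mem_ne_zero_of_ne_bot hUne
    by_cases hA : ∃ w ∈ Y, Cfsg.quadFormMinus (d - 1) F a₀ b₀ w = 0 ∧
        QuadraticMap.polar (Cfsg.quadFormMinus (d - 1) F a₀ b₀) w (X *ᵥ w) ≠ 0
    · obtain ⟨w, hwY, hw0, hwne⟩ := hA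
      have hN' : minusQ (d - 1) F a₀ b₀ (NL X w) ≠ 0 := by
        rw [Q_NL_eq a₀ b₀ X hQ w]
        exact hwne
      obtain ⟨H, hHY, hHfr, hndH, hpH, hstH⟩ : ∃ H : Submodule F (M d → F), H ≤ Y ∧
          Module.finrank F ↥H = 2 ∧ NDegM d F a₀ b₀ H ∧ PlusM d F a₀ b₀ H ∧ StabM X H :=
        peel_swap (minusQ (d - 1) F a₀ b₀) X hQ hxx Y hY w hwY hw0 hN'
      obtain ⟨Y', hY'Y, hndY', hnpY', hstY', hfrY', horthY'⟩ := peel H hHY hndH hpH hstH
      by_cases hn4 : n % 4 = 2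
      · obtain ⟨W, hWY', hMem, hst⟩ := ih Y' (by omega) (by omega) hstY' hndY' hnpY' n hn2 hne
          (by omega) (Or.inr hn4)
        exact ⟨W, hWY'.trans hY'Y, hMem, hst⟩
      · obtain ⟨W', hW'Y', hMem', hst'⟩ := ih Y' (by omega) (by omega) hstY' hndY' hnpY' (n - 2)
          (by omega) (by omega) (by omega) (Or.inr (by omega))
        refine ⟨W' ⊔ H, sup_le (hW'Y'.trans hY'Y) hHY, ?_, ?_⟩
        · exact glue hCan hOrth a₀ b₀ hab d n W' H hMem'.2.1 hndH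
            (fun u hu v hv => horthY' u (hW'Y' hu) v hv) (by rw [hMem'.1, hHfr]; omega)
            (Or.inl ⟨hpH, hMem'.2.2⟩)
        · unfold StabM
          rw [Submodule.map_sup]
          exact sup_le_sup hst' hstH
    · push Not at hA
      have hall : ∀ u ∈ Y,
          QuadraticMap.polar (Cfsg.quadFormMinus (d - 1) F a₀ b₀) u (X *ᵥ u) = 0 :=
        hQV Y hnd e (hUY heU) he0 (hUts e heU) hA
      have hℓ : ∀ w ∈ Y, minusQ (d - 1) F a₀ b₀ (NL X w) = 0 := by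
        intro w hw
        rw [Q_NL_eq a₀ b₀ X hQ w]
        exact hall w hw
      have hNu : NL X u ≠ 0 := by
        intro h
        apply hu
        rw [NL_apply, sub_eq_zero] at h
        exact h
      obtain ⟨B, hBY, hBfr, hndB, hpB, hstB⟩ : ∃ B : Submodule F (M d → F), B ≤ Y ∧
          Module.finrank F ↥B = 4 ∧ NDegM d F a₀ b₀ B ∧ PlusM d F a₀ b₀ B ∧ StabM X B :=
        peel_four (minusQ (d - 1) F a₀ b₀) X hQ hxx Y hY hnd hℓ u huY hNu
      obtain ⟨Y', hY'Y, hndY', hnpY', hstY', hfrY', horthY'⟩ := peel B hBY hndB hpB hstB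
      by_cases hn4 : n + 4 ≤ Module.finrank F ↥Y
      · obtain ⟨W, hWY', hMem, hst⟩ := ih Y' (by omega) (by omega) hstY' hndY' hnpY' n hn2 hne
          (by omega) (by omega)
        exact ⟨W, hWY'.trans hY'Y, hMem, hst⟩
      · by_cases hf8 : 8 ≤ Module.finrank F ↥Y
        · obtain ⟨W', hW'Y', hMem', hst'⟩ := ih Y' (by omega) (by omega) hstY' hndY' hnpY'
            (n - 4) (by omega) (by omega) (by omega) (by omega)
          refine ⟨W' ⊔ B, sup_le (hW'Y'.trans hY'Y) hBY, ?_, ?_⟩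
          · exact glue hCan hOrth a₀ b₀ hab d n W' B hMem'.2.1 hndB
              (fun u hu v hv => horthY' u (hW'Y' hu) v hv) (by rw [hMem'.1, hBfr]; omega)
              (Or.inl ⟨hpB, hMem'.2.2⟩)
          · unfold StabM
            rw [Submodule.map_sup]
            exact sup_le_sup hst' hstB
        · exfalso
          by_cases hf4 : Module.finrank F ↥Y = 4
          · apply hnpY'
            have h0 : Module.finrank F ↥Y' = 0 := by omega
            refine ⟨⊥, bot_le, ?_, ?_⟩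
            · intro w hw
              rw [(Submodule.mem_bot F).mp hw]
              exact map_zero (minusQ (d - 1) F a₀ b₀)
            · rw [finrank_bot, h0]
          · omega

theorem main (hCan : CancelM.{u}) (hSub : SubTypeE.{u}) (hPlusSum : PlusSumM.{u})
    (hQuadVan : QuadVanM.{u})
    (hTop : Cfsg.Agent.Lib.Helper41.TMStmt.Top.{u})
    (hSubPerp : Cfsg.Agent.Lib.Helper41.TMStmt.SubPerp.{u})
    (hOrth : Cfsg.Agent.Lib.Helper41.TMStmt.OrthSum.{u})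
    (hTsIn : Cfsg.Agent.Lib.Helper41.TMStmt.TsIn.{u}) : C2Fix.{u} := by
  intro F _ _ a₀ b₀ hab _ d m hd hm2 hmev hmd hcond x hx hxx
  have hfr : Module.finrank F ↥(⊤ : Submodule F (M d → F)) = 2 * d := by
    rw [finrank_top, Module.finrank_fintype_fun_eq_card]
    simp
    omega
  obtain ⟨hndT, hnpT⟩ := hTop F a₀ b₀ hab d
  have hSP : ∀ Y B : Submodule F (M d → F), NDegM d F a₀ b₀ Y → NDegM d F a₀ b₀ B → B ≤ Y →
      ∃ Y' : Submodule F (M d → F), Y' ≤ Y ∧ NDegM d F a₀ b₀ Y' ∧ B ⊓ Y' = ⊥ ∧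
        (∀ b ∈ B, ∀ y ∈ Y',
          QuadraticMap.polar (Cfsg.quadFormMinus (d - 1) F a₀ b₀) b y = 0) ∧
        Module.finrank F ↥B + Module.finrank F ↥Y' = Module.finrank F ↥Y ∧
        (StabM (x : Matrix (M d) (M d) F) Y → StabM (x : Matrix (M d) (M d) F) B →
          StabM (x : Matrix (M d) (M d) F) Y') := by
    intro Y B hY hB hBY
    obtain ⟨Y', h1, h2, h3, h4, h5, h6⟩ := hSubPerp F a₀ b₀ hab d Y B hY hB hBY
    exact ⟨Y', h1, h2, h3, h4, h5, h6 x hx⟩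
  have hc : Module.finrank F ↥(⊤ : Submodule F (M d → F)) % 4 = 0 ∨ m % 4 = 2 := by
    rcases hcond with h | h
    · left
      obtain ⟨k, hk⟩ := h
      rw [hfr]
      omega
    · exact Or.inr h
  obtain ⟨W, -, hMem, hst⟩ := ind hCan hSub hPlusSum hOrth hTsIn a₀ b₀ hab d
    (x : Matrix (M d) (M d) F) (fun v => hx v v) hxx
    (fun A hA e heA he0 hQe hs u hu => hQuadVan F a₀ b₀ hab d x hx hxx A hA e heA he0 hQe hs u hu)
    hSP (2 * d) ⊤ (by rw [hfr]) (by rw [hfr]; omega) le_top hndT hnpT m hm2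
    (Nat.even_iff.mp hmev) (by rw [hfr]; omega) hc
  exact ⟨W, hMem, hst⟩

end Cfsg.Agent.Lib.Helper52.EMC2FIX
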