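import Mathlib
import Cfsg.Agent.Lib.Helper94.EllStmt
import Cfsg.Agent.Lib.Helper29.HypDIMOBS

/-!
# S5993 piece ACAUCHY
-/

set_option autoImplicit false

namespace Cfsg.Agent.Lib.Helper52.EllACAUCHY

open Cfsg.Agent.Lib.Helper37.HypStmt Cfsg.Agent.Lib.Helper94.EllStmt

universe u

theorem main : ACauchy.{u} := by
  intro F _ _ p _ _ hq V _ _ _ Q hnd r _ hr2 hrp hdim g hgQ hgr
  classical
  have hrprime : r.Prime := Fact.out
  have hpprime : p.Prime := Fact.out
  have h2 : (2 : F) ≠ 0 := Cfsg.Agent.Lib.Helper29.HypDIMOBS.two_ne_zero_of_odd_card hq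
  have hrF : (r : F) ≠ 0 := by
    intro h
    rw [CharP.cast_eq_zero_iff F p r] at h
    exact hrp ((Nat.prime_dvd_prime_iff_eq hpprime hrprime).mp h).symm
  set A : V →ₗ[F] V := (g : V →ₗ[F] V) with hA
  have hpow : ∀ (k : ℕ) (v : V), (A ^ k) v = (g ^ k) v := by
    intro k
    induction k with
    | zero => intro v; rfl
    | succ k ih =>
      intro v
      rw [pow_succ, pow_succ, Module.End.mul_apply, LinearEquiv.mul_apply, ih]
      rfl
  have hAr : A ^ r = 1 := by
    ext v
    rw [hpow, hgr]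
    rfl
  have hfin : Finite V := Module.finite_of_finite F
  set R : Submodule F V := (⊤ : Submodule F V).map (A - 1) with hR
  have hRmem : ∀ v ∈ R, ∃ w : V, v = A w - w := by
    intro v hv
    obtain ⟨w, -, rfl⟩ := hv
    exact ⟨w, rfl⟩
  have hRinv : ∀ v ∈ R, A v ∈ R := by
    intro v hv
    obtain ⟨w, rfl⟩ := hRmem v hv
    refine ⟨A w, trivial, ?_⟩
    simp [map_sub]
  have hRfix : ∀ v ∈ R, A v = v → v = 0 := by
    intro v hv hfix
    obtain ⟨w, rfl⟩ := hRmem v hv
    exact Cfsg.Agent.Lib.Helper29.HypDIMOBS.no_fix A r hrF hAr w hfix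
  have hdvd : orderOf ((Fintype.card F : ℕ) : ZMod r) ∣ Module.finrank F R :=
    Cfsg.Agent.Lib.Helper29.HypDIMOBS.free_dvd A r hAr R hRinv hRfix
  have heven : Even (Module.finrank F R) := by
    refine Cfsg.Agent.Lib.Helper29.HypDIMOBS.even_rank h2 Q A r (hrprime.odd_of_ne_two hr2) hrF
      hAr (fun v => hgQ v) ⊤ (fun w _ => trivial) ?_
    intro w _ hw
    by_contra hcon
    push Not at hcon
    apply hw
    apply hnd
    intro y
    rw [QuadraticMap.polar_comm]
    exact hcon y trivial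
  have hcc : cc (orderOf ((Fintype.card F : ℕ) : ZMod r)) ∣ Module.finrank F R := by
    unfold cc
    split_ifs with hi
    · exact hdvd
    · rw [Nat.not_even_iff_odd] at hi
      exact Nat.Coprime.mul_dvd_of_dvd_of_dvd (Nat.coprime_two_left.mpr hi)
        heven.two_dvd hdvd
  have hle : Module.finrank F R ≤ Module.finrank F V := Submodule.finrank_le R
  have h0 : Module.finrank F R = 0 := Nat.eq_zero_of_dvd_of_lt hcc (lt_of_le_of_lt hle hdim)
  have hbot : R = ⊥ := Submodule.finrank_eq_zero.mp h0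
  ext v
  have h1 : (A - 1) v ∈ R := ⟨v, trivial, rfl⟩
  rw [hbot, Submodule.mem_bot] at h1
  have h3 : A v - v = 0 := h1
  have h4 : g v = v := sub_eq_zero.mp h3
  rw [h4]
  rfl

end Cfsg.Agent.Lib.Helper52.EllACAUCHY
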