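import Mathlib
import Cfsg.Agent.Lib.Helper94.EllStmt
import Cfsg.Agent.Lib.Helper29.HypDIMOBS

/-!
# S5993 piece UCARD
-/

set_option autoImplicit false

namespace Cfsg.Agent.Lib.Helper52.EllUCARD

open Cfsg.Agent.Lib.Helper37.HypStmt Cfsg.Agent.Lib.Helper94.EllStmt
open Cfsg.Agent.Lib.Helper29.HypDIMOBS (oddQ coe_oddQ)

universe u

section

variable {F : Type u} [Field F] {d : ℕ}

/-- the restricted form -/
noncomputable def QU (U : Submodule F (I d → F)) : QuadraticForm F ↥U :=
  (oddQ d F).comp U.subtype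

theorem polar_QU (U : Submodule F (I d → F)) (x y : ↥U) :
    QuadraticMap.polar (QU U) x y =
      QuadraticMap.polar (Cfsg.quadFormOdd d F) (x : I d → F) (y : I d → F) := rfl

theorem ell_map_iff (U : Submodule F (I d → F)) (m : ℕ) (W0 : Submodule F ↥U) :
    Ell d F m (W0.map U.subtype) ↔ AEll (QU U) m W0 := by
  have hfr : ∀ T0 : Submodule F ↥U,
      Module.finrank F ↥(T0.map U.subtype) = Module.finrank F ↥T0 :=
    fun T0 => (Submodule.equivSubtypeMap U T0).finrank_eq.symm
  have hmem : ∀ (T0 : Submodule F ↥U) (w : I d → F),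
      w ∈ T0.map U.subtype ↔ ∃ x : ↥U, x ∈ T0 ∧ (x : I d → F) = w :=
    fun T0 w => Submodule.mem_map
  unfold Ell AEll Cfsg.Geo.IsPlusTypeOn Cfsg.Geo.IsTotallySingularQuad
    Cfsg.Geo.IsNondegenerateOn
  refine and_congr (by rw [hfr]) (and_congr ?_ ?_)
  · constructor
    · intro h x hx hxy
      by_contra hx0
      have hx0' : (x : I d → F) ≠ 0 := fun h0 => hx0 (Subtype.ext h0)
      obtain ⟨-, z, hz, hne⟩ := h (x : I d → F) ((hmem W0 _).mpr ⟨x, hx, rfl⟩) hx0'
      obtain ⟨y, hy, rfl⟩ := (hmem W0 z).mp hz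
      exact hne (hxy y hy)
    · intro h w hw hw0
      obtain ⟨x, hx, rfl⟩ := (hmem W0 w).mp hw
      have hx0 : x ≠ 0 := by
        rintro rfl
        exact hw0 rfl
      have h1 : ¬ ∀ y ∈ W0, QuadraticMap.polar (QU U) x y = 0 := fun hh => hx0 (h x hx hh)
      push Not at h1
      obtain ⟨y, hy, hne⟩ := h1
      refine ⟨⟨(y : I d → F), (hmem W0 _).mpr ⟨y, hy, rfl⟩, ?_⟩,
        ⟨(y : I d → F), (hmem W0 _).mpr ⟨y, hy, rfl⟩, hne⟩⟩
      rw [QuadraticMap.polar_comm]
      exact hne
  · apply not_congr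
    constructor
    · rintro ⟨T, hTW, hTs, hTd⟩
      have hTU : T ≤ U := by
        intro t ht
        obtain ⟨x, -, rfl⟩ := (hmem W0 t).mp (hTW ht)
        exact x.2
      have hmc : (T.comap U.subtype).map U.subtype = T := by
        rw [Submodule.map_comap_subtype]
        exact inf_eq_right.mpr hTU
      refine ⟨T.comap U.subtype, ?_, ?_, ?_⟩
      · intro t ht
        have ht' : (t : I d → F) ∈ T := ht
        obtain ⟨x, hx, hxt⟩ := (hmem W0 _).mp (hTW ht')
        have hxt' : x = t := Subtype.ext hxt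
        rw [← hxt']
        exact hx
      · intro t ht
        exact hTs (t : I d → F) ht
      · rw [← hfr (T.comap U.subtype), hmc, hTd, hfr]
    · rintro ⟨T0, hTW, hTs, hTd⟩
      refine ⟨T0.map U.subtype, Submodule.map_mono hTW, ?_, ?_⟩
      · intro t ht
        obtain ⟨x, hx, rfl⟩ := (hmem T0 t).mp ht
        exact hTs x hx
      · rw [hfr, hfr, hTd]

end

theorem main (hAC : ACard.{u}) (hES : EllSub.{u}) : UCard.{u} := by
  intro F _ _ p _ _ hq d m hm2 hme r _ hr2 hrp U hU hmU hUc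
  classical
  have hnd : ∀ x : ↥U, (∀ y : ↥U, QuadraticMap.polar (QU U) x y = 0) → x = 0 := by
    intro x hx
    by_contra hx0
    have hx0' : (x : I d → F) ≠ 0 := fun h0 => hx0 (Subtype.ext h0)
    obtain ⟨-, z, hz, hne⟩ := hU (x : I d → F) x.2 hx0'
    exact hne (hx ⟨z, hz⟩)
  have hex : ∃ W0 : Submodule F ↥U, AEll (QU U) m W0 := by
    have hbot : NDeg d F (⊥ : Submodule F (I d → F)) := by
      intro w hw hw0
      exact absurd ((Submodule.mem_bot F).mp hw) hw0
    obtain ⟨W₁, hW₁U, hW₁⟩ := hES F hq d m hme ⊥ U hbot hU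
      (by
        intro u hu v hv
        rw [(Submodule.mem_bot F).mp hu]
        exact QuadraticMap.polar_zero_left (oddQ d F) v)
      (by rw [finrank_bot]; exact Even.zero)
      (by rw [finrank_bot]; omega)
      (by rw [finrank_bot]; omega)
    rw [bot_sup_eq] at hW₁
    refine ⟨W₁.comap U.subtype, (ell_map_iff U m _).mp ?_⟩
    rw [Submodule.map_comap_subtype, inf_eq_right.mpr hW₁U]
    exact hW₁
  have h1 := hAC F p hq ↥U (QU U) hnd m hme r hr2 hrp hUc hex
  have hcard : Nat.card {W : Submodule F (I d → F) // Ell d F m W ∧ W ≤ U} =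
      Nat.card {W0 : Submodule F ↥U // AEll (QU U) m W0} := by
    apply Nat.card_congr
    refine ⟨fun W => ⟨W.1.comap U.subtype, ?_⟩, fun W0 => ⟨W0.1.map U.subtype, ?_, ?_⟩, ?_, ?_⟩
    · apply (ell_map_iff U m _).mp
      rw [Submodule.map_comap_subtype, inf_eq_right.mpr W.2.2]
      exact W.2.1
    · exact (ell_map_iff U m _).mpr W0.2
    · exact Submodule.map_subtype_le U W0.1
    · intro W
      apply Subtype.ext
      show (W.1.comap U.subtype).map U.subtype = W.1
      rw [Submodule.map_comap_subtype, inf_eq_right.mpr W.2.2]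
    · intro W0
      apply Subtype.ext
      show (W0.1.map U.subtype).comap U.subtype = W0.1
      exact Submodule.comap_map_eq_of_injective U.injective_subtype W0.1
  rw [hcard]
  exact h1

end Cfsg.Agent.Lib.Helper52.EllUCARD
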