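import Mathlib
import Cfsg.Agent.Lib.Helper40.GFStmt

/-!
# S5886 piece RANK1: the rank one case gives a map `T` acting as `a ↦ a + b a • (f • e)` on `L v`
-/

set_option autoImplicit false

namespace Cfsg.Agent.Lib.Helper52.GFRANK1

open Cfsg.Agent.Lib.Helper40.GFStmt

universe u

section aux
variable {F L : Type u} [Field F] [Field L] [Algebra F L] [FiniteDimensional F L] {k : ℕ}

theorem g_ginv (g : V k L ≃ₗ[F] V k L) (x : V k L) : g (g⁻¹ x) = x := by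
  rw [← LinearEquiv.mul_apply, mul_inv_cancel]; rfl

theorem ginv_g (g : V k L ≃ₗ[F] V k L) (x : V k L) : g⁻¹ (g x) = x := by
  rw [← LinearEquiv.mul_apply, inv_mul_cancel]; rfl

/-- dimension comparison of `Zsub g w v` and `Zsub g⁻¹ v w` -/
theorem zsub_le (g : V k L ≃ₗ[F] V k L) (w v : V k L) (hv : v ≠ 0) (hw : w ≠ 0) :
    Module.finrank F (Zsub g w v) ≤ Module.finrank F (Zsub g⁻¹ v w) := by
  obtain ⟨j, hj⟩ : ∃ j, v j ≠ 0 := by
    by_contra h
    push Not at h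
    exact hv (funext h)
  obtain ⟨θ, hθ⟩ : ∃ θ : L →ₗ[F] L, ∀ z, θ z = (g (z • w)) j * (v j)⁻¹ :=
    ⟨(LinearMap.mulRight F (v j)⁻¹) ∘ₗ
      ((LinearMap.proj j : V k L →ₗ[L] L).restrictScalars F) ∘ₗ (g : V k L →ₗ[F] V k L) ∘ₗ
      ((LinearMap.toSpanSingleton L (V k L) w).restrictScalars F), fun z => rfl⟩
  have hθZ : ∀ z ∈ Zsub g w v, g (z • w) = θ z • v := by
    intro z hz
    obtain ⟨a', ha'⟩ := (mem_Zsub g w v z).mp hz
    rw [hθ, ha']
    congr 1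
    rw [Pi.smul_apply, smul_eq_mul, mul_inv_cancel_right₀ hj]
  have hmem : ∀ z ∈ Zsub g w v, θ z ∈ Zsub g⁻¹ v w := by
    intro z hz
    rw [mem_Zsub]
    refine ⟨z, ?_⟩
    rw [← hθZ z hz, ginv_g]
  have hinj : Function.Injective (θ.restrict hmem) := by
    intro z₁ z₂ h
    have h1 : θ z₁ = θ z₂ := congrArg Subtype.val h
    have h2 : g ((z₁ : L) • w) = g ((z₂ : L) • w) := by
      rw [hθZ _ z₁.2, hθZ _ z₂.2, h1]
    have h3 := g.injective h2
    have h4 : ((z₁ : L) - z₂) • w = 0 := by rw [sub_smul, h3, sub_self]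
    rcases smul_eq_zero.mp h4 with h5 | h5
    · exact Subtype.ext (sub_eq_zero.mp h5)
    · exact absurd h5 hw
  exact LinearMap.finrank_le_finrank_of_injective hinj

/-- a hyperplane and a vector outside it span everything -/
theorem hyper_decomp (H : Submodule F L) (hH : Module.finrank F H + 1 = Module.finrank F L)
    (a : L) (ha : a ∉ H) : ∀ x : L, ∃ h ∈ H, ∃ s : F, x = h + s • a := by
  have hlt : H < H ⊔ Submodule.span F {a} := by
    refine lt_of_le_of_ne le_sup_left ?_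
    intro heq
    apply ha
    rw [heq]
    exact Submodule.mem_sup_right (Submodule.mem_span_singleton_self a)
  have h1 := Submodule.finrank_lt_finrank_of_lt hlt
  have h2 : (H ⊔ Submodule.span F {a}) = ⊤ := by
    apply Submodule.eq_top_of_finrank_eq
    have := Submodule.finrank_le (H ⊔ Submodule.span F {a})
    omega
  intro x
  have hx : x ∈ H ⊔ Submodule.span F {a} := by rw [h2]; trivial
  obtain ⟨h, hh, y, hy, rfl⟩ := Submodule.mem_sup.mp hx
  obtain ⟨s, rfl⟩ := Submodule.mem_span_singleton.mp hy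
  exact ⟨h, hh, s, rfl⟩

end aux

theorem main (hSep : Sep.{u}) : Rank1.{u} := by
  intro F L _ _ _ _ k c hr g hg w v hv hrk
  classical
  have hZle := Submodule.finrank_le (Zsub g w v)
  have hZ : Module.finrank F (Zsub g w v) + 1 = Module.finrank F L := by
    unfold rk at hrk; omega
  have hw : w ≠ 0 := by
    intro hw0
    have : Zsub g w v = ⊤ := by
      rw [eq_top_iff]
      intro a _
      rw [mem_Zsub]
      exact ⟨0, by rw [hw0, smul_zero, map_zero, zero_smul]⟩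
    rw [this, finrank_top] at hZ
    omega
  have hK : Module.finrank F (Zsub g⁻¹ v w) = Module.finrank F (Zsub g w v) := by
    apply le_antisymm
    · have := zsub_le g⁻¹ v w hw hv
      rwa [inv_inv] at this
    · exact zsub_le g w v hv hw
  have hK1 : Module.finrank F (Zsub g⁻¹ v w) + 1 = Module.finrank F L := by rw [hK]; exact hZ
  obtain ⟨a₁, ha₁⟩ : ∃ a₁ : L, a₁ ∉ Zsub g w v := by
    by_contra h
    push Not at h
    have : Zsub g w v = ⊤ := by
      rw [eq_top_iff]; intro a _; exact h a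
    rw [this, finrank_top] at hZ
    omega
  obtain ⟨a₀, ha₀⟩ : ∃ a₀ : L, a₀ ∉ Zsub g⁻¹ v w := by
    by_contra h
    push Not at h
    have : Zsub g⁻¹ v w = ⊤ := by
      rw [eq_top_iff]; intro a _; exact h a
    rw [this, finrank_top] at hK1
    omega
  have hA : ∀ μ : L, ∃ (a' : L) (s : F), g (μ • w) = a' • v + s • g (a₁ • w) := by
    intro μ
    obtain ⟨h, hh, s, rfl⟩ := hyper_decomp (Zsub g w v) hZ a₁ ha₁ μ
    obtain ⟨a', ha'⟩ := (mem_Zsub g w v h).mp hh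
    refine ⟨a', s, ?_⟩
    rw [add_smul, map_add, ha', smul_assoc, map_smul]
  have hy₁ : ∀ a : L, g⁻¹ (a₀ • v) ≠ a • w := by
    intro a h
    exact ha₀ ((mem_Zsub g⁻¹ v w a₀).mpr ⟨a, h⟩)
  obtain ⟨φ, hφw, hφy⟩ := hSep L k w (g⁻¹ (a₀ • v)) hy₁
  obtain ⟨i₀, hi₀⟩ : ∃ i₀ : L, i₀ = φ (g⁻¹ (a₀ • v)) := ⟨_, rfl⟩
  rw [← hi₀] at hφy
  obtain ⟨β, hβ⟩ : ∃ β : L →ₗ[F] L, ∀ a, β a = φ (g⁻¹ (a • v)) :=
    ⟨(φ.restrictScalars F) ∘ₗ ((g⁻¹ : V k L ≃ₗ[F] V k L) : V k L →ₗ[F] V k L) ∘ₗ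
      ((LinearMap.toSpanSingleton L (V k L) v).restrictScalars F), fun a => rfl⟩
  have hβK : ∀ κ ∈ Zsub g⁻¹ v w, β κ = 0 := by
    intro κ hκ
    obtain ⟨a', ha'⟩ := (mem_Zsub g⁻¹ v w κ).mp hκ
    rw [hβ, ha', map_smul, hφw, smul_zero]
  have hβs : ∀ a, ∃ s : F, β a = s • i₀ := by
    intro a
    obtain ⟨κ, hκ, s, rfl⟩ := hyper_decomp (Zsub g⁻¹ v w) hK1 a₀ ha₀ a
    refine ⟨s, ?_⟩
    rw [map_add, hβK κ hκ, zero_add, map_smul, hβ, hi₀]
  obtain ⟨χ₀, hχ₀⟩ : ∃ χ₀ : L →ₗ[F] F, χ₀ i₀ ≠ 0 := by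
    by_contra h
    push Not at h
    exact hφy ((Module.forall_dual_apply_eq_zero_iff F i₀).mp h)
  obtain ⟨b, hbdef⟩ : ∃ b : L →ₗ[F] F, ∀ a, b a = (χ₀ i₀)⁻¹ * χ₀ (β a) :=
    ⟨((χ₀ i₀)⁻¹ • χ₀) ∘ₗ β, fun a => rfl⟩
  have hb : ∀ a, β a = b a • i₀ := by
    intro a
    obtain ⟨s, hs⟩ := hβs a
    have : b a = s := by
      rw [hbdef, hs, map_smul, smul_eq_mul, mul_comm s, ← mul_assoc, inv_mul_cancel₀ hχ₀, one_mul]
    rw [this, hs]
  have hba₀ : b a₀ = 1 := by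
    rw [hbdef, hβ, ← hi₀, inv_mul_cancel₀ hχ₀]
  have hbne : b ≠ 0 := by
    intro h
    rw [h, LinearMap.zero_apply] at hba₀
    exact zero_ne_one hba₀
  have hZbot : Zsub g w v ≠ ⊥ := by
    intro h
    rw [h, finrank_bot] at hZ
    omega
  obtain ⟨z₀, hz₀, hz₀ne⟩ := Submodule.exists_mem_ne_zero_of_ne_bot hZbot
  obtain ⟨e, he⟩ := (mem_Zsub g w v z₀).mp hz₀
  have hene : e ≠ 0 := by
    intro he0
    rw [he0, zero_smul] at he
    have h1 : z₀ • w = 0 := by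
      apply g.injective; rw [he, map_zero]
    rcases smul_eq_zero.mp h1 with h | h
    · exact hz₀ne h
    · exact hw h
  have hbe : b e = 0 := by
    have h1 : β e = 0 := by
      rw [hβ, ← he, ginv_g, map_smul, hφw, smul_zero]
    have h2 := hb e
    rw [h1] at h2
    rcases smul_eq_zero.mp h2.symm with h | h
    · exact h
    · exact absurd h hφy
  refine ⟨e, b, g (a₁ • w), hene, hbne, hbe, fun f => ?_⟩
  obtain ⟨lam, hlam⟩ : ∃ lam : L, lam = f • (z₀ * i₀⁻¹) := ⟨_, rfl⟩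
  have h0 : (lam • φ) w = 0 := by
    rw [LinearMap.smul_apply, hφw, smul_zero]
  obtain ⟨t, ht, htx⟩ : ∃ t ∈ c.M, ∀ y, t y = y + (lam * φ y) • w := by
    refine ⟨(LinearEquiv.transvection h0).restrictScalars F, mem_tv c (lam • φ) w h0, fun y => ?_⟩
    show (LinearEquiv.transvection h0) y = _
    rw [LinearEquiv.transvection.apply, LinearMap.smul_apply, smul_eq_mul]
  have hT : g * t * g⁻¹ ∈ c.M := c.M.mul_mem (c.M.mul_mem hg ht) (c.M.inv_mem hg)
  have hTx : ∀ x, (g * t * g⁻¹) x = x + g ((lam * φ (g⁻¹ x)) • w) := by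
    intro x
    rw [LinearEquiv.mul_apply, LinearEquiv.mul_apply, htx, map_add, g_ginv]
  refine ⟨g * t * g⁻¹, hT, fun a => ?_, fun x => ?_⟩
  · rw [hTx, ← hβ, hb a]
    have h1 : lam * (b a • i₀) = (f * b a) • z₀ := by
      rw [hlam, smul_mul_smul_comm, mul_assoc, inv_mul_cancel₀ hφy, mul_one]
    rw [h1, smul_assoc, map_smul, he, add_smul]
    congr 1
    rw [smul_assoc, smul_assoc, ← mul_smul, mul_comm]
  · obtain ⟨a', s, h⟩ := hA (lam * φ (g⁻¹ x))
    refine ⟨a', s, ?_⟩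
    rw [hTx, add_sub_cancel_left, h]

end Cfsg.Agent.Lib.Helper52.GFRANK1
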