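import Mathlib
import Cfsg.Agent.Lib.Helper68.M11UStmt

set_option autoImplicit false

/-!
# S0420 piece THIRD: the fifth point of the block through a 4-set in a sharply 4-transitive
group of degree 11
-/

namespace Cfsg.Agent.Lib.Helper52.MUTHIRD

open Cfsg Cfsg.Agent.Lib.Helper68.M11UStmt

universe u

variable {G : Type u} [Group G] {Ω : Type u} [Fintype Ω] [DecidableEq Ω] [MulAction G Ω]

/-- sharp 4-transitivity on 11 points, in a convenient form -/
structure Sharp (G : Type u) [Group G] (Ω : Type u) [Fintype Ω] [MulAction G Ω] : Prop where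
  card : Fintype.card Ω = 11
  ex : ∀ a b c d a' b' c' d' : Ω, a ≠ b → a ≠ c → a ≠ d → b ≠ c → b ≠ d → c ≠ d →
    a' ≠ b' → a' ≠ c' → a' ≠ d' → b' ≠ c' → b' ≠ d' → c' ≠ d' →
    ∃ g : G, g • a = a' ∧ g • b = b' ∧ g • c = c' ∧ g • d = d'
  uniq : ∀ a b c d : Ω, a ≠ b → a ≠ c → a ≠ d → b ≠ c → b ≠ d → c ≠ d →
    ∀ g h : G, g • a = h • a → g • b = h • b → g • c = h • c → g • d = h • d → g = h

theorem inj4 {a b c d : Ω} (hab : a ≠ b) (hac : a ≠ c) (had : a ≠ d) (hbc : b ≠ c)
    (hbd : b ≠ d) (hcd : c ≠ d) : Function.Injective ![a, b, c, d] := by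
  intro i j h
  fin_cases i <;> fin_cases j <;> simp_all

theorem sharp_of_hyp (hcard : Fintype.card Ω = 11)
    (H : ∀ p p' : Fin 4 → Ω, Function.Injective p → Function.Injective p' →
      ∃! g : G, ∀ i, g • p i = p' i) : Sharp G Ω := by
  refine ⟨hcard, ?_, ?_⟩
  · intro a b c d a' b' c' d' hab hac had hbc hbd hcd hab' hac' had' hbc' hbd' hcd'
    obtain ⟨g, hg, -⟩ := H ![a, b, c, d] ![a', b', c', d'] (inj4 hab hac had hbc hbd hcd)
      (inj4 hab' hac' had' hbc' hbd' hcd')
    exact ⟨g, hg 0, hg 1, hg 2, hg 3⟩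
  · intro a b c d hab hac had hbc hbd hcd g h ha hb hc hd
    have hinj : Function.Injective ![h • a, h • b, h • c, h • d] :=
      inj4 (fun e => hab (MulAction.injective h e)) (fun e => hac (MulAction.injective h e))
        (fun e => had (MulAction.injective h e)) (fun e => hbc (MulAction.injective h e))
        (fun e => hbd (MulAction.injective h e)) (fun e => hcd (MulAction.injective h e))
    have hu := H ![a, b, c, d] ![h • a, h • b, h • c, h • d] (inj4 hab hac had hbc hbd hcd) hinj
    refine hu.unique ?_ ?_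
    · intro i
      fin_cases i
      · exact ha
      · exact hb
      · exact hc
      · exact hd
    · intro i
      fin_cases i <;> rfl

theorem card_fix_mod (S : Sharp G Ω) (g : G) (h1 : g ≠ 1) (h3 : g * g * g = 1) :
    (Finset.univ.filter (fun x : Ω => g • x = x)).card % 3 = 2 := by
  haveI : Fact (Nat.Prime 3) := ⟨by norm_num⟩
  have hpow : g ^ 3 = 1 := by rw [pow_succ, pow_two]; exact h3
  have horder : orderOf g = 3 := orderOf_eq_prime hpow h1
  have hP : IsPGroup 3 (Subgroup.zpowers g) := by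
    apply IsPGroup.of_card (n := 1)
    rw [Nat.card_zpowers, horder]; norm_num
  have h := hP.card_modEq_card_fixedPoints Ω
  have hset : MulAction.fixedPoints (Subgroup.zpowers g) Ω = {x : Ω | g • x = x} := by
    ext x
    constructor
    · intro hx
      exact hx ⟨g, Subgroup.mem_zpowers g⟩
    · intro hx m
      obtain ⟨m, hm⟩ := m
      obtain ⟨k, rfl⟩ := Subgroup.mem_zpowers_iff.1 hm
      have h2 : g ∈ MulAction.stabilizer G x := hx
      exact (MulAction.stabilizer G x).zpow_mem h2 k
  have hc : Nat.card ({x : Ω | g • x = x} : Set Ω)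
      = (Finset.univ.filter (fun x : Ω => g • x = x)).card := by
    have e : Nat.card ({x : Ω | g • x = x} : Set Ω) = Nat.card {x : Ω // g • x = x} := rfl
    rw [e, Nat.card_eq_fintype_card, Fintype.card_subtype]
  rw [hset, Nat.card_eq_fintype_card, S.card, hc] at h
  have h' : 11 % 3 = (Finset.univ.filter (fun x : Ω => g • x = x)).card % 3 := h
  omega

theorem no_three_fixed (S : Sharp G Ω) (g : G) (h1 : g ≠ 1) (h3 : g * g * g = 1) {a b c : Ω}
    (hab : a ≠ b) (hac : a ≠ c) (hbc : b ≠ c) (ha : g • a = a) (hb : g • b = b)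
    (hc : g • c = c) : False := by
  have hmod := card_fix_mod S g h1 h3
  have hsub : ({a, b, c} : Finset Ω) ⊆ Finset.univ.filter (fun x : Ω => g • x = x) := by
    intro z hz
    simp only [Finset.mem_insert, Finset.mem_singleton] at hz
    rw [Finset.mem_filter]
    rcases hz with rfl | rfl | rfl
    · exact ⟨Finset.mem_univ _, ha⟩
    · exact ⟨Finset.mem_univ _, hb⟩
    · exact ⟨Finset.mem_univ _, hc⟩
  have hcard : ({a, b, c} : Finset Ω).card = 3 := by
    rw [Finset.card_insert_of_notMem (by simp [hab, hac]), Finset.card_pair hbc]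
  have hle := Finset.card_le_card hsub
  rw [hcard] at hle
  have hlt : ({a, b, c} : Finset Ω).card <
      (Finset.univ.filter (fun x : Ω => g • x = x)).card := by rw [hcard]; omega
  obtain ⟨z, hz, hz'⟩ := Finset.exists_mem_notMem_of_card_lt_card hlt
  simp only [Finset.mem_insert, Finset.mem_singleton, not_or] at hz'
  rw [Finset.mem_filter] at hz
  apply h1
  apply S.uniq a b c z hab hac (Ne.symm hz'.1) hbc (Ne.symm hz'.2.1) (Ne.symm hz'.2.2) g 1
  · rw [ha, one_smul]
  · rw [hb, one_smul]
  · rw [hc, one_smul]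
  · rw [hz.2, one_smul]

theorem exists_second (S : Sharp G Ω) (g : G) (h1 : g ≠ 1) (h3 : g * g * g = 1) (d : Ω)
    (hd : g • d = d) : ∃ x : Ω, x ≠ d ∧ g • x = x := by
  have hmod := card_fix_mod S g h1 h3
  have hlt : 1 < (Finset.univ.filter (fun x : Ω => g • x = x)).card := by omega
  obtain ⟨x, hx, hxd⟩ := Finset.exists_mem_ne hlt d
  rw [Finset.mem_filter] at hx
  exact ⟨x, hxd, hx.2⟩

/-- `g` is an element of order 3 preserving the 4-set `s`, fixing `d ∈ s` and `x ∉ s` -/
def Wit (s : Finset Ω) (d : Ω) (g : G) (x : Ω) : Prop :=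
  d ∈ s ∧ g ≠ 1 ∧ g * g * g = 1 ∧ (∀ z ∈ s, g • z ∈ s) ∧ g • d = d ∧ g • x = x ∧ x ∉ s

theorem exists_wit (S : Sharp G Ω) (s : Finset Ω) (hs : s.card = 4) (d : Ω) (hd : d ∈ s) :
    ∃ (g : G) (x : Ω), Wit s d g x := by
  have h3 : (s.erase d).card = 3 := by rw [Finset.card_erase_of_mem hd, hs]
  obtain ⟨a, b, c, hab, hac, hbc, habc⟩ := Finset.card_eq_three.1 h3
  have ha : a ∈ s.erase d := by rw [habc]; simp
  have hb : b ∈ s.erase d := by rw [habc]; simp
  have hc : c ∈ s.erase d := by rw [habc]; simp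
  rw [Finset.mem_erase] at ha hb hc
  obtain ⟨g, hga, hgb, hgc, hgd⟩ := S.ex a b c d b c a d hab hac ha.1 hbc hb.1 hc.1
    hbc (Ne.symm hab) hb.1 (Ne.symm hac) hc.1 ha.1
  have hg1 : g ≠ 1 := by
    intro h
    rw [h, one_smul] at hga
    exact hab hga
  have hg3 : g * g * g = 1 := by
    apply S.uniq a b c d hab hac ha.1 hbc hb.1 hc.1
    · rw [mul_smul, mul_smul, hga, hgb, hgc, one_smul]
    · rw [mul_smul, mul_smul, hgb, hgc, hga, one_smul]
    · rw [mul_smul, mul_smul, hgc, hga, hgb, one_smul]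
    · rw [mul_smul, mul_smul, hgd, hgd, hgd, one_smul]
  have hmem : ∀ z ∈ s, z = d ∨ z = a ∨ z = b ∨ z = c := by
    intro z hz
    by_cases hzd : z = d
    · exact Or.inl hzd
    · have : z ∈ s.erase d := Finset.mem_erase.2 ⟨hzd, hz⟩
      rw [habc] at this
      simp only [Finset.mem_insert, Finset.mem_singleton] at this
      exact Or.inr this
  obtain ⟨x, hxd, hgx⟩ := exists_second S g hg1 hg3 d hgd
  refine ⟨g, x, hd, hg1, hg3, ?_, hgd, hgx, ?_⟩
  · intro z hz
    rcases hmem z hz with rfl | rfl | rfl | rfl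
    · rw [hgd]; exact hz
    · rw [hga]; exact hb.2
    · rw [hgb]; exact hc.2
    · rw [hgc]; exact ha.2
  · intro hxs
    rcases hmem x hxs with rfl | rfl | rfl | rfl
    · exact hxd rfl
    · rw [hga] at hgx; exact hab hgx.symm
    · rw [hgb] at hgx; exact hbc hgx.symm
    · rw [hgc] at hgx; exact hac hgx

theorem cyc (S : Sharp G Ω) {s : Finset Ω} {d : Ω} {g : G} {x : Ω} (hw : Wit s d g x) (a : Ω)
    (ha : a ∈ s) (had : a ≠ d) :
    g • a ∈ s ∧ g • a ≠ d ∧ g • a ≠ a ∧ g • (g • (g • a)) = a ∧ g • (g • a) ≠ a := by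
  obtain ⟨hd, h1, h3, hp, hgd, hgx, hxs⟩ := hw
  have hxd : x ≠ d := fun h => hxs (h ▸ hd)
  have hxa : x ≠ a := fun h => hxs (h ▸ ha)
  have e1 : g • a ≠ a := fun h => no_three_fixed S g h1 h3 (Ne.symm hxd) (Ne.symm had) hxa hgd hgx h
  have e2 : g • (g • (g • a)) = a := by
    have := congrArg (fun k : G => k • a) h3
    simp only [mul_smul, one_smul] at this
    exact this
  refine ⟨hp a ha, ?_, e1, e2, ?_⟩
  · intro h
    rw [← hgd] at h
    exact had (MulAction.injective g h)
  · intro h
    rw [h] at e2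
    exact e1 e2

theorem same_d (S : Sharp G Ω) {s : Finset Ω} (hs : s.card = 4) {d : Ω} {g g' : G} {x x' : Ω}
    (hw : Wit s d g x) (hw' : Wit s d g' x') : x = x' := by
  have hd := hw.1
  have h3 : (s.erase d).card = 3 := by rw [Finset.card_erase_of_mem hd, hs]
  have hne : (s.erase d).Nonempty := by rw [← Finset.card_pos, h3]; norm_num
  obtain ⟨a, ha⟩ := hne
  rw [Finset.mem_erase] at ha
  obtain ⟨had, has⟩ := ha
  obtain ⟨hb1, hb2, hb3, hb4, hb5⟩ := cyc S hw a has had
  obtain ⟨hc1, hc2, hc3, hc4, hc5⟩ := cyc S hw (g • a) hb1 hb2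
  -- a, b = g a, c = g b, d are the four points of s
  have hsub : ({a, g • a, g • (g • a), d} : Finset Ω) ⊆ s := by
    intro z hz
    simp only [Finset.mem_insert, Finset.mem_singleton] at hz
    rcases hz with rfl | rfl | rfl | rfl
    · exact has
    · exact hb1
    · exact hc1
    · exact hd
  have hcard : ({a, g • a, g • (g • a), d} : Finset Ω).card = 4 := by
    rw [Finset.card_insert_of_notMem, Finset.card_insert_of_notMem, Finset.card_pair hc2]
    · simp only [Finset.mem_insert, Finset.mem_singleton, not_or]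
      exact ⟨Ne.symm hc3, hb2⟩
    · simp only [Finset.mem_insert, Finset.mem_singleton, not_or]
      exact ⟨Ne.symm hb3, Ne.symm hb5, had⟩
  have heq : ({a, g • a, g • (g • a), d} : Finset Ω) = s :=
    Finset.eq_of_subset_of_card_le hsub (by rw [hcard, hs])
  have hmem : ∀ z ∈ s, z = a ∨ z = g • a ∨ z = g • (g • a) ∨ z = d := by
    intro z hz
    rw [← heq] at hz
    simpa only [Finset.mem_insert, Finset.mem_singleton] using hz
  obtain ⟨hb1', hb2', hb3', hb4', hb5'⟩ := cyc S hw' a has had
  obtain ⟨hc1', hc2', hc3', hc4', hc5'⟩ := cyc S hw' (g' • a) hb1' hb2'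
  obtain ⟨-, h1, hg3, hp, hgd, hgx, hxs⟩ := hw
  obtain ⟨-, h1', hg3', hp', hgd', hgx', hxs'⟩ := hw'
  have hfix : g • x' = x' := by
    rcases hmem (g' • a) hb1' with h | h | h | h
    · exact absurd h hb3'
    · -- g' a = g a
      rcases hmem (g' • (g' • a)) hc1' with k | k | k | k
      · exact absurd k hb5'
      · exact absurd (k.trans h.symm) hc3'
      · have hgg : g' = g := by
          apply S.uniq a (g • a) (g • (g • a)) d (Ne.symm hb3) (Ne.symm hb5) had (Ne.symm hc3)
            hb2 hc2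
          · exact h
          · rw [← h, k, h]
          · rw [hb4, ← k, hb4']
          · rw [hgd, hgd']
        rw [← hgg]; exact hgx'
      · exact absurd k hc2'
    · -- g' a = g (g a)
      rcases hmem (g' • (g' • a)) hc1' with k | k | k | k
      · exact absurd k hb5'
      · have hgg : g' = g⁻¹ := by
          apply S.uniq a (g • a) (g • (g • a)) d (Ne.symm hb3) (Ne.symm hb5) had (Ne.symm hc3)
            hb2 hc2
          · rw [h, eq_inv_smul_iff, hb4]
          · rw [inv_smul_smul, ← k, hb4']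
          · rw [inv_smul_smul, ← h, k]
          · rw [hgd', eq_inv_smul_iff, hgd]
        rw [hgg, inv_smul_eq_iff] at hgx'
        exact hgx'.symm
      · exact absurd (k.trans h.symm) hc3'
      · exact absurd k hc2'
    · exact absurd h hb2'
  by_contra hne'
  have hxd : x ≠ d := fun h => hxs (h ▸ hd)
  have hxd' : x' ≠ d := fun h => hxs' (h ▸ hd)
  exact no_three_fixed S g h1 hg3 (Ne.symm hxd) (Ne.symm hxd') hne' hgd hgx hfix

theorem uniq_wit (S : Sharp G Ω) {s : Finset Ω} (hs : s.card = 4) {d d' : Ω} {g g' : G}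
    {x x' : Ω} (hw : Wit s d g x) (hw' : Wit s d' g' x') : x = x' := by
  by_cases hdd : d = d'
  · subst hdd
    exact same_d S hs hw hw'
  · have hd := hw.1
    have hd' := hw'.1
    have h2 : ((s.erase d).erase d').card = 2 := by
      rw [Finset.card_erase_of_mem (Finset.mem_erase.2 ⟨Ne.symm hdd, hd'⟩),
        Finset.card_erase_of_mem hd, hs]
    obtain ⟨a, b, hab, habeq⟩ := Finset.card_eq_two.1 h2
    have ha : a ∈ (s.erase d).erase d' := by rw [habeq]; simp
    have hb : b ∈ (s.erase d).erase d' := by rw [habeq]; simp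
    rw [Finset.mem_erase, Finset.mem_erase] at ha hb
    obtain ⟨τ, hτa, hτb, hτd, hτd'⟩ := S.ex a b d d' b a d d' hab ha.2.1 ha.1 hb.2.1 hb.1 hdd
      (Ne.symm hab) hb.2.1 hb.1 ha.2.1 ha.1 hdd
    have hτ1 : τ ≠ 1 := by
      intro h
      rw [h, one_smul] at hτa
      exact hab hτa
    have hτ2 : τ * τ = 1 := by
      apply S.uniq a b d d' hab ha.2.1 ha.1 hb.2.1 hb.1 hdd
      · rw [mul_smul, hτa, hτb, one_smul]
      · rw [mul_smul, hτb, hτa, one_smul]
      · rw [mul_smul, hτd, hτd, one_smul]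
      · rw [mul_smul, hτd', hτd', one_smul]
    have hτinv : τ⁻¹ = τ := inv_eq_of_mul_eq_one_left hτ2
    have hτs : ∀ z ∈ s, τ • z ∈ s := by
      intro z hz
      by_cases hzd : z = d
      · rw [hzd, hτd]; exact hd
      · by_cases hzd' : z = d'
        · rw [hzd', hτd']; exact hd'
        · have : z ∈ (s.erase d).erase d' :=
            Finset.mem_erase.2 ⟨hzd', Finset.mem_erase.2 ⟨hzd, hz⟩⟩
          rw [habeq] at this
          simp only [Finset.mem_insert, Finset.mem_singleton] at this
          rcases this with rfl | rfl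
          · rw [hτa]; exact hb.2.2
          · rw [hτb]; exact ha.2.2
    have hτns : ∀ z : Ω, z ∉ s → τ • z ∉ s := by
      intro z hz hz'
      have := hτs _ hz'
      rw [← mul_smul, hτ2, one_smul] at this
      exact hz this
    -- τ fixes the fixed point outside `s` of any witness fixing a point fixed by τ
    have key : ∀ (e : Ω) (k : G) (y : Ω), τ • e = e → Wit s e k y → τ • y = y := by
      intro e k y hτe hk
      have hk2 : Wit s e (τ * k * τ⁻¹) (τ • y) := by
        obtain ⟨he, k1, k3, kp, kd, kx, kxs⟩ := hk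
        refine ⟨he, ?_, ?_, ?_, ?_, ?_, hτns y kxs⟩
        · intro h
          apply k1
          have : k = τ⁻¹ * (τ * k * τ⁻¹) * τ := by group
          rw [this, h]; group
        · have : τ * k * τ⁻¹ * (τ * k * τ⁻¹) * (τ * k * τ⁻¹) = τ * (k * k * k) * τ⁻¹ := by group
          rw [this, k3]; group
        · intro z hz
          rw [mul_smul, mul_smul, hτinv]
          exact hτs _ (kp _ (hτs z hz))
        · rw [mul_smul, mul_smul, hτinv, hτe, kd, hτe]
        · rw [mul_smul, mul_smul, inv_smul_smul, kx]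
      exact (same_d S hs hk hk2).symm
    have hτx := key d g x hτd hw
    have hτx' := key d' g' x' hτd' hw'
    by_contra hne
    have hxs := hw.2.2.2.2.2.2
    have hxs' := hw'.2.2.2.2.2.2
    apply hτ1
    apply S.uniq d d' x x' hdd (fun h => hxs (h ▸ hd)) (fun h => hxs' (h ▸ hd))
      (fun h => hxs (h ▸ hd')) (fun h => hxs' (h ▸ hd')) hne
    · rw [hτd, one_smul]
    · rw [hτd', one_smul]
    · rw [hτx, one_smul]
    · rw [hτx', one_smul]

theorem main : Third.{u} := by
  intro G _ Ω _ _ _ hcard H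
  have S : Sharp G Ω := sharp_of_hyp hcard H
  have hex : ∀ s : Finset Ω, s.card = 4 → ∃ x : Ω, ∃ (d : Ω) (g : G), Wit s d g x := by
    intro s hs
    have hne : s.Nonempty := by rw [← Finset.card_pos, hs]; norm_num
    obtain ⟨d, hd⟩ := hne
    obtain ⟨g, x, hw⟩ := exists_wit S s hs d hd
    exact ⟨x, d, g, hw⟩
  have hΩ : Nonempty Ω := by
    rw [← Fintype.card_pos_iff, hcard]; norm_num
  let e : Finset Ω → Ω := fun s =>
    if hs : s.card = 4 then Classical.choose (hex s hs) else Classical.choice hΩ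
  have he : ∀ s : Finset Ω, s.card = 4 → ∃ (d : Ω) (g : G), Wit s d g (e s) := by
    intro s hs
    have : e s = Classical.choose (hex s hs) := dif_pos hs
    rw [this]
    exact Classical.choose_spec (hex s hs)
  have hun : ∀ (s : Finset Ω) (hs : s.card = 4) (d : Ω) (g : G) (x : Ω), Wit s d g x →
      e s = x := by
    intro s hs d g x hw
    obtain ⟨d', g', hw'⟩ := he s hs
    exact uniq_wit S hs hw' hw
  refine ⟨e, ?_, ?_, ?_⟩
  · intro s hs
    obtain ⟨d, g, hw⟩ := he s hs
    exact hw.2.2.2.2.2.2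
  · intro s hs d hd
    obtain ⟨g, x, hw⟩ := exists_wit S s hs d hd
    have hx : e s = x := hun s hs d g x hw
    obtain ⟨-, h1, h3, hp, hgd, hgx, hxs⟩ := hw
    rw [hx]
    have hxe : x ∉ s.erase d := fun h => hxs (Finset.mem_of_mem_erase h)
    have hcard' : (insert x (s.erase d)).card = 4 := by
      rw [Finset.card_insert_of_notMem hxe, Finset.card_erase_of_mem hd, hs]
    apply hun (insert x (s.erase d)) hcard' x g d
    refine ⟨Finset.mem_insert_self _ _, h1, h3, ?_, hgx, hgd, ?_⟩
    · intro z hz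
      rw [Finset.mem_insert] at hz ⊢
      rcases hz with rfl | hz
      · left; exact hgx
      · right
        rw [Finset.mem_erase] at hz ⊢
        refine ⟨?_, hp z hz.2⟩
        intro h
        rw [← hgd] at h
        exact hz.1 (MulAction.injective g h)
    · intro h
      rw [Finset.mem_insert] at h
      rcases h with h | h
      · exact hxs (h ▸ hd)
      · exact (Finset.notMem_erase d s) h
  · intro g s hs
    obtain ⟨d, k, hw⟩ := he s hs
    obtain ⟨hd, k1, k3, kp, kd, kx, kxs⟩ := hw
    have hinj : Function.Injective (fun x : Ω => g • x) := MulAction.injective g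
    have hcard' : (s.image (fun x => g • x)).card = 4 := by
      rw [Finset.card_image_of_injective s hinj, hs]
    apply hun (s.image (fun x => g • x)) hcard' (g • d) (g * k * g⁻¹) (g • e s)
    refine ⟨Finset.mem_image_of_mem _ hd, ?_, ?_, ?_, ?_, ?_, ?_⟩
    · intro h
      apply k1
      have : k = g⁻¹ * (g * k * g⁻¹) * g := by group
      rw [this, h]; group
    · have : g * k * g⁻¹ * (g * k * g⁻¹) * (g * k * g⁻¹) = g * (k * k * k) * g⁻¹ := by group
      rw [this, k3]; group
    · intro z hz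
      rw [Finset.mem_image] at hz ⊢
      obtain ⟨w, hw, rfl⟩ := hz
      exact ⟨k • w, kp w hw, by rw [mul_smul, mul_smul, inv_smul_smul]⟩
    · rw [mul_smul, mul_smul, inv_smul_smul, kd]
    · rw [mul_smul, mul_smul, inv_smul_smul, kx]
    · intro h
      rw [Finset.mem_image] at h
      obtain ⟨w, hw, hwe⟩ := h
      exact kxs (hinj hwe ▸ hw)

end Cfsg.Agent.Lib.Helper52.MUTHIRD
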