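import Mathlib
import Cfsg.Agent.Lib.Helper7.ReeSolvStmt

/-!
# S2361 piece FITG
-/

set_option autoImplicit false

namespace Cfsg.Agent.Lib.Helper52.RSFITG

open Cfsg.Agent.Lib.Helper42.ReeSpStmt Cfsg.Agent.Lib.Helper7.ReeSolvStmt

universe u

theorem le_normalizer_map {G : Type u} [Group G] (L : Subgroup G) (M0 : Subgroup ↥L)
    (hn : M0.Normal) : L ≤ Subgroup.normalizer ((M0.map L.subtype : Subgroup G) : Set G) := by
  intro g hg
  rw [Subgroup.mem_normalizer_iff]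
  intro x
  constructor
  · rintro ⟨y, hy, rfl⟩
    exact ⟨⟨g, hg⟩ * y * ⟨g, hg⟩⁻¹, hn.conj_mem y hy ⟨g, hg⟩, rfl⟩
  · rintro ⟨y, hy, hyx⟩
    refine ⟨⟨g, hg⟩⁻¹ * y * ⟨g, hg⟩, ?_, ?_⟩
    · have := hn.conj_mem y hy ⟨g, hg⟩⁻¹
      simpa using this
    · have h1 : L.subtype (⟨g, hg⟩⁻¹ * y * ⟨g, hg⟩) = g⁻¹ * L.subtype y * g := rfl
      rw [h1, hyx]
      group

theorem main (h : Cfsg.Agent.Lib.Helper7.ReeSolvStmt.Fit2.{u}) :
    Cfsg.Agent.Lib.Helper7.ReeSolvStmt.FitG.{u} := by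
  intro G _ _ L hsolv hodd
  obtain ⟨F0, hF0n, hF0p, hF0c⟩ := h ↥L hsolv (by
    intro p hp hp2 M0 hM0n hM0p
    have hM : M0.map L.subtype = ⊥ := by
      apply hodd p hp hp2 (M0.map L.subtype)
      · rintro x ⟨y, -, rfl⟩
        exact y.2
      · exact le_normalizer_map L M0 hM0n
      · exact hM0p.map L.subtype
    exact (Subgroup.map_eq_bot_iff_of_injective M0 L.subtype_injective).1 hM)
  refine ⟨F0.map L.subtype, ?_, le_normalizer_map L F0 hF0n, hF0p.map _, ?_⟩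
  · rintro x ⟨y, -, rfl⟩
    exact y.2
  · intro x hx hcomm
    have hc : (⟨x, hx⟩ : ↥L) ∈ Subgroup.centralizer (F0 : Set ↥L) := by
      rw [Subgroup.mem_centralizer_iff]
      intro f0 hf0
      apply Subtype.ext
      exact (hcomm f0.1 ⟨f0, hf0, rfl⟩).symm
    exact ⟨⟨x, hx⟩, hF0c hc, rfl⟩

end Cfsg.Agent.Lib.Helper52.RSFITG
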