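import Mathlib
import Cfsg.Agent.Lib.Helper18.ReeOutStmt

set_option autoImplicit false

namespace Cfsg.Agent.Lib.Helper52.ReeOutRIGID

open Cfsg.Agent.Lib.Helper18.ReeOutStmt

universe u

theorem mem_smul_iff {G : Type u} [Group G] {p : ℕ} (g x : G) (R : Sylow p G) :
    x ∈ ((g • R : Sylow p G) : Subgroup G) ↔ g⁻¹ * x * g ∈ (R : Subgroup G) := by
  rw [Sylow.coe_subgroup_smul, Subgroup.mem_pointwise_smul_iff_inv_smul_mem]
  rw [MulAut.smul_def, ← map_inv, MulAut.conj_apply, inv_inv]

theorem main : RIGID.{u} := by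
  intro G _ _ p _ P Q hsimple hQP hReg α hα hfix
  classical
  rw [mem_A0] at hα
  -- α stabilizes every Sylow subgroup
  have hA : ∀ R : Sylow p G, ∀ x : G, α x ∈ (R : Subgroup G) ↔ x ∈ (R : Subgroup G) := by
    intro R x
    by_cases hR : R = P
    · rw [hR]; exact hα.1 x
    · obtain ⟨u, hu, huQ⟩ := hReg Q R hQP hR
      rw [← huQ, mem_smul_iff, mem_smul_iff]
      have h1 : u⁻¹ * α x * u = α (u⁻¹ * x * u) := by
        rw [map_mul, map_mul, map_inv, hfix u hu]
      rw [h1]
      exact hα.2 _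
  have hB : ∀ (g : G) (R : Sylow p G), (α g) • R = g • R := by
    intro g R
    apply Sylow.ext
    ext x
    rw [mem_smul_iff, mem_smul_iff]
    have h1 : (α g)⁻¹ * x * α g = α (g⁻¹ * α.symm x * g) := by
      rw [map_mul, map_mul, map_inv, MulEquiv.apply_symm_apply]
    rw [h1, hA R]
    have h2 := hA (g • R) (α.symm x)
    rw [MulEquiv.apply_symm_apply, mem_smul_iff, mem_smul_iff] at h2
    exact h2.symm
  set K : Subgroup G := (MulAction.toPermHom G (Sylow p G)).ker with hK
  have hmemK : ∀ g : G, g⁻¹ * α g ∈ K := by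
    intro g
    rw [hK, MonoidHom.mem_ker]
    ext R : 1
    rw [MulAction.toPermHom_apply, MulAction.toPerm_apply, Equiv.Perm.coe_one, id, mul_smul, hB,
      ← mul_smul, inv_mul_cancel, one_smul]
  have hKn : K.Normal := by rw [hK]; infer_instance
  rcases hKn.eq_bot_or_eq_top with h | h
  · ext g
    have h1 := hmemK g
    rw [h, Subgroup.mem_bot] at h1
    rw [MulAut.one_apply]
    have h2 : α g = g * (g⁻¹ * α g) := by group
    rw [h2, h1, mul_one]
  · exfalso
    obtain ⟨g, hg⟩ := MulAction.exists_smul_eq G P Q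
    have h1 : g ∈ K := by rw [h]; trivial
    rw [hK, MonoidHom.mem_ker] at h1
    have h2 := congrArg (fun σ : Equiv.Perm (Sylow p G) => σ P) h1
    simp only [MulAction.toPermHom_apply, MulAction.toPerm_apply, Equiv.Perm.coe_one, id] at h2
    exact hQP (hg.symm.trans h2)

end Cfsg.Agent.Lib.Helper52.ReeOutRIGID
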