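import Mathlib
import Cfsg.Agent.Lib.Helper85.SCStmt

set_option autoImplicit false

namespace Cfsg.Agent.Lib.Helper52.SCECEN1

open Cfsg Cfsg.FusionSystem Cfsg.Agent.Lib.Helper85.SCStmt

universe u

theorem main : ECen1.{u} := by
  intro Ω _ S _ p _ hS F T hT Y hYS hCY hInn
  classical
  have hTS : T ≤ S := hT.1
  have hTn : ∀ s ∈ S, ∀ t ∈ T, s * t * s⁻¹ ∈ T := by
    intro s hs t ht
    have h1 : conjHom T s ∈ F.Hom T := F.conj_mem hTS hs
    exact hT.2 T le_rfl _ h1 ⟨t, ht⟩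
  set D : Subgroup Ω := centralizerIn T (Y ⊓ T) with hD
  have hDT : D ≤ T := inf_le_left
  have hDc : ∀ d ∈ D, ∀ y ∈ Y, y ∈ T → d * y = y * d := by
    intro d hd y hy hyT
    have h := Subgroup.mem_centralizer_iff.mp hd.2 y ⟨hy, hyT⟩
    exact h.symm
  have step2 : ∀ c ∈ D, c ∈ Subgroup.normalizer (Y : Set Ω) → c ∈ Y := by
    intro c hc hcN
    have hcS : c ∈ S := hTS (hDT hc)
    set β : MulAut Y := Subgroup.normalizerMonoidHom Y ⟨c, hcN⟩ with hβ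
    have hβapp : ∀ y : Y, ((β y : Y) : Ω) = c * y * c⁻¹ := fun y => rfl
    have hβmem : β ∈ F.autGroup Y := by
      apply Cfsg.Agent.H85.autInducedBy_le_autGroup F hYS
      rw [Cfsg.Agent.H85.mem_autInducedBy_iff]
      exact ⟨c, hcS, hβapp⟩
    have hstab : Stab T Y β := by
      refine ⟨fun y hy => ?_, fun y => ?_⟩
      · apply Subtype.ext
        rw [hβapp, hDc c hc y y.2 hy]
        group
      · rw [hβapp]
        have h1 : (y : Ω)⁻¹ * c * ((y : Ω)⁻¹)⁻¹ ∈ T :=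
          hTn _ (S.inv_mem (hYS y.2)) c (hDT hc)
        have h2 : (y : Ω)⁻¹ * (c * y * c⁻¹) = ((y : Ω)⁻¹ * c * ((y : Ω)⁻¹)⁻¹) * c⁻¹ := by group
        rw [h2]
        exact T.mul_mem h1 (T.inv_mem (hDT hc))
    obtain ⟨y₀, hy₀⟩ := hInn β hβmem hstab
    have h3 : (y₀ : Ω)⁻¹ * c ∈ centralizerIn S Y := by
      refine Subgroup.mem_inf.mpr ⟨S.mul_mem (S.inv_mem (hYS y₀.2)) hcS, ?_⟩
      rw [Subgroup.mem_centralizer_iff]
      intro y hy
      have h4 := congrArg (Subtype.val) (hy₀ ⟨y, hy⟩)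
      have h5 : c * y * c⁻¹ = (y₀ : Ω) * y * (y₀ : Ω)⁻¹ := h4
      have h6 : c * y = (y₀ : Ω) * y * (y₀ : Ω)⁻¹ * c := by rw [← h5]; group
      calc y * ((y₀ : Ω)⁻¹ * c) = (y₀ : Ω)⁻¹ * ((y₀ : Ω) * y * (y₀ : Ω)⁻¹ * c) := by group
        _ = (y₀ : Ω)⁻¹ * (c * y) := by rw [h6]
        _ = (y₀ : Ω)⁻¹ * c * y := by group
    have h7 := hCY h3
    have h8 : c = (y₀ : Ω) * ((y₀ : Ω)⁻¹ * c) := by group
    rw [h8]
    exact Y.mul_mem y₀.2 h7
  have hYD : ∀ y ∈ Y, ∀ d ∈ D, y * d * y⁻¹ ∈ D := by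
    intro y hy d hd
    refine Subgroup.mem_inf.mpr ⟨hTn y (hYS hy) d (hDT hd), ?_⟩
    rw [Subgroup.mem_centralizer_iff]
    intro x hx
    have hx' : y⁻¹ * x * y ∈ Y ⊓ T := by
      refine ⟨Y.mul_mem (Y.mul_mem (Y.inv_mem hy) hx.1) hy, ?_⟩
      have h := hTn y⁻¹ (S.inv_mem (hYS hy)) x hx.2
      simpa using h
    have h1 := hDc d hd _ hx'.1 hx'.2
    calc x * (y * d * y⁻¹) = y * ((y⁻¹ * x * y) * d) * y⁻¹ := by group
      _ = y * (d * (y⁻¹ * x * y)) * y⁻¹ := by rw [h1]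
      _ = y * d * y⁻¹ * x := by group
  have hDY : D ≤ Y := by
    by_contra hcon
    have hdec : ∀ x ∈ Y ⊔ D, ∃ y ∈ Y, ∃ d ∈ D, x = y * d := by
      intro x hx
      have hx' : x ∈ Subgroup.closure ((Y : Set Ω) ∪ (D : Set Ω)) := by
        rw [Subgroup.closure_union, Subgroup.closure_eq, Subgroup.closure_eq]
        exact hx
      clear hx
      induction hx' using Subgroup.closure_induction with
      | mem x hx =>
        rcases hx with h | h
        · exact ⟨x, h, 1, D.one_mem, by simp⟩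
        · exact ⟨1, Y.one_mem, x, h, by simp⟩
      | one => exact ⟨1, Y.one_mem, 1, D.one_mem, by simp⟩
      | mul a b ha' hb' ha hb =>
        obtain ⟨y1, hy1, d1, hd1, rfl⟩ := ha
        obtain ⟨y2, hy2, d2, hd2, rfl⟩ := hb
        refine ⟨y1 * y2, Y.mul_mem hy1 hy2, (y2⁻¹ * d1 * (y2⁻¹)⁻¹) * d2,
          D.mul_mem (hYD _ (Y.inv_mem hy2) d1 hd1) hd2, by group⟩
      | inv a ha' ha =>
        obtain ⟨y1, hy1, d1, hd1, rfl⟩ := ha
        refine ⟨y1⁻¹, Y.inv_mem hy1, y1 * d1⁻¹ * y1⁻¹, hYD _ hy1 _ (D.inv_mem hd1), by group⟩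
    have hsupS : Y ⊔ D ≤ S := sup_le hYS (hDT.trans hTS)
    have : Finite ↥(Y ⊔ D) :=
      Finite.of_injective (Subgroup.inclusion hsupS) (Subgroup.inclusion_injective hsupS)
    have hPG : IsPGroup p ↥(Y ⊔ D) := hS.to_le hsupS
    have : Group.IsNilpotent ↥(Y ⊔ D) := hPG.isNilpotent
    have hNC := Group.normalizerCondition_of_isNilpotent (G := ↥(Y ⊔ D))
    have hlt : Y.subgroupOf (Y ⊔ D) < ⊤ := by
      rw [lt_top_iff_ne_top]
      intro h
      apply hcon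
      intro d hd
      have h1 : (⟨d, (le_sup_right : D ≤ Y ⊔ D) hd⟩ : ↥(Y ⊔ D)) ∈ Y.subgroupOf (Y ⊔ D) := by
        rw [h]; trivial
      exact Subgroup.mem_subgroupOf.mp h1
    have h2 := hNC _ hlt
    obtain ⟨n, hnN, hnY⟩ := SetLike.exists_of_lt h2
    have hnN' : (n : Ω) ∈ Subgroup.normalizer (Y : Set Ω) := by
      rw [Subgroup.mem_normalizer_iff]
      intro y
      rw [Subgroup.mem_normalizer_iff] at hnN
      constructor
      · intro hy
        have h3 := (hnN ⟨y, (le_sup_left : Y ≤ Y ⊔ D) hy⟩).mp (Subgroup.mem_subgroupOf.mpr hy)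
        exact Subgroup.mem_subgroupOf.mp h3
      · intro hy
        have hy' : y ∈ Y ⊔ D := by
          have h3 : (n : Ω) * y * (n : Ω)⁻¹ ∈ Y ⊔ D := (le_sup_left : Y ≤ Y ⊔ D) hy
          have h4 : y = (n : Ω)⁻¹ * ((n : Ω) * y * (n : Ω)⁻¹) * (n : Ω) := by group
          rw [h4]
          exact (Y ⊔ D).mul_mem ((Y ⊔ D).mul_mem ((Y ⊔ D).inv_mem n.2) h3) n.2
        have h5 := (hnN ⟨y, hy'⟩).mpr (Subgroup.mem_subgroupOf.mpr hy)
        exact Subgroup.mem_subgroupOf.mp h5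
    obtain ⟨y, hy, d, hd, hnyd⟩ := hdec n n.2
    have hdN : d ∈ Subgroup.normalizer (Y : Set Ω) := by
      have h5 : d = y⁻¹ * (n : Ω) := by rw [hnyd]; group
      rw [h5]
      exact (Subgroup.normalizer (Y : Set Ω)).mul_mem
        ((Subgroup.normalizer (Y : Set Ω)).inv_mem (Subgroup.le_normalizer hy)) hnN'
    have hdY := step2 d hd hdN
    apply hnY
    rw [Subgroup.mem_subgroupOf, hnyd]
    exact Y.mul_mem hy hdY
  exact le_inf hDY hDT

end Cfsg.Agent.Lib.Helper52.SCECEN1
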