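import Mathlib
import Cfsg.Agent.Lib.Helper85.SCStmt

set_option autoImplicit false

namespace Cfsg.Agent.Lib.Helper52.SCSTABTR

open Cfsg Cfsg.FusionSystem Cfsg.Agent.Lib.Helper85.SCStmt

universe u

theorem main : StabTr.{u} := by
  intro Ω _ S F T hT Y hY χ hχ
  intro β' hβ' hst
  have hYS : Y ≤ S := (F.le_of_mem hχ).1
  have hY'S : χ.range ≤ S := by
    rintro _ ⟨x, rfl⟩
    exact (F.le_of_mem hχ).2 x
  have hinj := F.injective_of_mem hχ
  set e : Y ≃* χ.range := MonoidHom.ofInjective hinj with he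
  have he_coe : ∀ y : Y, ((e y : χ.range) : Ω) = χ y := fun y => rfl
  have hfw : ∀ y : Y, (y : Ω) ∈ T → χ y ∈ T := by
    intro y hy
    have h1 := Cfsg.Agent.H85.restrict_mem F hχ (inf_le_left : Y ⊓ T ≤ Y)
    exact hT.2 (Y ⊓ T) inf_le_right _ h1 ⟨y, ⟨y.2, hy⟩⟩
  obtain ⟨ψ, hψ, hψx⟩ := F.inv_mem hχ
  have hbw : ∀ y : Y, χ y ∈ T → (y : Ω) ∈ T := by
    intro y hy
    have h1 := Cfsg.Agent.H85.restrict_mem F hψ (inf_le_left : χ.range ⊓ T ≤ χ.range)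
    have h2 := hT.2 (χ.range ⊓ T) inf_le_right _ h1 ⟨χ y, ⟨⟨y, rfl⟩, hy⟩⟩
    have h3 : (ψ.comp (Subgroup.inclusion (inf_le_left : χ.range ⊓ T ≤ χ.range)))
        ⟨χ y, ⟨⟨y, rfl⟩, hy⟩⟩ = (y : Ω) := hψx y
    rw [h3] at h2
    exact h2
  set β : MulAut Y := e.trans (β'.trans e.symm) with hβ
  have hβapp : ∀ y : Y, β y = e.symm (β' (e y)) := fun y => rfl
  have heβ : ∀ y : Y, e (β y) = β' (e y) := by
    intro y
    rw [hβapp, MulEquiv.apply_symm_apply]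
  have hβmem : β ∈ F.autGroup Y := by
    rw [Cfsg.Agent.H85.mem_autGroup_iff F hYS]
    have h1 : χ.range.subtype.comp β'.toMonoidHom ∈ F.Hom χ.range :=
      (Cfsg.Agent.H85.mem_autGroup_iff F hY'S β').mp hβ'
    have h2 := F.comp_mem hχ h1 (fun x => ⟨x, rfl⟩)
    have h3 := F.comp_mem h2 hψ (fun x => (β' ⟨χ x, ⟨x, rfl⟩⟩).2)
    refine Cfsg.Agent.H85.hom_congr F h3 (fun y => ?_)
    have h4 := hψx (β y)
    have h5 : (⟨χ (β y), ⟨β y, rfl⟩⟩ : χ.range) = β' ⟨χ y, ⟨y, rfl⟩⟩ := heβ y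
    rw [h5] at h4
    exact h4.symm
  have hstab : Stab T Y β := by
    refine ⟨fun y hy => ?_, fun y => ?_⟩
    · have h1 : β' (e y) = e y := hst.1 (e y) (by rw [he_coe]; exact hfw y hy)
      rw [hβapp, h1, MulEquiv.symm_apply_apply]
    · have h1 := hst.2 (e y)
      rw [← heβ y, he_coe, he_coe] at h1
      have h2 : χ (y⁻¹ * β y) ∈ T := by
        rw [map_mul, map_inv]
        exact h1
      have h3 := hbw _ h2
      simpa using h3
  obtain ⟨y₀, hy₀⟩ := hY β hβmem hstab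
  refine ⟨e y₀, fun y' => ?_⟩
  have h1 := heβ (e.symm y')
  rw [MulEquiv.apply_symm_apply] at h1
  rw [← h1, hy₀ (e.symm y'), map_mul, map_mul, map_inv, MulEquiv.apply_symm_apply]

end Cfsg.Agent.Lib.Helper52.SCSTABTR
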