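import Mathlib
import Cfsg.Agent.Lib.Helper37.SpTStmt
import Cfsg.Agent.Lib.Helper52.SpTCommon

/-!
# S5980 piece CNEG: `a = 2`, a symplectic matrix with square `-1` is conjugate to `A ⊗ₖ 1`
-/

set_option autoImplicit false

namespace Cfsg.Agent.Lib.Helper52.SpTCNEG

open Matrix
open scoped Kronecker
open Cfsg.Agent.Lib.Helper37.SpTStmt Cfsg.Agent.Lib.Helper52.SpTCommon

universe u

theorem mul_kron_one_apply {F : Type u} [Field F] {b : ℕ}
    (H : Matrix (Fin 2 × Fin b) (Fin 2 × Fin b) F) (A : Matrix (Fin 2) (Fin 2) F)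
    (i : Fin 2 × Fin b) (s : Fin 2) (j : Fin b) :
    (H * (A ⊗ₖ (1 : Matrix (Fin b) (Fin b) F))) i (s, j) = ∑ t, H i (t, j) * A t s := by
  rw [Matrix.mul_apply, Fintype.sum_prod_type]
  refine Finset.sum_congr rfl fun t _ => ?_
  rw [Finset.sum_eq_single j]
  · simp [Matrix.kroneckerMap_apply]
  · intro k _ hk
    simp [Matrix.kroneckerMap_apply, hk]
  · intro h
    exact absurd (Finset.mem_univ j) h

theorem main : NegB.{u} → DiagG.{u} → CNeg.{u} := by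
  intro hNeg hDiag F _ _ h2 b G₁ G₂ hG₁ hG₁d hG₂ hG₂d Y hY hYY
  classical
  obtain ⟨h00, h11, h10, h01⟩ := skew2 h2 G₁ hG₁ hG₁d
  obtain ⟨C, c, hC, hc, hCG⟩ := hDiag F h2 b G₂ hG₂ hG₂d
  have hMd := kron_det G₁ G₂ hG₁d hG₂d
  have halt := alt_of_skew h2 (G₁ ⊗ₖ G₂) (kron_skew G₁ G₂ hG₁ hG₂)
  have hnd : (Matrix.toBilin' (G₁ ⊗ₖ G₂)).Nondegenerate :=
    LinearMap.BilinForm.nondegenerate_toBilin'_iff_det_ne_zero.mpr hMd
  have hfin : Module.finrank F (Fin 2 × Fin b → F) = 2 * b := by simp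
  have hiso := isometry_of_eq _ Y hY
  have hxx : ∀ w : Fin 2 × Fin b → F, Matrix.toLin' Y (Matrix.toLin' Y w) = -w := by
    intro w
    rw [← Matrix.toLin'_mul_apply, hYY]
    simp
  obtain ⟨u, hγ, huu, hne⟩ := hNeg F h2 (Fin 2 × Fin b → F)
    (Matrix.toBilin' (G₁ ⊗ₖ G₂)) halt hnd (Matrix.toLin' Y) hiso hxx b hfin
    (fun j => G₁ 0 1 * c j) (fun j => mul_ne_zero h01 (hc j))
  have hux : ∀ j k, Matrix.toBilin' (G₁ ⊗ₖ G₂) (u j) (Matrix.toLin' Y (u k)) =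
      if j = k then G₁ 0 1 * c j else 0 := by
    intro j k
    by_cases hjk : j = k
    · subst hjk
      rw [if_pos rfl]
      exact hγ j
    · rw [if_neg hjk]
      exact hne j k hjk
  -- the columns
  obtain ⟨w, hw0, hw1⟩ : ∃ w : Fin 2 × Fin b → (Fin 2 × Fin b → F),
      (∀ j, w (0, j) = u j) ∧ (∀ j, w (1, j) = Matrix.toLin' Y (u j)) :=
    ⟨fun q => if q.1 = 0 then u q.2 else Matrix.toLin' Y (u q.2), fun j => rfl, fun j => rfl⟩
  obtain ⟨h', hcol⟩ : ∃ h' : Matrix (Fin 2 × Fin b) (Fin 2 × Fin b) F,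
      ∀ q, (fun i => h' i q) = w q := ⟨Matrix.of (fun i q => w q i), fun q => rfl⟩
  have hh' : h'ᵀ * (G₁ ⊗ₖ G₂) * h' = G₁ ⊗ₖ Matrix.diagonal c := by
    ext ⟨s, j⟩ ⟨t, k⟩
    rw [Cfsg.Agent.Lib.Helper52.SpTCommon.gram_apply, hcol, hcol, Matrix.kroneckerMap_apply,
      Matrix.diagonal_apply]
    fin_cases s <;> fin_cases t
    · change Matrix.toBilin' (G₁ ⊗ₖ G₂) (w (0, j)) (w (0, k)) = G₁ 0 0 * _
      rw [hw0, hw0, huu, h00, zero_mul]
    · change Matrix.toBilin' (G₁ ⊗ₖ G₂) (w (0, j)) (w (1, k)) = G₁ 0 1 * _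
      rw [hw0, hw1, hux]
      by_cases hjk : j = k
      · simp [hjk]
      · simp [hjk]
    · change Matrix.toBilin' (G₁ ⊗ₖ G₂) (w (1, j)) (w (0, k)) = G₁ 1 0 * _
      rw [hw1, hw0, ← halt.neg_eq (u k) (Matrix.toLin' Y (u j)), hux, h10]
      by_cases hjk : j = k
      · subst hjk
        simp
      · simp [hjk, Ne.symm hjk]
    · change Matrix.toBilin' (G₁ ⊗ₖ G₂) (w (1, j)) (w (1, k)) = G₁ 1 1 * _
      rw [hw1, hw1, hiso, huu, h11, zero_mul]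
  have hYh : Y * h' = h' * (!![0, -1; 1, 0] ⊗ₖ (1 : Matrix (Fin b) (Fin b) F)) := by
    ext i ⟨s, j⟩
    rw [mul_kron_one_apply, Fin.sum_univ_two]
    have e : (Y * h') i (s, j) = (Matrix.toLin' Y (w (s, j))) i := by
      rw [Matrix.toLin'_apply, Matrix.mul_apply, ← hcol]
      rfl
    have e0 : h' i (0, j) = w (0, j) i := congrFun (hcol (0, j)) i
    have e1 : h' i (1, j) = w (1, j) i := congrFun (hcol (1, j)) i
    rw [e, e0, e1, hw0, hw1]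
    fin_cases s
    · change (Matrix.toLin' Y (w (0, j))) i = _
      rw [hw0]
      simp
    · change (Matrix.toLin' Y (w (1, j))) i = _
      rw [hw1, hxx]
      simp
  obtain ⟨hdet, hkey⟩ := finish G₁ G₂ C c hG₁d hG₂d hC hCG h' hh'
  refine ⟨h' * ((1 : Matrix (Fin 2) (Fin 2) F) ⊗ₖ C⁻¹), !![0, -1; 1, 0], hdet, hkey, ?_, ?_⟩
  · rw [Matrix.det_fin_two_of]
    norm_num
  · rw [← Matrix.mul_assoc, hYh, Matrix.mul_assoc, Matrix.mul_assoc, ← Matrix.mul_kronecker_mul,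
      ← Matrix.mul_kronecker_mul, Matrix.one_mul, Matrix.mul_one, Matrix.one_mul, Matrix.mul_one]

end Cfsg.Agent.Lib.Helper52.SpTCNEG
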