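import Mathlib
import Cfsg.Agent.Lib.Helper26.T64Stmt

/-!
# S3157: commutator calculus when squares are central (helper52)
-/

set_option autoImplicit false

namespace Cfsg.Agent.Lib.Helper52.T64Basics

open Cfsg.Agent.Lib.Helper26.T64Stmt

universe u

variable {T : Type u} [Group T]

theorem comm_mem_center (hS : SqCentral T) (s t : T) :
    s * t * s⁻¹ * t⁻¹ ∈ Subgroup.center T := by
  have hq : (s * s)⁻¹ ∈ Subgroup.center T := Subgroup.inv_mem _ (hS s)
  have hq' := Subgroup.mem_center_iff.1 hq t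
  have e : s * t * s⁻¹ * t⁻¹ = (s * t) * (s * t) * (s * s)⁻¹ * (t * t)⁻¹ := by
    calc s * t * s⁻¹ * t⁻¹ = s * t * s * ((s * s)⁻¹ * t) * t⁻¹ * t⁻¹ := by group
      _ = s * t * s * (t * (s * s)⁻¹) * t⁻¹ * t⁻¹ := by rw [hq']
      _ = (s * t) * (s * t) * (s * s)⁻¹ * (t * t)⁻¹ := by group
  rw [e]
  exact Subgroup.mul_mem _ (Subgroup.mul_mem _ (hS (s * t)) hq) (Subgroup.inv_mem _ (hS t))

theorem mul_eq_comm_mul (s t : T) : s * t = (s * t * s⁻¹ * t⁻¹) * (t * s) := by group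

/-- `(u v)² = u² v² [v, u]`. -/
theorem sq_mul (hS : SqCentral T) (u v : T) :
    (u * v) * (u * v) = (u * u) * (v * v) * (v * u * v⁻¹ * u⁻¹) := by
  have hk := Subgroup.mem_center_iff.1 (comm_mem_center hS v u)
  calc (u * v) * (u * v) = u * (v * u) * v := by group
    _ = u * ((v * u * v⁻¹ * u⁻¹) * (u * v)) * v := by rw [← mul_eq_comm_mul]
    _ = (u * (v * u * v⁻¹ * u⁻¹)) * (u * v * v) := by group
    _ = ((v * u * v⁻¹ * u⁻¹) * u) * (u * v * v) := by rw [hk u]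
    _ = (v * u * v⁻¹ * u⁻¹) * (u * u * (v * v)) := by group
    _ = (u * u) * (v * v) * (v * u * v⁻¹ * u⁻¹) := by rw [hk (u * u * (v * v))]

theorem rho_center (ρ : MulAut T) {z : T} (hz : z ∈ Subgroup.center T) :
    ρ z ∈ Subgroup.center T := by
  rw [Subgroup.mem_center_iff]
  intro g
  have hz' := Subgroup.mem_center_iff.1 hz (ρ.symm g)
  calc g * ρ z = ρ (ρ.symm g) * ρ z := by rw [MulEquiv.apply_symm_apply]
    _ = ρ (ρ.symm g * z) := by rw [map_mul]
    _ = ρ (z * ρ.symm g) := by rw [hz']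
    _ = ρ z * g := by rw [map_mul, MulEquiv.apply_symm_apply]

theorem rho_cube (ρ : MulAut T) (hρ : orderOf ρ = 3) (y : T) : ρ (ρ (ρ y)) = y := by
  have h := pow_orderOf_eq_one ρ
  rw [hρ] at h
  have h2 := congrArg (fun f : MulAut T => f y) h
  simpa [pow_succ, MulAut.mul_apply] using h2

/-- commutators are symmetric -/
theorem comm_symm (hZ : ZExp T) (hS : SqCentral T) (s t : T) :
    t * s * t⁻¹ * s⁻¹ = s * t * s⁻¹ * t⁻¹ := by
  have h1 := hZ _ (comm_mem_center hS s t)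
  have h2 : (s * t * s⁻¹ * t⁻¹) * (t * s * t⁻¹ * s⁻¹) = 1 := by group
  calc t * s * t⁻¹ * s⁻¹ = (s * t * s⁻¹ * t⁻¹)⁻¹ := by
        rw [eq_inv_iff_mul_eq_one]
        exact mul_eq_one_comm.1 h2
    _ = s * t * s⁻¹ * t⁻¹ := by
        rw [inv_eq_iff_mul_eq_one]
        exact h1

end Cfsg.Agent.Lib.Helper52.T64Basics
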