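import Mathlib
import Cfsg.Agent.Lib.Helper26.T64Stmt

/-!
# S3157 piece CXNAB: the fixed points of `x` do not all commute
-/

set_option autoImplicit false

namespace Cfsg.Agent.Lib.Helper52.T64CXNAB

open Cfsg.Agent.Lib.Helper26.T64Stmt

universe u

theorem main : Cfsg.Agent.Lib.Helper26.T64Stmt.CXNAB.{u} := by
  intro T _ _ ρ x hcard hZcard hXZ hXF hC
  obtain ⟨z₀, w, hz₀Z, hwZ, hz₀1, hxz₀, hxw, hfix⟩ := hXZ
  by_contra hcon
  unfold XNab at hcon
  push Not at hcon
  have hfixed : ∀ c : T, x c = c → c = 1 ∨ c = z₀ := by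
    intro c hc
    apply hfix c _ hc
    rw [Subgroup.mem_center_iff]
    intro g
    obtain ⟨c', c'', hc', hc'', rfl⟩ := hXF g
    have h1 : c * c' = c' * c := hcon c c' hc hc'
    have h2 : c * ρ c'' = ρ c'' * c := by
      have h3 := hC c c''
      have h4 : c * c'' * c⁻¹ * c''⁻¹ = 1 := by
        rw [hcon c c'' hc hc'']
        group
      rw [h4, map_one, map_one] at h3
      calc c * ρ c'' = (c * ρ c'' * c⁻¹ * (ρ c'')⁻¹) * (ρ c'' * c) := by group
        _ = ρ c'' * c := by rw [h3, one_mul]
    calc c' * ρ c'' * c = c' * (ρ c'' * c) := by group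
      _ = c' * (c * ρ c'') := by rw [h2]
      _ = (c' * c) * ρ c'' := by group
      _ = (c * c') * ρ c'' := by rw [h1]
      _ = c * (c' * ρ c'') := by group
  have hsurj : Function.Surjective
      (fun p : Bool × Bool => (if p.1 then z₀ else 1) * ρ (if p.2 then z₀ else 1)) := by
    intro t
    obtain ⟨c, c', hc, hc', rfl⟩ := hXF t
    rcases hfixed c hc with h | h <;> rcases hfixed c' hc' with h' | h'
    · exact ⟨(false, false), by simp [h, h']⟩
    · exact ⟨(false, true), by simp [h, h']⟩
    · exact ⟨(true, false), by simp [h, h']⟩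
    · exact ⟨(true, true), by simp [h, h']⟩
  have hle := Nat.card_le_card_of_surjective _ hsurj
  have h4 : Nat.card (Bool × Bool) = 4 := by
    simp [Nat.card_eq_fintype_card]
  omega

end Cfsg.Agent.Lib.Helper52.T64CXNAB
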