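import Mathlib
import Cfsg.Agent.Lib.Helper26.T64Stmt
import Cfsg.Agent.Lib.Helper52.T64Basics

/-!
# S3157 piece INV: two non-commuting involutions
-/

set_option autoImplicit false

namespace Cfsg.Agent.Lib.Helper52.T64INV

open Cfsg.Agent.Lib.Helper26.T64Stmt
open Cfsg.Agent.Lib.Helper52.T64Basics

universe u

theorem main : Cfsg.Agent.Lib.Helper26.T64Stmt.INV.{u} := by
  intro T _ _ ρ x hρ hF hZ hS hC hXZ hNab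
  obtain ⟨z₀, w, hz₀Z, hwZ, hz₀1, hxz₀, hxw, hfix⟩ := hXZ
  obtain ⟨c₁, c₂, hc₁, hc₂, hne⟩ := hNab
  have hk : c₁ * c₂ * c₁⁻¹ * c₂⁻¹ = z₀ := by
    have h1 : x (c₁ * c₂ * c₁⁻¹ * c₂⁻¹) = c₁ * c₂ * c₁⁻¹ * c₂⁻¹ := by
      simp only [map_mul, map_inv, hc₁, hc₂]
    rcases hfix _ (comm_mem_center hS c₁ c₂) h1 with h | h
    · exfalso
      apply hne
      calc c₁ * c₂ = (c₁ * c₂ * c₁⁻¹ * c₂⁻¹) * (c₂ * c₁) := mul_eq_comm_mul c₁ c₂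
        _ = c₂ * c₁ := by rw [h, one_mul]
    · exact h
  have hk' : c₂ * c₁ * c₂⁻¹ * c₁⁻¹ = z₀ := by
    rw [comm_symm hZ hS c₁ c₂]
    exact hk
  have hsq1 : c₁ * c₁ = 1 ∨ c₁ * c₁ = z₀ := hfix _ (hS c₁) (by rw [map_mul, hc₁])
  have hsq2 : c₂ * c₂ = 1 ∨ c₂ * c₂ = z₀ := hfix _ (hS c₂) (by rw [map_mul, hc₂])
  have hz₀sq : z₀ * z₀ = 1 := hZ z₀ hz₀Z
  have hzc := Subgroup.mem_center_iff.1 hz₀Z
  rcases hsq1 with h1 | h1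
  · rcases hsq2 with h2 | h2
    · exact ⟨c₁, c₂, h1, h2, hne⟩
    · refine ⟨c₁, c₁ * c₂, h1, ?_, ?_⟩
      · rw [sq_mul hS, h1, h2, hk', one_mul, hz₀sq]
      · intro h
        apply hne
        have h' : c₁ * (c₁ * c₂) = c₁ * (c₂ * c₁) := by
          rw [h]
          group
        exact mul_left_cancel h'
  · rcases hsq2 with h2 | h2
    · refine ⟨c₂, c₂ * c₁, h2, ?_, ?_⟩
      · rw [sq_mul hS, h2, h1, hk, one_mul, hz₀sq]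
      · intro h
        apply hne
        have h' : c₂ * (c₂ * c₁) = c₂ * (c₁ * c₂) := by
          rw [h]
          group
        exact (mul_left_cancel h').symm
    · have hzr : ρ z₀ ∈ Subgroup.center T := rho_center ρ hz₀Z
      have hzrr : ρ (ρ z₀) ∈ Subgroup.center T := rho_center ρ hzr
      have hzrc := Subgroup.mem_center_iff.1 hzr
      have hzrrc := Subgroup.mem_center_iff.1 hzrr
      have hr1 : ρ c₁ * ρ c₁ = ρ z₀ := by rw [← map_mul, h1]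
      have hr2 : ρ (ρ c₁) * ρ (ρ c₁) = ρ (ρ z₀) := by rw [← map_mul, hr1]
      have hk1 : c₂ * ρ c₁ * c₂⁻¹ * (ρ c₁)⁻¹ = ρ (ρ z₀) := by rw [hC c₂ c₁, hk']
      have hk2 : c₂ * ρ (ρ c₁) * c₂⁻¹ * (ρ (ρ c₁))⁻¹ = ρ z₀ := by
        rw [hC c₂ (ρ c₁), hk1, rho_cube ρ hρ]
      have hfz : z₀ * ρ z₀ * ρ (ρ z₀) = 1 := (hF z₀).1
      have hrr : ρ c₁ * ρ (ρ c₁) = ρ (ρ c₁) * ρ c₁ := (hF (ρ c₁)).2
      refine ⟨ρ c₁ * c₂, ρ (ρ c₁) * c₂, ?_, ?_, ?_⟩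
      · rw [sq_mul hS, hr1, h2, hk1, hzc (ρ z₀)]
        exact hfz
      · rw [sq_mul hS, hr2, h2, hk2, hzc (ρ (ρ z₀)), mul_assoc, hzrc (ρ (ρ z₀)), ← mul_assoc]
        exact hfz
      · intro h
        have e1 : c₂ * ρ (ρ c₁) = ρ z₀ * (ρ (ρ c₁) * c₂) := by
          rw [← hk2]
          exact mul_eq_comm_mul _ _
        have e2 : c₂ * ρ c₁ = ρ (ρ z₀) * (ρ c₁ * c₂) := by
          rw [← hk1]
          exact mul_eq_comm_mul _ _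
        have hL : ρ c₁ * c₂ * (ρ (ρ c₁) * c₂) = ρ z₀ * (ρ c₁ * ρ (ρ c₁) * c₂ * c₂) := by
          calc ρ c₁ * c₂ * (ρ (ρ c₁) * c₂) = ρ c₁ * (c₂ * ρ (ρ c₁)) * c₂ := by group
            _ = ρ c₁ * (ρ z₀ * (ρ (ρ c₁) * c₂)) * c₂ := by rw [e1]
            _ = (ρ c₁ * ρ z₀) * (ρ (ρ c₁) * c₂ * c₂) := by group
            _ = (ρ z₀ * ρ c₁) * (ρ (ρ c₁) * c₂ * c₂) := by rw [hzrc (ρ c₁)]
            _ = ρ z₀ * (ρ c₁ * ρ (ρ c₁) * c₂ * c₂) := by group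
        have hR : ρ (ρ c₁) * c₂ * (ρ c₁ * c₂) = ρ (ρ z₀) * (ρ c₁ * ρ (ρ c₁) * c₂ * c₂) := by
          calc ρ (ρ c₁) * c₂ * (ρ c₁ * c₂) = ρ (ρ c₁) * (c₂ * ρ c₁) * c₂ := by group
            _ = ρ (ρ c₁) * (ρ (ρ z₀) * (ρ c₁ * c₂)) * c₂ := by rw [e2]
            _ = (ρ (ρ c₁) * ρ (ρ z₀)) * (ρ c₁ * c₂ * c₂) := by group
            _ = (ρ (ρ z₀) * ρ (ρ c₁)) * (ρ c₁ * c₂ * c₂) := by rw [hzrrc (ρ (ρ c₁))]
            _ = ρ (ρ z₀) * ((ρ (ρ c₁) * ρ c₁) * c₂ * c₂) := by group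
            _ = ρ (ρ z₀) * (ρ c₁ * ρ (ρ c₁) * c₂ * c₂) := by rw [hrr]
        rw [hL, hR] at h
        have h3 : ρ z₀ = ρ (ρ z₀) := mul_right_cancel h
        have h4 : z₀ = ρ z₀ := ρ.injective h3
        rw [← h4, ← h4, hz₀sq, one_mul] at hfz
        exact hz₀1 hfz

end Cfsg.Agent.Lib.Helper52.T64INV
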