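import Mathlib
import Cfsg.Agent.Lib.Helper56.TPStmt

set_option autoImplicit false

namespace Cfsg.Agent.Lib.Helper52.TPPPOW

open Cfsg.Agent.Lib.Helper56.TPStmt

universe u v

theorem main : PPow.{u, v} := by
  intro G Ω _ _ _ _ _ p _ P hP h2 horb
  classical
  have hΩpos : 0 < Nat.card Ω := by omega
  -- every orbit is everything
  have huniv : ∀ a : Ω, MulAction.orbit (↥P) a = Set.univ := by
    intro a
    rw [Set.eq_univ_iff_ncard, ← Nat.card_coe_set_eq]
    have h1 := horb a
    have h3 : Nat.card (MulAction.orbit (↥P) a) ≤ Nat.card Ω :=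
      Nat.card_le_card_of_injective _ Subtype.val_injective
    have h4 : 0 < Nat.card (MulAction.orbit (↥P) a) := by
      have : Nonempty (MulAction.orbit (↥P) a) := ⟨⟨a, MulAction.mem_orbit_self a⟩⟩
      exact Nat.card_pos
    exact le_antisymm h3 (Nat.le_of_dvd h4 h1)
  -- P is nontrivial
  have hne : Nontrivial (↥P) := by
    by_contra hcon
    rw [not_nontrivial_iff_subsingleton] at hcon
    have : Nonempty Ω := (Nat.card_pos_iff.mp hΩpos).1
    obtain ⟨a⟩ := ‹Nonempty Ω›
    have h1 : ∀ b : Ω, b = a := by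
      intro b
      have hb : b ∈ MulAction.orbit (↥P) a := by rw [huniv a]; trivial
      obtain ⟨x, hx⟩ := hb
      have hx1 : x = 1 := Subsingleton.elim _ _
      have hx2 : x • a = b := hx
      rw [hx1, one_smul] at hx2
      exact hx2.symm
    have h5 : Nat.card Ω ≤ 1 := by
      have : Subsingleton Ω := ⟨fun x y => (h1 x).trans (h1 y).symm⟩
      exact Finite.card_le_one_iff_subsingleton.mpr inferInstance
    omega
  haveI := hne
  haveI : Nontrivial (Subgroup.center (↥P)) := hP.center_nontrivial
  have hcard : p ∣ Nat.card (Subgroup.center (↥P)) := by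
    have hPc : IsPGroup p (Subgroup.center (↥P)) := hP.to_subgroup _
    obtain ⟨n, hn⟩ := IsPGroup.iff_card.mp hPc
    rw [hn]
    have hn0 : n ≠ 0 := by
      rintro rfl
      have h6 : Nat.card (Subgroup.center (↥P)) = 1 := by rw [hn, pow_zero]
      have h7 := Finite.one_lt_card (α := Subgroup.center (↥P))
      omega
    exact dvd_pow_self p hn0
  obtain ⟨z, hz⟩ := exists_prime_orderOf_dvd_card' p hcard
  refine ⟨((z : ↥P) : G), ?_, ?_⟩
  · rw [Subgroup.orderOf_coe, Subgroup.orderOf_coe]
    exact hz
  · intro ω hω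
    have hfix : ∀ a : Ω, ((z : ↥P) : G) • a = a := by
      intro a
      have ha : a ∈ MulAction.orbit (↥P) ω := by rw [huniv ω]; trivial
      obtain ⟨x, hx⟩ := ha
      have hx' : (x : G) • ω = a := hx
      rw [← hx', smul_smul]
      have hcomm : (x : ↥P) * (z : ↥P) = (z : ↥P) * x :=
        Subgroup.mem_center_iff.mp z.2 x
      have hcomm' : ((z : ↥P) : G) * (x : G) = (x : G) * ((z : ↥P) : G) := by
        have := congrArg (Subtype.val) hcomm
        simpa using this.symm
      rw [hcomm', ← smul_smul, hω]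
    have hz1 : ((z : ↥P) : G) = 1 := by
      apply FaithfulSMul.eq_of_smul_eq_smul (α := Ω)
      intro a
      rw [hfix a, one_smul]
    have hz2 : orderOf ((z : ↥P) : G) = p := by
      rw [Subgroup.orderOf_coe, Subgroup.orderOf_coe]
      exact hz
    rw [hz1, orderOf_one] at hz2
    exact (Fact.out : p.Prime).one_lt.ne hz2

end Cfsg.Agent.Lib.Helper52.TPPPOW
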