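import Mathlib
import Cfsg.Agent.Lib.Helper74.WinStmt

set_option autoImplicit false

namespace Cfsg.Agent.Lib.Helper52.WinPIND

open Cfsg.Agent.Lib.Helper74.WinStmt

universe u

theorem isPGroup_zpowers_iff {G : Type u} [Group G] (p : ℕ) (g : G) :
    IsPGroup p ↥(Subgroup.zpowers g) ↔ ∃ k : ℕ, g ^ (p ^ k) = 1 := by
  constructor
  · intro h
    obtain ⟨k, hk⟩ := h ⟨g, Subgroup.mem_zpowers g⟩
    refine ⟨k, ?_⟩
    have h1 := congrArg Subtype.val hk
    simpa using h1
  · rintro ⟨k, hk⟩ ⟨x, hx⟩
    obtain ⟨i, rfl⟩ := Subgroup.mem_zpowers_iff.mp hx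
    refine ⟨k, ?_⟩
    apply Subtype.ext
    show (g ^ i) ^ (p ^ k) = 1
    rw [← zpow_natCast, ← zpow_mul, mul_comm, zpow_mul, zpow_natCast, hk, one_zpow]

theorem main : PInd.{u} := by
  intro hA hB
  have key : ∀ n : ℕ, ∀ (G : Type u) [Group G] [Finite G], Nat.card G = n →
      Group.IsSolvable G → ∀ (p : ℕ), p.Prime → ∀ (T : Subgroup G) (y : G),
      IsPGroup p ↥(Subgroup.zpowers y) → y ∉ T.normalCore → Good01 p T.index := by
    intro n
    induction n using Nat.strong_induction_on with
    | _ n ih =>
      intro G _ _ hn hsol p hp T y hy hyT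
      classical
      have hTtop : T ≠ ⊤ := by
        rintro rfl
        apply hyT
        rw [Subgroup.normalCore_eq_self]
        trivial
      obtain ⟨M, hM, hTM⟩ := (eq_top_or_exists_le_coatom T).resolve_left hTtop
      by_cases hyM : y ∈ M.normalCore
      · obtain ⟨b, hb⟩ : ∃ b : G, b * y * b⁻¹ ∉ T := by
          by_contra hcon
          push Not at hcon
          exact hyT hcon
        have hy'M : b * y * b⁻¹ ∈ M :=
          Subgroup.normalCore_le M ((Subgroup.normalCore_normal M).conj_mem y hyM b)
        have hcard : Nat.card M < n := by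
          rw [← hn, ← Subgroup.card_mul_index M]
          have h1 : M.index ≠ 1 := fun h => hM.1 (Subgroup.index_eq_one.mp h)
          have h0 : M.index ≠ 0 := Subgroup.index_ne_zero_of_finite
          have hpos : 0 < Nat.card M := Nat.card_pos
          have h2 : 2 ≤ M.index := by omega
          nlinarith
        have := hsol
        have hsolM : Group.IsSolvable M := inferInstance
        obtain ⟨k, hk⟩ := (isPGroup_zpowers_iff p y).mp hy
        have hy'' : IsPGroup p ↥(Subgroup.zpowers (⟨b * y * b⁻¹, hy'M⟩ : M)) := by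
          rw [isPGroup_zpowers_iff]
          refine ⟨k, Subtype.ext ?_⟩
          show (b * y * b⁻¹) ^ (p ^ k) = 1
          rw [conj_pow, hk]
          group
        have hnot : (⟨b * y * b⁻¹, hy'M⟩ : M) ∉ (T.subgroupOf M).normalCore := by
          intro h
          have h1 := Subgroup.normalCore_le _ h
          exact hb (Subgroup.mem_subgroupOf.mp h1)
        obtain ⟨q, hq, hqd, hqc⟩ :=
          ih (Nat.card M) hcard M rfl hsolM p hp (T.subgroupOf M) _ hy'' hnot
        refine ⟨q, hq, ?_, hqc⟩
        have h1 : T.relIndex M * M.index = T.index := Subgroup.relIndex_mul_index hTM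
        exact hqd.trans (Dvd.intro _ h1)
      · obtain ⟨V, q, k, hq, hVn, hKV, hrel, hidx, hcent⟩ := hA G hsol M hM
        obtain ⟨q', hq', hq'd, hq'c⟩ := hB G p hp M.normalCore V q k hq
          (Subgroup.normalCore_normal M) hVn hKV hrel hcent y hy hyM
        refine ⟨q', hq', ?_, hq'c⟩
        rw [← hidx] at hq'd
        exact hq'd.trans (Subgroup.index_dvd_of_le hTM)
  intro G _ _ hsol p hp T y hy hyT
  exact key _ G rfl hsol p hp T y hy hyT

end Cfsg.Agent.Lib.Helper52.WinPIND
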