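import Mathlib
import Cfsg.Agent.Lib.Helper74.WinStmt
import Cfsg.Agent.Lib.Helper72.HallCount

set_option autoImplicit false

namespace Cfsg.Agent.Lib.Helper52.WinPRIMA

open Cfsg.Agent.Lib.Helper74.WinStmt

universe u

theorem le_normalizer_of_conj {G : Type u} [Group G] (A I : Subgroup G)
    (h : ∀ g ∈ A, ∀ n ∈ I, g * n * g⁻¹ ∈ I) : A ≤ Subgroup.normalizer (I : Set G) := by
  intro g hg
  rw [Subgroup.mem_normalizer_iff]
  intro n
  constructor
  · exact h g hg n
  · intro hn
    have h1 := h g⁻¹ (A.inv_mem hg) _ hn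
    have e : g⁻¹ * (g * n * g⁻¹) * g⁻¹⁻¹ = n := by group
    rwa [e] at h1

theorem main : PrimA.{u} := by
  intro G _ _ hsol M hM
  classical
  have := hsol
  set K : Subgroup G := M.normalCore with hK
  have hKn : K.Normal := Subgroup.normalCore_normal M
  have hKM : K ≤ M := Subgroup.normalCore_le M
  have hMtop : M ≠ ⊤ := hM.1
  have hKtop : K ≠ ⊤ := fun h => hMtop (top_le_iff.mp (h ▸ hKM))
  set π : G →* G ⧸ K := QuotientGroup.mk' K with hπ
  have hπs : Function.Surjective π := QuotientGroup.mk'_surjective K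
  have hπ1 : ∀ x : G, π x = 1 ↔ x ∈ K := fun x => QuotientGroup.eq_one_iff x
  have : Nontrivial (G ⧸ K) := by
    obtain ⟨g, -, hg⟩ := SetLike.exists_of_lt (lt_top_iff_ne_top.mpr hKtop)
    exact ⟨⟨π g, 1, fun h => hg ((hπ1 g).mp h)⟩⟩
  obtain ⟨q, Vb, hq, hVbn, hVbne, hVbq, hVbmin⟩ :=
    Cfsg.Agent.Lib.Helper72.HallCount.exists_minimal_normal (G := G ⧸ K)
  have := hVbn
  have : Fact q.Prime := ⟨hq⟩
  have hVbab : ∀ a ∈ Vb, ∀ b ∈ Vb, a * b = b * a := by
    have : Nontrivial Vb := (Subgroup.nontrivial_iff_ne_bot Vb).mpr hVbne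
    have : Nontrivial (Subgroup.center Vb) := hVbq.center_nontrivial
    set Z : Subgroup (G ⧸ K) := (Subgroup.center Vb).map Vb.subtype with hZ
    have hZn : Z.Normal := ConjAct.normal_of_characteristic_of_normal
    have hZle : Z ≤ Vb := Subgroup.map_subtype_le _
    have hZne : Z ≠ ⊥ := by
      intro h
      rw [hZ, Subgroup.map_eq_bot_iff_of_injective _ Vb.subtype_injective] at h
      exact (Subgroup.nontrivial_iff_ne_bot _).mp inferInstance h
    rcases hVbmin Z hZn hZle with h | h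
    · exact absurd h hZne
    · intro a ha b hb
      have ha' : a ∈ Z := by rw [h]; exact ha
      obtain ⟨z, hz, rfl⟩ := ha'
      have h1 := Subgroup.mem_center_iff.mp hz ⟨b, hb⟩
      have h2 := congrArg Subtype.val h1
      exact h2.symm
  set V : Subgroup G := Vb.comap π with hV
  have hVn : V.Normal := hVbn.comap π
  have hmemV : ∀ x : G, x ∈ V ↔ π x ∈ Vb := fun x => Iff.rfl
  have hKV : K ≤ V := by
    intro x hx
    rw [hmemV, (hπ1 x).mpr hx]
    exact Vb.one_mem
  have hcomm : ∀ v ∈ V, ∀ w ∈ V, v * w * v⁻¹ * w⁻¹ ∈ K := by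
    intro v hv w hw
    rw [← hπ1]
    rw [map_mul, map_mul, map_mul, map_inv, map_inv, hVbab _ hv _ hw]
    group
  have hVM : ¬ V ≤ M := by
    intro h
    have h1 : V ≤ K := (Subgroup.normal_le_normalCore (hN := hVn)).mpr h
    apply hVbne
    rw [eq_bot_iff]
    intro w hw
    obtain ⟨x, rfl⟩ := hπs w
    rw [Subgroup.mem_bot, hπ1]
    exact h1 hw
  have hsup : V ⊔ M = ⊤ := by
    apply hM.2
    refine lt_of_le_of_ne le_sup_right ?_
    intro h
    exact hVM (le_sup_left.trans h.symm.le)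
  have hI : V ⊓ M ≤ K := by
    have hIn : (V ⊓ M).Normal := by
      rw [← Subgroup.normalizer_eq_top_iff]
      rw [eq_top_iff, ← hsup]
      refine sup_le (le_normalizer_of_conj V _ ?_) (le_normalizer_of_conj M _ ?_)
      · intro v hv n hn
        refine ⟨hVn.conj_mem n hn.1 v, ?_⟩
        have h1 := hKM (hcomm v hv n hn.1)
        have h2 : v * n * v⁻¹ = (v * n * v⁻¹ * n⁻¹) * n := by group
        rw [h2]
        exact M.mul_mem h1 hn.2
      · intro g hg n hn
        exact ⟨hVn.conj_mem n hn.1 g, M.mul_mem (M.mul_mem hg hn.2) (M.inv_mem hg)⟩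
    exact (Subgroup.normal_le_normalCore (hN := hIn)).mpr inf_le_right
  have hKeq : K = V ⊓ M := le_antisymm (le_inf hKV hKM) hI
  obtain ⟨k, hk⟩ := IsPGroup.iff_card.mp hVbq
  have hrel : K.relIndex V = q ^ k := by
    have h1 : K = (⊥ : Subgroup (G ⧸ K)).comap π := by
      rw [MonoidHom.comap_bot, hπ, QuotientGroup.ker_mk']
    have h2 : (Subgroup.comap π ⊥).relIndex V = (⊥ : Subgroup (G ⧸ K)).relIndex (V.map π) :=
      Subgroup.relIndex_comap _ π V
    have h3 : V.map π = Vb := Subgroup.map_comap_eq_self_of_surjective hπs Vb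
    have h4 : K.relIndex V = (Subgroup.comap π ⊥).relIndex V :=
      congrArg (fun X : Subgroup G => X.relIndex V) h1
    rw [h4, h2, h3, Subgroup.relIndex_bot_left, hk]
  have hidx : M.index = q ^ k := by
    have ha : K.relIndex V * V.index = K.index := Subgroup.relIndex_mul_index hKV
    have hb : K.relIndex M * M.index = K.index := Subgroup.relIndex_mul_index hKM
    have hc : K.relIndex M = V.index := by
      have h5 : K.relIndex M = (V ⊓ M).relIndex M :=
        congrArg (fun X : Subgroup G => X.relIndex M) hKeq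
      rw [h5, Subgroup.inf_relIndex_right]
      have h6 : V.relIndex (M ⊔ V) = V.relIndex M := Subgroup.relIndex_sup_right M V
      rw [← h6, sup_comm, hsup, Subgroup.relIndex_top_right]
    have hV0 : V.index ≠ 0 := Subgroup.index_ne_zero_of_finite
    rw [hc] at hb
    rw [← hrel]
    have h7 : V.index * M.index = V.index * K.relIndex V := by rw [hb, ← ha]; ring
    exact Nat.eq_of_mul_eq_mul_left (Nat.pos_of_ne_zero hV0) h7
  refine ⟨V, q, k, hq, hVn, hKV, hrel, hidx, ?_⟩
  intro g hg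
  have hgC : ∀ w ∈ Vb, π g * w = w * π g := by
    intro w hw
    obtain ⟨v, rfl⟩ := hπs w
    have h1 := (hπ1 _).mpr (hg v hw)
    rw [map_mul, map_mul, map_mul, map_inv, map_inv] at h1
    have h2 : π g * π v = (π g * π v * (π g)⁻¹ * (π v)⁻¹) * (π v * π g) := by group
    rw [h2, h1, one_mul]
  have hgtop : g ∈ ((V ⊔ M : Subgroup G) : Set G) := by rw [hsup]; trivial
  rw [Subgroup.normal_mul] at hgtop
  obtain ⟨v, hv, m, hm, rfl⟩ := Set.mem_mul.mp hgtop
  have hmC : ∀ w ∈ Vb, π m * w = w * π m := by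
    intro w hw
    have h1 := hgC w hw
    rw [map_mul] at h1
    have h2 : π v * w = w * π v := hVbab _ hv _ hw
    have h3 : π m * w = (π v)⁻¹ * (π v * π m * w) := by group
    rw [h3, h1]
    have h4 : (π v)⁻¹ * (w * (π v * π m)) = (π v)⁻¹ * (w * π v) * π m := by group
    rw [h4, ← h2]
    group
  have hmK : m ∈ K := by
    show ∀ b : G, b * m * b⁻¹ ∈ M
    intro b
    have hbtop : b ∈ ((M ⊔ V : Subgroup G) : Set G) := by rw [sup_comm, hsup]; trivial
    rw [Subgroup.mul_normal] at hbtop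
    obtain ⟨m₁, hm₁, v₁, hv₁, rfl⟩ := Set.mem_mul.mp hbtop
    have h1 : v₁ * m * v₁⁻¹ * m⁻¹ ∈ K := by
      rw [← hπ1, map_mul, map_mul, map_mul, map_inv, map_inv]
      have h2 := hmC (π v₁) hv₁
      rw [← h2]
      group
    have h3 : m₁ * v₁ * m * (m₁ * v₁)⁻¹ = m₁ * ((v₁ * m * v₁⁻¹ * m⁻¹) * m) * m₁⁻¹ := by group
    rw [h3]
    exact M.mul_mem (M.mul_mem hm₁ (M.mul_mem (hKM h1) hm)) (M.inv_mem hm₁)
  exact V.mul_mem hv (hKV hmK)

end Cfsg.Agent.Lib.Helper52.WinPRIMA
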